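import Cfsg.Agent.Lib.Perm.Trans.TensorPower.Shape

/-!
# Blocks with respect to one factor
-/

set_option autoImplicit false
set_option linter.all false

namespace CfsgLib.Perm.Trans.TensorPower

open scoped Matrix
open Matrix Cfsg.Geo CfsgLib.Perm.Asch CfsgLib.Perm.Trans

variable {m t : ℕ} {F : Type*} [Field F]

local notation "Mat" => Matrix (Fin t → Fin m) (Fin t → Fin m) F

/-- the `(c, a)` block of `X` with respect to the factor `j` -/
def blk (j : Fin t) (c a : Fin m) (X : Mat) : Mat := ∑ r, sx j r c * X * sx j a r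

theorem blk_comm (j : Fin t) (c a u v : Fin m) (X : Mat) : sx j u v * blk j c a X = blk j c a X * sx j u v := by
  have h1 : sx j u v * blk j c a X = sx j u c * X * sx j a v := by
    rw [blk, Finset.mul_sum, Finset.sum_eq_single v (fun r _ hr => by
      rw [← mul_assoc, ← mul_assoc, sx_mul, if_neg (Ne.symm hr), zero_mul, zero_mul]) (by simp)]
    rw [← mul_assoc, ← mul_assoc, sx_mul, if_pos rfl]
  have h2 : blk j c a X * sx j u v = sx j u c * X * sx j a v := by
    rw [blk, Finset.sum_mul, Finset.sum_eq_single u (fun r _ hr => by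
      rw [mul_assoc, sx_mul, if_neg hr, mul_zero]) (by simp)]
    rw [mul_assoc (sx j u c * X), sx_mul, if_pos rfl]
  rw [h1, h2]

theorem blk_sum (j : Fin t) (X : Mat) : ∑ c, ∑ a, sx j c a * blk j c a X = X := by
  have h : ∀ c a, sx j c a * blk j c a X = sx j c c * X * sx j a a := fun c a => by
    rw [blk, Finset.mul_sum, Finset.sum_eq_single a (fun r _ hr => by
      rw [← mul_assoc, ← mul_assoc, sx_mul, if_neg (Ne.symm hr), zero_mul, zero_mul]) (by simp)]
    rw [← mul_assoc, ← mul_assoc, sx_mul, if_pos rfl]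
  simp only [h, ← Finset.mul_sum, ← Finset.sum_mul, sx_sum, mul_one, one_mul]

theorem blk_mul_blk (j : Fin t) (c a b d : Fin m) (X Y : Mat) :
    blk j c a X * blk j b d Y = blk j c d (X * sx j a b * Y) := by
  rw [blk, blk, blk, Finset.sum_mul]
  refine Finset.sum_congr rfl fun r _ => ?_
  rw [Finset.mul_sum, Finset.sum_eq_single r (fun s _ hs => ?_) (by simp)]
  · simp only [mul_assoc]
    rw [← mul_assoc (sx j a r) (sx j r b), sx_mul, if_pos rfl]
  · simp only [mul_assoc]
    rw [← mul_assoc (sx j a r) (sx j s b), sx_mul, if_neg (Ne.symm hs), zero_mul, mul_zero, mul_zero]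

theorem sum_blk_mul (j : Fin t) (c d : Fin m) (X Y : Mat) :
    ∑ e, blk j c e X * blk j e d Y = blk j c d (X * Y) := by
  simp only [blk_mul_blk]
  simp only [blk]
  rw [Finset.sum_comm]
  refine Finset.sum_congr rfl fun r _ => ?_
  rw [← Finset.sum_mul, ← Finset.mul_sum]
  congr 2
  rw [← Finset.sum_mul, ← Finset.mul_sum, sx_sum, mul_one]

theorem blk_one (j : Fin t) (c d : Fin m) : blk j c d (1 : Mat) = if c = d then 1 else 0 := by
  rw [blk]
  simp only [mul_one, sx_mul]
  split_ifs with h
  · exact sx_sum j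
  · exact Finset.sum_const_zero

theorem blk_left {j : Fin t} {B : Mat} (hB : ∀ u v, sx j u v * B = B * sx j u v) (c a : Fin m) (X : Mat) :
    blk j c a (B * X) = B * blk j c a X := by
  rw [blk, blk, Finset.mul_sum]
  refine Finset.sum_congr rfl fun r _ => ?_
  rw [← mul_assoc, hB, mul_assoc B, mul_assoc B]

theorem blk_right {j : Fin t} {B : Mat} (hB : ∀ u v, sx j u v * B = B * sx j u v) (c a : Fin m) (X : Mat) :
    blk j c a (X * B) = blk j c a X * B := by
  rw [blk, blk, Finset.sum_mul]
  refine Finset.sum_congr rfl fun r _ => ?_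
  rw [← mul_assoc, mul_assoc (sx j r c * X), ← hB, ← mul_assoc]

/-- `X` commutes with every factor other than `j` -/
def Off (j : Fin t) (X : Mat) : Prop := ∀ k, k ≠ j → ∀ u v, sx k u v * X = X * sx k u v

theorem Off.blk_scalar (hm : 0 < m) {j : Fin t} {X : Mat} (h : Off j X) (c a : Fin m) :
    ∃ s : F, blk j c a X = s • (1 : Mat) := by
  haveI : Nonempty (Fin m) := ⟨⟨0, hm⟩⟩
  refine scalar_of_commute_slots _ fun i u v => ?_
  show blk j c a X * sx i u v = sx i u v * blk j c a X
  rcases eq_or_ne i j with rfl | hi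
  · exact (blk_comm _ _ _ _ _ _).symm
  · rw [blk, Finset.mul_sum, Finset.sum_mul]
    refine Finset.sum_congr rfl fun r _ => ?_
    calc sx j r c * X * sx j a r * sx i u v = sx j r c * X * (sx j a r * sx i u v) := by rw [mul_assoc]
      _ = sx j r c * (X * sx i u v) * sx j a r := by rw [sx_comm hi.symm]; simp only [mul_assoc]
      _ = (sx j r c * sx i u v) * X * sx j a r := by rw [← h i hi]; simp only [mul_assoc]
      _ = sx i u v * (sx j r c * X * sx j a r) := by rw [sx_comm hi.symm]; simp only [mul_assoc]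

theorem off_slot (j : Fin t) (Y : Matrix (Fin m) (Fin m) F) : Off j (slot j Y : Mat) := fun k hk u v =>
  slot_comm hk _ _

theorem eq_slot_of_blk (j : Fin t) {X : Mat} (h : ∀ c a, ∃ s : F, blk j c a X = s • (1 : Mat)) :
    ∃ Y : Matrix (Fin m) (Fin m) F, X = slot j Y := by
  choose s hs using h
  refine ⟨∑ c, ∑ a, s c a • Matrix.single c a 1, ?_⟩
  conv_lhs => rw [← blk_sum j X]
  rw [← slotHom_apply, map_sum]
  refine Finset.sum_congr rfl fun c _ => ?_
  rw [map_sum]
  refine Finset.sum_congr rfl fun a _ => ?_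
  rw [hs, map_smul, Matrix.mul_smul, mul_one]
  rfl

theorem Off.eq_slot (hm : 0 < m) {j : Fin t} {X : Mat} (h : Off j X) : ∃ Y : Matrix (Fin m) (Fin m) F, X = slot j Y :=
  eq_slot_of_blk j (h.blk_scalar hm)

/-- an element of `GL` whose matrix is in one slot -/
theorem exists_sl (hm : 0 < m) {j : Fin t} {g : GL (Fin t → Fin m) F} {Y : Matrix (Fin m) (Fin m) F}
    (h : (g : Mat) = slot j Y) : ∃ a : GL (Fin m) F, g = sl j a := by
  haveI : Nonempty (Fin m) := ⟨⟨0, hm⟩⟩
  obtain ⟨Z, hZ⟩ := Off.eq_slot hm (X := ((g⁻¹ : GL (Fin t → Fin m) F) : Mat)) fun k hk u v => by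
    have h1 : sx k u v * (g : Mat) = (g : Mat) * sx k u v := by rw [h]; exact off_slot j Y k hk u v
    exact ((Commute.units_inv_right (show Commute (sx k u v) (g : Mat) from h1))).eq
  refine ⟨⟨Y, Z, slot_injective j ?_, slot_injective j ?_⟩, Units.ext (by rw [sl_coe]; exact h)⟩
  · rw [← slot_mul, ← h, ← hZ, gl_mul_inv, slot_one]
  · rw [← slot_mul, ← h, ← hZ, gl_inv_mul, slot_one]

/-! ### coordinate subspaces of one factor -/

/-- the indicator of `J` -/
def ind (J : Finset (Fin m)) : Matrix (Fin m) (Fin m) F := Matrix.diagonal fun a => if a ∈ J then 1 else 0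

theorem slot_single (j : Fin t) (a b : Fin m) : (slot j (Matrix.single a b (1 : F)) : Mat) = sx j a b := rfl

theorem ind_left (j : Fin t) (J : Finset (Fin m)) (a b : Fin m) :
    (slot j (ind J) : Mat) * sx j a b = if a ∈ J then sx j a b else 0 := by
  rw [sx, slot_mul]
  split_ifs with h <;> [congr 1; (rw [← slot_zero j]; congr 1)] <;>
    · ext x y
      rw [ind, Matrix.diagonal_mul, Matrix.single_apply]
      split_ifs with h1 h2 <;> simp_all

theorem ind_right (j : Fin t) (J : Finset (Fin m)) (a b : Fin m) :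
    sx j a b * (slot j (ind J) : Mat) = if b ∈ J then sx j a b else 0 := by
  rw [sx, slot_mul]
  split_ifs with h <;> [congr 1; (rw [← slot_zero j]; congr 1)] <;>
    · ext x y
      rw [ind, Matrix.mul_diagonal, Matrix.single_apply]
      split_ifs with h1 h2 <;> simp_all

theorem ind_idem (j : Fin t) (J : Finset (Fin m)) : (slot j (ind J) : Mat) * slot j (ind J) = slot j (ind J) := by
  rw [slot_mul, ind, Matrix.diagonal_mul_diagonal]
  congr 2
  funext a
  split_ifs <;> simp

/-- supported on the block `J × Jᶜ` of the factor `j` -/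
structure Shp (j : Fin t) (J : Finset (Fin m)) (X : Mat) : Prop where
  left : slot j (ind J) * X = X
  right : X * slot j (ind J) = 0

variable {j : Fin t} {J : Finset (Fin m)}

theorem Shp.mul {X Y : Mat} (hX : Shp j J X) (hY : Shp j J Y) : X * Y = 0 := by
  rw [← hY.left, ← mul_assoc, hX.right, zero_mul]

theorem Shp.sub {X Y : Mat} (hX : Shp j J X) (hY : Shp j J Y) : Shp j J (X - Y) :=
  ⟨by rw [mul_sub, hX.left, hY.left], by rw [sub_mul, hX.right, hY.right, sub_zero]⟩

theorem Shp.conj {X : Mat} (hX : Shp j J X) {g : GL (Fin t → Fin m) F}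
    (hg : (g : Mat) * slot j (ind J) = slot j (ind J) * (g : Mat)) : Shp j J (cj g X) := by
  have hP := cj_eq_self hg
  exact ⟨by rw [← hP, ← cj_mul, hX.left], by rw [← hP, ← cj_mul, hX.right, cj_zero]⟩

theorem sx_shp {a b : Fin m} (ha : a ∈ J) (hb : b ∉ J) : Shp j J (sx j a b : Mat) :=
  ⟨by rw [ind_left, if_pos ha], by rw [ind_right, if_neg hb]⟩

theorem Shp.blk_left {X : Mat} (hX : Shp j J X) {c : Fin m} (hc : c ∉ J) (a : Fin m) : blk j c a X = 0 := by
  rw [← hX.left, blk]
  refine Finset.sum_eq_zero fun r _ => ?_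
  rw [← mul_assoc (sx j r c), ind_right, if_neg hc, zero_mul, zero_mul]

theorem Shp.blk_right {X : Mat} (hX : Shp j J X) (c : Fin m) {a : Fin m} (ha : a ∈ J) : blk j c a X = 0 := by
  rw [blk]
  refine Finset.sum_eq_zero fun r _ => ?_
  rw [show sx (F := F) j a r = slot j (ind J) * sx j a r by rw [ind_left, if_pos ha], mul_assoc, ← mul_assoc X,
    hX.right, zero_mul, mul_zero]

/-- `g` maps the coordinate subspace into itself -/
def Pres (j : Fin t) (J : Finset (Fin m)) (X : Mat) : Prop := X * slot j (ind J) = slot j (ind J) * X * slot j (ind J)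

theorem Pres.one : Pres j J (1 : Mat) := by rw [Pres, one_mul, mul_one, ind_idem]

theorem Pres.mul {X Y : Mat} (hX : Pres j J X) (hY : Pres j J Y) : Pres j J (X * Y) := by
  unfold Pres at *
  calc X * Y * slot j (ind J) = X * (slot j (ind J) * Y * slot j (ind J)) := by rw [mul_assoc, hY]
    _ = (X * slot j (ind J)) * (Y * slot j (ind J)) := by simp only [mul_assoc]
    _ = slot j (ind J) * (X * (slot j (ind J) * Y * slot j (ind J))) := by
        rw [hX]; simp only [mul_assoc]
    _ = _ := by rw [← hY]; simp only [mul_assoc]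

theorem Pres.inv [Finite F] {g : GL (Fin t → Fin m) F} (h : Pres j J (g : Mat)) :
    Pres j J ((g⁻¹ : GL (Fin t → Fin m) F) : Mat) := by
  have hk : ∀ k : ℕ, Pres j J ((g ^ k : GL (Fin t → Fin m) F) : Mat) := fun k => by
    induction k with
    | zero => rw [pow_zero, Units.val_one]; exact Pres.one
    | succ k ih => rw [pow_succ, Units.val_mul]; exact ih.mul h
  have hpos := (isOfFinOrder_of_finite g).orderOf_pos
  have : g⁻¹ = g ^ (orderOf g - 1) :=
    inv_eq_of_mul_eq_one_right (by rw [← pow_succ', Nat.sub_add_cancel hpos, pow_orderOf_eq_one])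
  rw [this]
  exact hk _

theorem Pres.blk {X : Mat} (h : Pres j J X) {c a : Fin m} (hc : c ∉ J) (ha : a ∈ J) :
    CfsgLib.Perm.Trans.TensorPower.blk j c a X = 0 := by
  refine Finset.sum_eq_zero fun r _ => ?_
  rw [show sx (F := F) j a r = slot j (ind J) * sx j a r by rw [ind_left, if_pos ha], mul_assoc, ← mul_assoc X, h,
    ← mul_assoc, ← mul_assoc, ← mul_assoc, ind_right, if_neg hc, zero_mul, zero_mul, zero_mul]

end CfsgLib.Perm.Trans.TensorPower
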