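import Cfsg.Agent.Lib.Perm.Trans.TensorPower.Sum
import Cfsg.Agent.Lib.Perm.Dickson.TwoTransv

/-!
# Two square-zero unipotent elements in odd characteristic
-/

set_option autoImplicit false
set_option linter.all false

namespace CfsgLib.Perm.Trans.TensorPower

open scoped Matrix
open Matrix CfsgLib.Perm.Asch

variable {ι : Type} [Fintype ι] [DecidableEq ι] {F : Type*} [Field F]

/-- commutes with both -/
def Cen (N Y a : Matrix ι ι F) : Prop := a * N = N * a ∧ a * Y = Y * a

variable {N Y a b : Matrix ι ι F}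

theorem Cen.add (ha : Cen N Y a) (hb : Cen N Y b) : Cen N Y (a + b) :=
  ⟨by rw [add_mul, mul_add, ha.1, hb.1], by rw [add_mul, mul_add, ha.2, hb.2]⟩

theorem Cen.sub (ha : Cen N Y a) (hb : Cen N Y b) : Cen N Y (a - b) :=
  ⟨by rw [sub_mul, mul_sub, ha.1, hb.1], by rw [sub_mul, mul_sub, ha.2, hb.2]⟩

theorem Cen.mul (ha : Cen N Y a) (hb : Cen N Y b) : Cen N Y (a * b) :=
  ⟨by rw [mul_assoc, hb.1, ← mul_assoc, ha.1, mul_assoc], by rw [mul_assoc, hb.2, ← mul_assoc, ha.2, mul_assoc]⟩

theorem Cen.one : Cen N Y (1 : Matrix ι ι F) := ⟨by rw [one_mul, mul_one], by rw [one_mul, mul_one]⟩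

theorem Cen.zero : Cen N Y (0 : Matrix ι ι F) := ⟨by rw [zero_mul, mul_zero], by rw [zero_mul, mul_zero]⟩

theorem Cen.smul (ha : Cen N Y a) (c : F) : Cen N Y (c • a) :=
  ⟨by rw [Matrix.smul_mul, Matrix.mul_smul, ha.1], by rw [Matrix.smul_mul, Matrix.mul_smul, ha.2]⟩

theorem cen_casimir (hN : N * N = 0) (hY : Y * Y = 0) : Cen N Y (N * Y + Y * N) := by
  constructor
  · calc (N * Y + Y * N) * N = N * Y * N + Y * (N * N) := by rw [add_mul, mul_assoc Y]
      _ = N * Y * N := by rw [hN, mul_zero, add_zero]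
      _ = (N * N) * Y + N * (Y * N) := by rw [hN, zero_mul, zero_add, mul_assoc]
      _ = N * (N * Y + Y * N) := by rw [mul_add, mul_assoc]
  · calc (N * Y + Y * N) * Y = N * (Y * Y) + Y * N * Y := by rw [add_mul, mul_assoc N]
      _ = Y * N * Y := by rw [hY, mul_zero, zero_add]
      _ = Y * (N * Y) + (Y * Y) * N := by rw [hY, zero_mul, add_zero, mul_assoc]
      _ = Y * (N * Y + Y * N) := by rw [mul_add, mul_assoc Y Y]

theorem Cen.comm (he : Cen N Y a) : (N * Y + Y * N) * a = a * (N * Y + Y * N) := by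
  rw [add_mul, mul_add, mul_assoc, ← he.2, ← mul_assoc, ← he.1, mul_assoc a, mul_assoc Y, ← he.1,
    ← mul_assoc Y, ← he.2, mul_assoc a]

section group
variable {x y z : GL ι F} (hx : (x : Matrix ι ι F) = 1 + N) (hy : (y : Matrix ι ι F) = 1 + Y)
  (hN : N * N = 0) (hY : Y * Y = 0)
include hx hy hN hY

/-- the shape of the elements of `⟨x, y⟩` -/
theorem casimir_shape [Finite F] (hz : z ∈ Subgroup.closure ({x, y} : Set (GL ι F))) :
    ∃ a b c d : Matrix ι ι F, Cen N Y a ∧ Cen N Y b ∧ Cen N Y c ∧ Cen N Y d ∧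
      (z : Matrix ι ι F) = 1 + (N * Y + Y * N) * a + b * N + c * Y + d * (N * Y) ∧
      ((z⁻¹ : GL ι F) : Matrix ι ι F) = 1 + (N * Y + Y * N) * a + d * (N * Y + Y * N) - b * N - c * Y - d * (N * Y) := by
  rw [← Subgroup.mem_toSubmonoid, Subgroup.closure_toSubmonoid_of_finite] at hz
  have hC := cen_casimir hN hY
  set C := N * Y + Y * N with hCdef
  induction hz using Submonoid.closure_induction_right with
  | one => exact ⟨0, 0, 0, 0, Cen.zero, Cen.zero, Cen.zero, Cen.zero, by simp, by simp⟩
  | mul_right g _ h hh ih =>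
    obtain ⟨a, b, c, d, ha, hb, hc, hd, hg, hgi⟩ := ih
    have hCa : Cen N Y (C * a) := hC.mul ha
    have hcC : C * c = c * C := by rw [hCdef]; exact hc.comm
    have hdC : C * d = d * C := by rw [hCdef]; exact hd.comm
    have hbC : C * b = b * C := by rw [hCdef]; exact hb.comm
    clear_value C
    have hYN : Y * N = C - N * Y := by rw [hCdef, add_sub_cancel_left]
    have hNYN : N * Y * N = C * N := by rw [hCdef, add_mul, mul_assoc Y, hN, mul_zero, add_zero]
    have hYNY : Y * (N * Y) = C * Y := by rw [hCdef, add_mul, mul_assoc N, hY, mul_zero, zero_add, mul_assoc]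
    rcases hh with rfl | rfl
    · refine ⟨a + c, b + 1 + C * a + d * C, c, d - c, ha.add hc, ((hb.add Cen.one).add hCa).add (hd.mul hC), hc,
        hd.sub hc, ?_, ?_⟩
      · have p1 : b * N * N = 0 := by rw [mul_assoc, hN, mul_zero]
        have p2 : c * Y * N = C * c - c * (N * Y) := by rw [mul_assoc, hYN, mul_sub, hcC]
        have p3 : d * (N * Y) * N = d * C * N := by rw [mul_assoc, hNYN, mul_assoc]
        rw [Units.val_mul, hg, hx, mul_add, mul_one, add_mul, add_mul, add_mul, add_mul, one_mul, p1, p2, p3]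
        simp only [mul_add, add_mul, sub_mul, one_mul]
        abel
      · have hpre : Cen N Y (1 + C * a + d * C) := (Cen.one.add hCa).add (hd.mul hC)
        have p0 : N * (1 + C * a + d * C) = N + C * a * N + d * C * N := by
          rw [← hpre.1, add_mul, add_mul, one_mul]
        have p1 : N * (b * N) = 0 := by rw [← mul_assoc, ← hb.1, mul_assoc, hN, mul_zero]
        have p2 : N * (c * Y) = c * (N * Y) := by rw [← mul_assoc, ← hc.1, mul_assoc]
        have p3 : N * (d * (N * Y)) = 0 := by
          rw [← mul_assoc, ← hd.1, mul_assoc, ← mul_assoc N, hN, zero_mul, mul_zero]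
        rw [_root_.mul_inv_rev, Units.val_mul, inv_one_add hx hN, hgi, sub_mul 1 N, one_mul, mul_sub, mul_sub, mul_sub,
          p0, p1, p2, p3]
        simp only [mul_add, add_mul, sub_mul, one_mul, hcC, hdC]
        abel
    · refine ⟨a, b, c + 1 + C * a, d + b, ha, hb, (hc.add Cen.one).add hCa, hd.add hb, ?_, ?_⟩
      · have p1 : b * N * Y = b * (N * Y) := mul_assoc _ _ _
        have p2 : c * Y * Y = 0 := by rw [mul_assoc, hY, mul_zero]
        have p3 : d * (N * Y) * Y = 0 := by rw [mul_assoc, mul_assoc N, hY, mul_zero, mul_zero]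
        rw [Units.val_mul, hg, hy, mul_add, mul_one, add_mul, add_mul, add_mul, add_mul, one_mul, p1, p2, p3]
        simp only [mul_add, add_mul, one_mul]
        abel
      · have hpre : Cen N Y (1 + C * a + d * C) := (Cen.one.add hCa).add (hd.mul hC)
        have p0 : Y * (1 + C * a + d * C) = Y + C * a * Y + d * C * Y := by
          rw [← hpre.2, add_mul, add_mul, one_mul]
        have p1 : Y * (b * N) = b * C - b * (N * Y) := by rw [← mul_assoc, ← hb.2, mul_assoc, hYN, mul_sub]
        have p2 : Y * (c * Y) = 0 := by rw [← mul_assoc, ← hc.2, mul_assoc, hY, mul_zero]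
        have p3 : Y * (d * (N * Y)) = d * C * Y := by rw [← mul_assoc, ← hd.2, mul_assoc, hYNY, mul_assoc]
        rw [_root_.mul_inv_rev, Units.val_mul, inv_one_add hy hY, hgi, sub_mul 1 Y, one_mul, mul_sub, mul_sub, mul_sub,
          p0, p1, p2, p3]
        simp only [mul_add, add_mul, sub_mul, one_mul, hcC, hdC, hbC]
        abel

/-- an involution of `⟨x, y⟩` differs from one by a multiple of the Casimir element -/
theorem casimir_involution [Finite F] (h2 : (2 : F) ≠ 0) (hz : z ∈ Subgroup.closure ({x, y} : Set (GL ι F)))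
    (hzz : z * z = 1) : ∃ θ, Cen N Y θ ∧ (z : Matrix ι ι F) = 1 + (N * Y + Y * N) * θ := by
  obtain ⟨a, b, c, d, ha, hb, hc, hd, hg, hgi⟩ := casimir_shape hx hy hN hY hz
  set C := N * Y + Y * N with hC
  rw [inv_eq_of_mul_eq_one_right hzz] at hgi
  refine ⟨a + (2 : F)⁻¹ • d, ha.add (hd.smul _), ?_⟩
  have hdC : d * C = C * d := hd.comm.symm
  have hsum : (2 : F) • (z : Matrix ι ι F) = (2 : F) • (1 + C * (a + (2 : F)⁻¹ • d)) := by
    conv_lhs => rw [two_smul]
    conv_lhs => arg 1; rw [hg]
    conv_lhs => arg 2; rw [hgi]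
    rw [hdC, mul_add, Matrix.mul_smul, smul_add, smul_add, smul_smul, mul_inv_cancel₀ h2, one_smul, two_smul, two_smul]
    abel
  have := congrArg ((2 : F)⁻¹ • ·) hsum
  simpa [smul_smul, inv_mul_cancel₀ h2] using this

/-- with a nilpotent Casimir element the group consists of unipotent elements -/
theorem casimir_unipotent [Finite F] (hn : IsNilpotent (N * Y + Y * N))
    (hz : z ∈ Subgroup.closure ({x, y} : Set (GL ι F))) : IsNilpotent ((z : Matrix ι ι F) - 1) := by
  obtain ⟨a, b, c, d, ha, hb, hc, hd, hg, hgi⟩ := casimir_shape hx hy hN hY hz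
  have hC := cen_casimir hN hY
  set C := N * Y + Y * N with hCdef
  set θ := a + a + d with hθdef
  have hθ : Cen N Y θ := (ha.add ha).add hd
  have comm : ∀ e, Cen N Y e → Commute C e := fun e he => he.comm
  have hsum : (z : Matrix ι ι F) + ((z⁻¹ : GL ι F) : Matrix ι ι F) = 2 + C * θ := by
    rw [hg, hgi, (comm d hd).eq.symm, hθdef, mul_add, mul_add, ← one_add_one_eq_two]
    abel
  have hsq : ((z : Matrix ι ι F) - 1) ^ 2 = C * θ * (z : Matrix ι ι F) := by
    have h1 : C * θ * (z : Matrix ι ι F) = ((z : Matrix ι ι F) + ((z⁻¹ : GL ι F) : Matrix ι ι F) - 2) * (z : Matrix ι ι F) := by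
      rw [hsum, add_sub_cancel_left]
    rw [h1, sub_mul, add_mul, gl_inv_mul, sq, sub_mul, mul_sub, mul_one, one_mul, two_mul]
    abel
  have hcz : Commute C (z : Matrix ι ι F) := by
    rw [hg]
    have hCN : Commute C N := hC.1
    have hCY : Commute C Y := hC.2
    exact ((((Commute.one_right C).add_right ((Commute.refl C).mul_right (comm a ha))).add_right
      ((comm b hb).mul_right hCN)).add_right ((comm c hc).mul_right hCY)).add_right
        ((comm d hd).mul_right (hCN.mul_right hCY))
  obtain ⟨k, hk⟩ := hn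
  refine ⟨2 * k, ?_⟩
  rw [pow_mul, hsq, mul_assoc, ((comm θ hθ).mul_right hcz).mul_pow, hk, zero_mul]

open CfsgLib.Perm.Dickson in
/-- with a non-nilpotent Casimir element the group has even order -/
theorem casimir_even [Fintype F] (h2 : (2 : F) ≠ 0) (hn : ¬ IsNilpotent (N * Y + Y * N)) :
    2 ∣ Nat.card (Subgroup.closure ({x, y} : Set (GL ι F))) := by
  classical
  set C := N * Y + Y * N with hC
  let L := C.charpoly.SplittingField
  let φ : F →+* L := algebraMap F L
  haveI : Finite L := Module.finite_of_finite F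
  have hsp : (C.charpoly.map φ).Splits := Polynomial.SplittingField.splits C.charpoly
  obtain ⟨l, hl, hroot⟩ : ∃ l : L, l ≠ 0 ∧ (C.charpoly.map φ).IsRoot l := by
    by_contra hcon
    push Not at hcon
    have hz : ∀ r ∈ (C.charpoly.map φ).roots, r = 0 := fun r hr => by
      by_contra h
      exact hcon r h (Polynomial.isRoot_of_mem_roots hr)
    have h1 := hsp.eq_prod_roots_of_monic ((C.charpoly_monic).map φ)
    rw [Multiset.map_congr rfl (g := fun _ : L => (Polynomial.X : Polynomial L))
      (fun r hr => by rw [hz r hr, map_zero, sub_zero]), Multiset.map_const',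
      Multiset.prod_replicate] at h1
    refine hn ⟨(C.charpoly.map φ).roots.card, ?_⟩
    have hX : C.charpoly = Polynomial.X ^ (C.charpoly.map φ).roots.card := Polynomial.map_injective φ φ.injective
      (by rw [Polynomial.map_pow, Polynomial.map_X]; exact h1)
    have h0 := C.aeval_self_charpoly
    rw [hX, map_pow, Polynomial.aeval_X] at h0
    exact h0
  have hev : (Matrix.scalar ι l - C.map φ).det = 0 := by
    rw [← Matrix.eval_charpoly, Matrix.charpoly_map]; exact hroot
  obtain ⟨v, hv0, hv⟩ := Matrix.exists_mulVec_eq_zero_iff.2 hev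
  rw [sub_mulVec, sub_eq_zero, Matrix.scalar_apply, ← Matrix.smul_one_eq_diagonal, Matrix.smul_mulVec, one_mulVec] at hv
  set N' := N.map φ with hN'
  set Y' := Y.map φ with hY'
  have hC' : C.map φ = N' * Y' + Y' * N' := by
    show (N * Y + Y * N).map φ = _
    rw [Matrix.map_add φ (map_add φ), Matrix.map_mul, Matrix.map_mul]
  have hNN : N' * N' = 0 := by rw [hN', ← Matrix.map_mul, hN, Matrix.map_zero φ (map_zero φ)]
  have hYY : Y' * Y' = 0 := by rw [hY', ← Matrix.map_mul, hY, Matrix.map_zero φ (map_zero φ)]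
  rw [hC'] at hv
  have hCen := cen_casimir hNN hYY
  obtain ⟨w, hw0, hw⟩ : ∃ w, N' *ᵥ w ≠ 0 ∧ (N' * Y' + Y' * N') *ᵥ w = l • w := by
    by_cases h : N' *ᵥ v = 0
    · refine ⟨Y' *ᵥ v, fun e => ?_, ?_⟩
      · rw [add_mulVec, ← mulVec_mulVec, e, ← mulVec_mulVec, h, mulVec_zero, add_zero] at hv
        exact smul_ne_zero hl hv0 hv
      · rw [mulVec_mulVec, hCen.2, ← mulVec_mulVec, ← hv, mulVec_smul]
    · exact ⟨v, h, hv.symm⟩
  set e1 := N' *ᵥ w with he1
  set e2 := Y' *ᵥ e1 with he2
  have hNe1 : N' *ᵥ e1 = 0 := by rw [he1, mulVec_mulVec, hNN, zero_mulVec]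
  have hYe2 : Y' *ᵥ e2 = 0 := by rw [he2, mulVec_mulVec, hYY, zero_mulVec]
  have hNe2 : N' *ᵥ e2 = l • e1 := by
    have h1 : (N' * Y' + Y' * N') *ᵥ e1 = l • e1 := by rw [he1, mulVec_mulVec, hCen.1, ← mulVec_mulVec, hw, mulVec_smul]
    rw [add_mulVec, ← mulVec_mulVec, ← mulVec_mulVec, hNe1, mulVec_zero, add_zero] at h1
    exact h1
  set E : Matrix ι (Fin 2) L := Matrix.of fun r c => ![e1, e2] c r with hE
  have hEv : ∀ u : Fin 2 → L, E *ᵥ u = u 0 • e1 + u 1 • e2 := fun u => funext fun r => by
    simp [hE, Matrix.mulVec, dotProduct, Fin.sum_univ_two, mul_comm]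
  have hEinj : ∀ u : Fin 2 → L, E *ᵥ u = 0 → u = 0 := by
    intro u hu
    rw [hEv] at hu
    have h2' := congrArg (N' *ᵥ ·) hu
    simp only [mulVec_add, mulVec_smul, hNe1, hNe2, smul_zero, zero_add, mulVec_zero, smul_smul] at h2'
    have hb : u 1 = 0 := (mul_eq_zero.1 ((smul_eq_zero.1 h2').resolve_right hw0)).resolve_right hl
    rw [hb, zero_smul, add_zero] at hu
    funext i
    fin_cases i
    · exact (smul_eq_zero.1 hu).resolve_right hw0
    · exact hb
  let L0 := Subfield.closure ({l} : Set L)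
  let l0 : L0 := ⟨l, Subfield.subset_closure rfl⟩
  have hgen : Subfield.closure ({l0} : Set L0) = ⊤ := by
    rw [eq_top_iff]
    rintro ⟨a, ha⟩ -
    induction ha using Subfield.closure_induction with
    | mem a h => obtain rfl : a = l := h; exact Subfield.subset_closure rfl
    | one => exact one_mem (Subfield.closure ({l0} : Set L0))
    | add a b ha hb iha ihb => exact add_mem iha ihb
    | neg a ha iha => exact neg_mem iha
    | inv a ha iha => exact inv_mem iha
    | mul a b ha hb iha ihb => exact mul_mem iha ihb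
  let S : Subgroup (GL ι F × SL2F L0) := Subgroup.closure {(x, trA l0), (y, trB)}
  have hrel : ∀ s ∈ S, (s.1 : Matrix ι ι F).map φ * E = E * (s.2.1).map L0.subtype := by
    intro s hs
    rw [← Subgroup.mem_toSubmonoid, Subgroup.closure_toSubmonoid_of_finite] at hs
    induction hs using Submonoid.closure_induction_right with
    | one =>
      show ((1 : GL ι F) : Matrix ι ι F).map φ * E = E * ((1 : Matrix (Fin 2) (Fin 2) L0)).map L0.subtype
      rw [Units.val_one, Matrix.map_one φ (map_zero φ) (map_one φ), Matrix.map_one _ (map_zero _) (map_one _),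
        Matrix.one_mul, Matrix.mul_one]
    | mul_right s _ s' hs' ih =>
      have hstep : (s'.1 : Matrix ι ι F).map φ * E = E * (s'.2.1).map L0.subtype := by
        rcases hs' with rfl | rfl
        · refine Matrix.ext_iff_mulVec.2 fun u => ?_
          rw [← mulVec_mulVec, ← mulVec_mulVec, hEv, hEv, hx, Matrix.map_add φ (map_add φ),
            Matrix.map_one φ (map_zero φ) (map_one φ), ← hN', add_mulVec, one_mulVec, mulVec_add, mulVec_smul,
            mulVec_smul, hNe1, hNe2]
          simp [trA, Matrix.mulVec, dotProduct, Fin.sum_univ_two, l0, add_smul, smul_smul, mul_comm]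
          abel
        · refine Matrix.ext_iff_mulVec.2 fun u => ?_
          rw [← mulVec_mulVec, ← mulVec_mulVec, hEv, hEv, hy, Matrix.map_add φ (map_add φ),
            Matrix.map_one φ (map_zero φ) (map_one φ), ← hY', add_mulVec, one_mulVec, mulVec_add, mulVec_smul,
            mulVec_smul, hYe2, ← he2]
          simp [trB, Matrix.mulVec, dotProduct, Fin.sum_univ_two, add_smul]
          abel
      show ((s.1 * s'.1 : GL ι F) : Matrix ι ι F).map φ * E = E * (s.2.1 * s'.2.1).map L0.subtype
      rw [Units.val_mul, Matrix.map_mul, Matrix.mul_assoc, hstep, ← Matrix.mul_assoc, ih, Matrix.mul_assoc,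
        ← Matrix.map_mul]
  haveI : Finite (GL ι F × SL2F L0) := inferInstance
  have hfst : Function.Injective ((MonoidHom.fst (GL ι F) (SL2F L0)).comp S.subtype) := by
    rw [injective_iff_map_eq_one]
    rintro ⟨⟨g, A⟩, hs⟩ h1
    simp only [MonoidHom.coe_comp, Subgroup.coe_subtype, MonoidHom.coe_fst, Function.comp_apply] at h1
    subst h1
    have h3 := hrel _ hs
    simp only [Units.val_one, Matrix.map_one φ (map_zero φ) (map_one φ), Matrix.one_mul] at h3
    have hA : (A.1).map L0.subtype = 1 := Matrix.ext_iff_mulVec.2 fun u => by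
      rw [one_mulVec, ← sub_eq_zero]
      refine hEinj _ ?_
      rw [mulVec_sub, mulVec_mulVec, ← h3, sub_self]
    have : A = 1 := Subtype.ext (Matrix.ext fun i j => L0.subtype.injective (by
      have := congrFun (congrFun hA i) j
      rw [Matrix.map_apply] at this
      rw [this]
      by_cases hij : i = j
      · subst hij; simp
      · simp [hij]))
    subst this; rfl
  have hKS : Subgroup.closure ({x, y} : Set (GL ι F)) = S.map (MonoidHom.fst _ _) := by
    rw [MonoidHom.map_closure, Set.image_pair]; rfl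
  have hcardS : Nat.card S = Nat.card (S.map (MonoidHom.fst _ _)) :=
    Nat.card_congr (Equiv.ofBijective (fun s : S => (⟨s.1.1, s.1, s.2, rfl⟩ : S.map (MonoidHom.fst (GL ι F) (SL2F L0))))
      ⟨fun a b hab => hfst (congrArg Subtype.val hab), fun ⟨g, s, hs, hsg⟩ => ⟨⟨s, hs⟩, Subtype.ext hsg⟩⟩)
  rw [hKS, ← hcardS]
  have hsnd : (Subgroup.closure {trA l0, (trB : SL2F L0)}).map slToG2 = S.map (slToG2.comp (MonoidHom.snd _ _)) := by
    rw [← Subgroup.map_map, MonoidHom.map_closure (MonoidHom.snd (GL ι F) (SL2F L0)), Set.image_pair]; rfl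
  refine dvd_trans ?_ (hsnd ▸ S.card_map_dvd (slToG2.comp (MonoidHom.snd _ _)) :
    Nat.card ((Subgroup.closure {trA l0, (trB : SL2F L0)}).map slToG2) ∣ Nat.card S)
  haveI : Fact (ringChar F).Prime := ⟨CharP.char_is_prime F _⟩
  haveI : CharP L0 (ringChar F) := by
    haveI : CharP L (ringChar F) := charP_of_injective_ringHom φ.injective _
    exact (L0.subtype.charP_iff L0.subtype.injective _).2 inferInstance
  have hpne : ringChar F ≠ 2 := fun e => h2 (by
    have := CharP.cast_eq_zero F (ringChar F); rw [e] at this; exact_mod_cast this)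
  have h2' : (2 : L0) ≠ 0 := fun e => h2 (φ.injective (by
    rw [map_ofNat, map_zero]
    have := congrArg L0.subtype e
    rwa [map_ofNat, map_zero] at this))
  rcases transv_image_cases (ringChar F) h2' hpne (l := l0) (fun e => hl (congrArg Subtype.val e)) hgen with h | ⟨hq, hl2⟩
  · rw [h]
    obtain ⟨n, hn1, hq⟩ := card_eq_pow (F := L0) (ringChar F)
    have hodd : Odd (Nat.card L0) := by
      rw [hq]
      exact ((CharP.char_is_prime F (ringChar F)).odd_of_ne_two hpne).pow
    have hc := card_psl L0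
    rw [gcd_odd hodd] at hc
    obtain ⟨k, hk⟩ := hodd
    rw [hk, show 2 * k + 1 - 1 = 2 * k by omega] at hc
    refine ⟨(2 * k + 1) * (k * (k + 1)), ?_⟩
    nlinarith
  · have h3 : (3 : L0) = 0 := by
      obtain ⟨n, hn1, hq'⟩ := card_eq_pow (F := L0) (ringChar F)
      have hd : ringChar F ∣ 3 ^ 2 := by
        rw [show 3 ^ 2 = Nat.card L0 by rw [hq]; norm_num, hq']
        exact dvd_pow_self _ (by omega)
      have h3' := (Nat.prime_dvd_prime_iff_eq (CharP.char_is_prime F _) Nat.prime_three).1
        ((CharP.char_is_prime F (ringChar F)).dvd_of_dvd_pow hd)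
      have := CharP.cast_eq_zero L0 (ringChar F)
      rw [h3'] at this
      exact_mod_cast this
    rw [icosa_transv h2' h3 hl2]
    norm_num

end group

end CfsgLib.Perm.Trans.TensorPower
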