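import Cfsg.Agent.Lib.Perm.Trans.TensorPower.TwoMain

/-!
# The induction on the number of factors
-/

set_option autoImplicit false
set_option linter.all false

namespace CfsgLib.Perm.Trans.TensorPower

open scoped Matrix Kronecker
open Matrix Cfsg.Geo CfsgLib.Perm.Asch CfsgLib.Perm.Trans

variable {m s : ℕ} {F : Type*} [Field F]

/-- matrices of the factors other than `j` -/
def emb (j : Fin (s + 1)) :
    Matrix (Fin s → Fin m) (Fin s → Fin m) F →ₐ[F] Matrix (Fin (s + 1) → Fin m) (Fin (s + 1) → Fin m) F :=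
  (rx (Fin.insertNthEquiv (fun _ => Fin m) j).symm).toAlgHom.comp (kr (Fin m) (Fin s → Fin m) F)

theorem emb_apply (j : Fin (s + 1)) (X : Matrix (Fin s → Fin m) (Fin s → Fin m) F) (x y : Fin (s + 1) → Fin m) :
    emb j X x y = if x j = y j then X (fun i => x (j.succAbove i)) (fun i => y (j.succAbove i)) else 0 := by
  show ((1 : Matrix (Fin m) (Fin m) F) ⊗ₖ X) (x j, Fin.removeNth j x) (y j, Fin.removeNth j y) = _
  rw [Matrix.kronecker_apply, Matrix.one_apply]
  split_ifs with h
  · rw [one_mul]; rfl
  · rw [zero_mul]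

theorem emb_injective [NeZero m] (j : Fin (s + 1)) : Function.Injective (emb (m := m) (F := F) j) := fun X Y h => by
  haveI : Nonempty (Fin m) := ⟨0⟩
  exact kr_injective ((rx (Fin.insertNthEquiv (fun _ => Fin m) j).symm).injective h)

/-- the same on invertible matrices -/
def embGL (j : Fin (s + 1)) : GL (Fin s → Fin m) F →* GL (Fin (s + 1) → Fin m) F :=
  Units.map (emb j).toRingHom.toMonoidHom

theorem embGL_coe (j : Fin (s + 1)) (g : GL (Fin s → Fin m) F) :
    (embGL j g : Matrix (Fin (s + 1) → Fin m) (Fin (s + 1) → Fin m) F) = emb j (g : Matrix _ _ F) := rfl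

theorem emb_pure (j : Fin (s + 1)) (A : Fin s → Matrix (Fin m) (Fin m) F) :
    emb j (CfsgLib.Perm.Asch.pure A) =
      CfsgLib.Perm.Asch.pure (Fin.insertNth j (1 : Matrix (Fin m) (Fin m) F) A) := by
  ext x y
  rw [emb_apply, pure_apply, pure_apply, Fin.prod_univ_succAbove _ j]
  simp only [Fin.insertNth_apply_same, Fin.insertNth_apply_succAbove, Matrix.one_apply]
  split_ifs with h
  · rw [one_mul]
  · rw [zero_mul]

theorem embGL_pure (j : Fin (s + 1)) (A : Fin s → GL (Fin m) F) :
    embGL j (pureGL A) = pureGL (Fin.insertNth j (1 : GL (Fin m) F) A) := Units.ext (by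
  rw [embGL_coe, pureGL_coe, pureGL_coe, emb_pure]
  congr 1
  funext l
  rcases Fin.eq_self_or_eq_succAbove j l with rfl | ⟨i, rfl⟩
  · simp
  · simp)

theorem embGL_sl (j : Fin (s + 1)) (i : Fin s) (a : GL (Fin m) F) : embGL j (sl i a) = sl (j.succAbove i) a := by
  rw [sl_eq_pureGL, sl_eq_pureGL, embGL_pure]
  congr 1
  funext l
  rcases Fin.eq_self_or_eq_succAbove j l with rfl | ⟨k, rfl⟩
  · simp [Pi.mulSingle_eq_of_ne (Fin.ne_succAbove _ i)]
  · rcases eq_or_ne k i with rfl | hk
    · simp
    · simp [Pi.mulSingle_eq_of_ne hk, Pi.mulSingle_eq_of_ne (Fin.succAbove_right_injective.ne hk)]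

theorem embGL_perm (j : Fin (s + 1)) (σ : Equiv.Perm (Fin s)) (σ' : Equiv.Perm (Fin (s + 1))) (hj : σ' j = j)
    (hσ : ∀ i, σ' (j.succAbove i) = j.succAbove (σ i)) :
    embGL j (permGL (κ := Fin m) (F := F) σ) = permGL σ' := Units.ext (by
  ext x y
  rw [embGL_coe, permGL_coe, permGL_coe, emb_apply, permMat, permMat, Matrix.of_apply, Matrix.of_apply]
  by_cases h : x j = y j
  · rw [if_pos h]
    refine if_congr ⟨fun e => funext fun l => ?_, fun e => funext fun i => ?_⟩ rfl rfl
    · rcases Fin.eq_self_or_eq_succAbove j l with rfl | ⟨i, rfl⟩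
      · simp [hj, h]
      · simpa [hσ] using congrFun e i
    · simpa [hσ] using congrFun e (j.succAbove i)
  · rw [if_neg h, if_neg]
    intro e
    exact h (by rw [e]; simp [hj]))

/-- a permutation of the other factors -/
theorem exists_extend (j : Fin (s + 1)) (σ : Equiv.Perm (Fin s)) :
    ∃ σ' : Equiv.Perm (Fin (s + 1)), σ' j = j ∧ ∀ i, σ' (j.succAbove i) = j.succAbove (σ i) := by
  refine ⟨⟨Fin.insertNth j j (fun i => j.succAbove (σ i)), Fin.insertNth j j (fun i => j.succAbove (σ.symm i)),
    fun l => ?_, fun l => ?_⟩, by simp, by simp⟩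
  · rcases Fin.eq_self_or_eq_succAbove j l with rfl | ⟨i, rfl⟩ <;> simp
  · rcases Fin.eq_self_or_eq_succAbove j l with rfl | ⟨i, rfl⟩ <;> simp

theorem emb_comm_units (j : Fin (s + 1)) (X : Matrix (Fin s → Fin m) (Fin s → Fin m) F) (u v : Fin m) :
    sx j u v * emb j X = emb j X * sx j u v := by
  ext x y
  rw [sx_mul_apply, mul_sx_apply, emb_apply, emb_apply]
  simp only [Function.update_self, Function.update_of_ne (Fin.succAbove_ne j _)]
  by_cases h1 : x j = u <;> by_cases h2 : y j = v <;> simp [h1, h2, Ne.symm]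

theorem embGL_comm (j : Fin (s + 1)) (a : GL (Fin m) F) (b : GL (Fin s → Fin m) F) :
    sl j a * embGL j b = embGL j b * sl j a := Units.ext (by
  rw [Units.val_mul, Units.val_mul, sl_coe, embGL_coe]
  exact comm_slot_of_units (emb_comm_units j _) _)

/-- what commutes with the `j`-th factor comes from the others -/
theorem eq_emb [NeZero m] (j : Fin (s + 1)) {X : Matrix (Fin (s + 1) → Fin m) (Fin (s + 1) → Fin m) F}
    (h : ∀ u v, sx j u v * X = X * sx j u v) : ∃ B, X = emb j B := by
  refine ⟨Matrix.of fun p q => X (j.insertNth 0 p) (j.insertNth 0 q), ?_⟩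
  ext x y
  rw [emb_apply, Matrix.of_apply]
  have e := congrFun (congrFun (h 0 (x j)) (j.insertNth 0 fun i => x (j.succAbove i))) y
  rw [sx_mul_apply, mul_sx_apply, Fin.insertNth_apply_same, if_pos rfl, Fin.update_insertNth,
    show j.insertNth (x j) (fun i => x (j.succAbove i)) = x from Fin.insertNth_self_removeNth j x] at e
  rw [e, show Function.update y j 0 = j.insertNth 0 (fun i => y (j.succAbove i)) by
    funext l
    rcases Fin.eq_self_or_eq_succAbove j l with rfl | ⟨i, rfl⟩
    · simp
    · simp [Function.update_of_ne (Fin.succAbove_ne j i)]]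
  exact if_congr eq_comm rfl rfl

theorem exists_embGL [NeZero m] (j : Fin (s + 1)) {x : GL (Fin (s + 1) → Fin m) F}
    (h : ∀ u v, sx j u v * (x : Matrix (Fin (s + 1) → Fin m) (Fin (s + 1) → Fin m) F) =
      (x : Matrix (Fin (s + 1) → Fin m) (Fin (s + 1) → Fin m) F) * sx j u v) :
    ∃ b, x = embGL j b := by
  obtain ⟨B, hB⟩ := eq_emb j h
  obtain ⟨B', hB'⟩ := eq_emb j (X := ((x⁻¹ : GL (Fin (s + 1) → Fin m) F) :
    Matrix (Fin (s + 1) → Fin m) (Fin (s + 1) → Fin m) F))
    (fun u v => (Commute.units_inv_right (show Commute (sx j u v) (x : Matrix (Fin (s + 1) → Fin m) (Fin (s + 1) → Fin m) F) from h u v)).eq)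
  exact ⟨⟨B, B', emb_injective j (by rw [map_mul, map_one, ← hB, ← hB', gl_mul_inv]),
    emb_injective j (by rw [map_mul, map_one, ← hB, ← hB', gl_inv_mul])⟩, Units.ext hB⟩

theorem tw_of_one (hm : 0 < m) (g : GL (Fin 1 → Fin m) F) : g ∈ tensorWreathStandard m 1 F := by
  refine tw_of_slots hm Nat.one_pos 1 fun i a b => ?_
  obtain ⟨Y, hY⟩ := Off.eq_slot hm (j := i) (X := cj g (sx i a b))
    fun k hk u v => absurd (Subsingleton.elim k i) hk
  exact ⟨Y, hY⟩

/-- the overgroup on the factors other than `j` -/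
def drop (M : Subgroup (GL (Fin (s + 1) → Fin m) F)) (j : Fin (s + 1)) : Subgroup (GL (Fin s → Fin m) F) where
  carrier := {b | ∃ a : GL (Fin m) F, sl j a * embGL j b ∈ M}
  one_mem' := ⟨1, by rw [sl_one, map_one, one_mul]; exact M.one_mem⟩
  mul_mem' := by
    rintro b b' ⟨a, ha⟩ ⟨a', ha'⟩
    refine ⟨a * a', ?_⟩
    have e : sl j (a * a') * embGL j (b * b') = sl j a * embGL j b * (sl j a' * embGL j b') := by
      rw [← sl_mul, map_mul]
      simp only [mul_assoc]
      rw [← mul_assoc (sl j a'), embGL_comm, mul_assoc]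
    rw [e]; exact M.mul_mem ha ha'
  inv_mem' := by
    rintro b ⟨a, ha⟩
    refine ⟨a⁻¹, ?_⟩
    have e : sl j a⁻¹ * embGL j b⁻¹ = (sl j a * embGL j b)⁻¹ := by
      rw [embGL_comm j a b, _root_.mul_inv_rev, sl_inv, map_inv]
    rw [e]; exact M.inv_mem ha

theorem vmv_single {ι : Type} [DecidableEq ι] (p q : ι) :
    vecMulVec (Pi.single p (1 : F)) (Pi.single q 1) = Matrix.single p q 1 := by
  ext x y
  rw [vecMulVec_apply, Matrix.single_apply, Pi.single_apply, Pi.single_apply]
  by_cases h1 : p = x
  · by_cases h3 : q = y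
    · simp [h1, h3]
    · simp [h1, h3, Ne.symm h3]
  · simp [h1, Ne.symm h1]

variable [Fintype F]

/-- the centraliser of one factor in an overgroup -/
theorem inner_of (hm : 3 ≤ m) (hs : 2 ≤ s)
    (ih : ∀ K : Subgroup (GL (Fin s → Fin m) F), HasBase K → HasPerms K →
      ¬ specialLinear (Fin s → Fin m) F ≤ K → K ≤ tensorWreathStandard m s F) :
    InnerHyp m (s + 1) F := by
  classical
  haveI : NeZero m := ⟨by omega⟩
  intro M hB hP hne j x hxM hx
  have hKB : HasBase (drop M j) := fun i a ha =>
    ⟨1, by rw [sl_one, one_mul, embGL_sl]; exact hB _ a ha⟩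
  have hKP : HasPerms (drop M j) := by
    intro a b c hab hac hbc
    obtain ⟨A, hA⟩ := hP (j.succAbove a) (j.succAbove b) (j.succAbove c) (Fin.succAbove_right_injective.ne hab)
      (Fin.succAbove_right_injective.ne hac) (Fin.succAbove_right_injective.ne hbc)
    set σ' := Equiv.swap (j.succAbove a) (j.succAbove b) * Equiv.swap (j.succAbove a) (j.succAbove c) with hσ'
    have hj : σ' j = j := by
      simp [hσ', Equiv.Perm.mul_apply, Equiv.swap_apply_of_ne_of_ne, Fin.ne_succAbove]
    have hσ : ∀ i, σ' (j.succAbove i) = j.succAbove ((Equiv.swap a b * Equiv.swap a c) i) := fun i => by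
      simp only [hσ', Equiv.Perm.mul_apply, Fin.succAbove_right_injective.swap_apply]
    refine ⟨fun i => A (j.succAbove i), A j, ?_⟩
    rw [map_mul, embGL_perm j _ σ' hj hσ, embGL_pure, ← mul_assoc]
    have e : sl j (A j) * permGL σ' = permGL (κ := Fin m) (F := F) σ' * sl j (A j) := by
      rw [sl_eq_pureGL, pureGL_perm]
      congr 2
      funext l
      rcases eq_or_ne l j with rfl | hl
      · simp [hj]
      · have : σ' l ≠ j := fun e => hl (σ'.injective (e.trans hj.symm))
        simp [Pi.mulSingle_eq_of_ne hl, Pi.mulSingle_eq_of_ne this]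
    rw [e, mul_assoc, sl_eq_pureGL, pureGL_mul]
    convert hA using 3
    funext l
    rcases Fin.eq_self_or_eq_succAbove j l with rfl | ⟨i, rfl⟩
    · simp
    · simp [Pi.mulSingle_eq_of_ne (Fin.succAbove_ne j i)]
  by_cases hle : specialLinear (Fin s → Fin m) F ≤ drop M j
  · exfalso
    apply hne
    let z : Fin m := ⟨0, by omega⟩
    let o : Fin m := ⟨1, by omega⟩
    let k : Fin m := ⟨2, by omega⟩
    have hzo : z ≠ o := by simp [z, o, Fin.ext_iff]
    have hko : k ≠ o := by simp [k, o, Fin.ext_iff]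
    have hzk : z ≠ k := by simp [z, k, Fin.ext_iff]
    let i : Fin s := ⟨0, by omega⟩
    let zc : Fin s → Fin m := fun _ => z
    let oc : Fin s → Fin m := fun _ => o
    let p : Fin s → Fin m := Function.update zc i k
    have hpq : p ≠ oc := fun e => hko (by simpa [p, oc] using congrFun e i)
    have horth : (Pi.single oc 1 : (Fin s → Fin m) → F) ⬝ᵥ Pi.single p 1 = 0 := by
      simp [dotProduct_single, hpq, hpq.symm]
    set b := tv (Pi.single p 1) (Pi.single oc 1) horth with hb
    obtain ⟨a, ha⟩ := hle (tv_mem_SL _ _ horth)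
    set b' := sl (F := F) i (er z k hzk) with hb'
    have hb'M : embGL j b' ∈ M := by rw [hb', embGL_sl]; exact hB _ _ (er_det hzk)
    have hcomm : embGL j (b' * b * b'⁻¹ * b⁻¹) ∈ M := by
      have e : embGL j (b' * b * b'⁻¹ * b⁻¹) =
          embGL j b' * (sl j a * embGL j b) * (embGL j b')⁻¹ * (sl j a * embGL j b)⁻¹ := by
        rw [← mul_assoc (embGL j b'), ← embGL_comm j a b']
        simp only [map_mul, map_inv, _root_.mul_inv_rev]
        have hc2 : Commute (sl j a) (embGL j b' * embGL j b * (embGL j b')⁻¹ * (embGL j b)⁻¹) :=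
          (((show Commute (sl j a) (embGL j b') from embGL_comm j a b').mul_right
            (show Commute (sl j a) (embGL j b) from embGL_comm j a b)).mul_right
              (show Commute (sl j a) (embGL j b') from embGL_comm j a b').inv_right).mul_right
                (show Commute (sl j a) (embGL j b) from embGL_comm j a b).inv_right
        calc embGL j b' * embGL j b * (embGL j b')⁻¹ * (embGL j b)⁻¹
            = sl j a * (embGL j b' * embGL j b * (embGL j b')⁻¹ * (embGL j b)⁻¹) * (sl j a)⁻¹ := by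
              rw [hc2.eq, mul_inv_cancel_right]
          _ = _ := by group
      rw [e]
      exact M.mul_mem (M.mul_mem (M.mul_mem hb'M ha) (M.inv_mem hb'M)) (M.inv_mem ha)
    set X : Matrix (Fin s → Fin m) (Fin s → Fin m) F := sx i z k with hX
    set Y : Matrix (Fin s → Fin m) (Fin s → Fin m) F := Matrix.single p oc 1 with hY
    have hbc : (b : Matrix (Fin s → Fin m) (Fin s → Fin m) F) = 1 + Y := by
      rw [hb, tv_coe, hY, vmv_single]
    have hb'c : (b' : Matrix (Fin s → Fin m) (Fin s → Fin m) F) = 1 + X := by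
      rw [hb', sl_coe, er_coe, slot_add, slot_one]; rfl
    have hXX : X * X = 0 := by rw [hX, sx_mul, if_neg hzk.symm]
    have hYY : Y * Y = 0 := by rw [hY, Matrix.single_mul_single_of_ne (h := hpq.symm)]
    have hYX : Y * X = 0 := by
      ext x y
      rw [hX, hY, mul_sx_apply, Matrix.zero_apply]
      split_ifs with h
      · rw [Matrix.single_apply, if_neg]
        rintro ⟨-, e⟩
        exact hzo (by simpa [oc] using (congrFun e i).symm)
      · rfl
    have hXY : X * Y = Matrix.single zc oc 1 := by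
      ext x y
      rw [hX, hY, sx_mul_apply, Matrix.single_apply, Matrix.single_apply]
      by_cases h1 : x i = z
      · rw [if_pos h1]
        refine if_congr (and_congr_left' ⟨fun e => ?_, fun e => ?_⟩) rfl rfl
        · funext l
          rcases eq_or_ne l i with rfl | hl
          · exact h1.symm
          · simpa [p, hl] using congrFun e l
        · rw [← e]
      · rw [if_neg h1, if_neg]
        rintro ⟨e, -⟩
        exact h1 (by rw [← e])
    have hval : ((b' * b * b'⁻¹ * b⁻¹ : GL (Fin s → Fin m) F) : Matrix (Fin s → Fin m) (Fin s → Fin m) F) =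
        1 + Matrix.single zc oc 1 := by
      rw [Units.val_mul, Units.val_mul, Units.val_mul, hb'c, hbc, inv_one_add hb'c hXX, inv_one_add hbc hYY, ← hXY]
      have h1 : X * (Y * X) = 0 := by rw [hYX, mul_zero]
      have h3 : X * (Y * Y) = 0 := by rw [hYY, mul_zero]
      simp only [mul_sub, sub_mul, mul_add, add_mul, mul_one, one_mul, mul_assoc, hXX, hYY, hYX, h1, h3, mul_zero,
        sub_zero, add_zero, zero_add]
      abel
    refine sl_le_of_pattern hm hB hP (L := Finset.univ.erase j) (a := j.insertNth z zc) (b := j.insertNth z oc) ?_ ?_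
      (one_ne_zero (α := F)) ⟨_, hcomm, ?_⟩
    · rw [Finset.card_erase_of_mem (Finset.mem_univ j), Finset.card_univ, Fintype.card_fin]; omega
    · intro l hl
      obtain ⟨q, rfl⟩ := Fin.exists_succAbove_eq (Finset.ne_of_mem_erase hl)
      simpa [zc, oc] using hzo
    · rw [embGL_coe, hval, map_add, map_one, ← pure_single, emb_pure, pp, one_smul]
      congr 2
      funext l
      rcases Fin.eq_self_or_eq_succAbove j l with rfl | ⟨q, rfl⟩
      · simp
      · simp [Fin.succAbove_ne j q]
  · obtain ⟨b, rfl⟩ := exists_embGL j hx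
    obtain ⟨σ, B, hσB⟩ := tw_shape (ih _ hKB hKP hle (show b ∈ drop M j from
      ⟨1, by rw [sl_one, one_mul]; exact hxM⟩))
    obtain ⟨σ', hj, hσ⟩ := exists_extend j σ
    rw [hσB, map_mul, embGL_perm j σ σ' hj hσ, embGL_pure]
    exact mul_mem (perm_mem_tw σ') (pure_mem_tw _)

/-- a proper overgroup of the base group and the factor three-cycles lies in the wreath subgroup -/
theorem le_tw (hm : 3 ≤ m) : ∀ (t : ℕ) (M : Subgroup (GL (Fin t → Fin m) F)), HasBase M → HasPerms M →
    ¬ specialLinear (Fin t → Fin m) F ≤ M → M ≤ tensorWreathStandard m t F := by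
  intro t
  induction t with
  | zero =>
    intro M _ _ hne
    refine absurd (fun g hg => ?_) hne
    have hd : (g : Matrix (Fin 0 → Fin m) (Fin 0 → Fin m) F).det = 1 := congrArg Units.val hg
    rw [show g = 1 from Units.ext (Matrix.ext fun a b => by
      rw [Matrix.det_eq_elem_of_subsingleton _ a] at hd
      rw [Subsingleton.elim b a, Units.val_one, hd, Matrix.one_apply_eq])]
    exact M.one_mem
  | succ s ih =>
    intro M hB hP hne
    rcases Nat.lt_or_ge s 1 with hs | hs
    · obtain rfl : s = 0 := by omega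
      exact fun g _ => tw_of_one (by omega) g
    have hinner : InnerHyp m (s + 1) F := by
      rcases Nat.lt_or_ge s 2 with hs2 | hs2
      · obtain rfl : s = 1 := by omega
        intro M' hB' hP' hne' j x hxM hx
        haveI : NeZero m := ⟨by omega⟩
        obtain ⟨b, rfl⟩ := exists_embGL j hx
        obtain ⟨σ, B, rfl⟩ := tw_shape (tw_of_one (by omega) b)
        obtain ⟨σ', hj, hσ⟩ := exists_extend j σ
        rw [map_mul, embGL_perm j σ σ' hj hσ, embGL_pure]
        exact mul_mem (perm_mem_tw σ') (pure_mem_tw _)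
      · exact inner_of hm hs2 ih
    have h : Ctx M := ⟨hm, hB, hP, hne, hinner⟩
    by_cases h2 : (2 : F) = 0
    · exact h.main_two h2 (by omega)
    · exact h.main_odd h2

end CfsgLib.Perm.Trans.TensorPower
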