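import Cfsg.Agent.Lib.Perm.Trans.TensorPower.Main

/-!
# Maximality of the tensor wreath subgroup in the special linear group
-/

set_option autoImplicit false
set_option linter.all false

namespace CfsgLib.Perm.Trans.TensorPower

open scoped Matrix
open Matrix Cfsg.Geo CfsgLib.Perm.Asch CfsgLib.Perm.Trans

variable {m t : ℕ} {F : Type*} [Field F] [Fintype F]

theorem sl_det (i : Fin t) {a : GL (Fin m) F} (ha : (a : Matrix (Fin m) (Fin m) F).det = 1) :
    sl i a ∈ specialLinear (Fin t → Fin m) F := by
  let φ : GL (Fin m) F →* GL (Fin t → Fin m) F :=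
    { toFun := sl i, map_one' := sl_one i, map_mul' := fun a b => (sl_mul i a b).symm }
  refine (sl_le_of_units (M := (specialLinear (Fin t → Fin m) F).comap φ) fun x y hxy c => ?_)
    (show a ∈ specialLinear (Fin m) F from Units.ext ha)
  set g : GL (Fin m) F := tv (Pi.single x c) (Pi.single y 1) (by simp [dotProduct_single, hxy, hxy.symm]) with hg
  refine ⟨g, ?_, by rw [hg, tv_coe, single_eq_vecMulVec]⟩
  refine Units.ext ?_
  show ((sl i g : GL (Fin t → Fin m) F) : Matrix (Fin t → Fin m) (Fin t → Fin m) F).det = 1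
  rw [sl_coe, hg, tv_coe, ← single_eq_vecMulVec, slot_add, slot_one,
    show Matrix.single x y c = Matrix.single x x (1 : F) * Matrix.single x y c by
      rw [Matrix.single_mul_single_same, one_mul], ← slot_mul, Matrix.det_one_add_mul_comm, slot_mul,
    Matrix.single_mul_single_of_ne (h := hxy.symm), slot_zero, add_zero, Matrix.det_one]

/-- an element moving a slot off every slot -/
theorem exists_outside (hm : 3 ≤ m) (ht : 2 ≤ t) :
    ∃ g ∈ specialLinear (Fin t → Fin m) F, g ∉ tensorWreathStandard m t F := by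
  classical
  let z : Fin m := ⟨0, by omega⟩
  let o : Fin m := ⟨1, by omega⟩
  let k : Fin m := ⟨2, by omega⟩
  have hzo : z ≠ o := by simp [z, o, Fin.ext_iff]
  have hzk : z ≠ k := by simp [z, k, Fin.ext_iff]
  have hok : o ≠ k := by simp [o, k, Fin.ext_iff]
  let i : Fin t := ⟨0, by omega⟩
  let x : Fin t → Fin m := fun _ => z
  let y : Fin t → Fin m := fun _ => o
  let y' : Fin t → Fin m := Function.update y i k
  have hxy : x ≠ y := fun e => hzo (congrFun e i)
  have horth : (Pi.single y 1 : (Fin t → Fin m) → F) ⬝ᵥ Pi.single x 1 = 0 := by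
    simp [dotProduct_single, hxy, hxy.symm]
  refine ⟨tv (Pi.single x 1) (Pi.single y 1) horth, tv_mem_SL _ _ _, fun hg => ?_⟩
  obtain ⟨σ, A, hA⟩ := tw_shape hg
  set E : Matrix (Fin t → Fin m) (Fin t → Fin m) F := Matrix.single x y 1 with hE
  set S : Matrix (Fin t → Fin m) (Fin t → Fin m) F := sx i o k with hS
  have hgc : ((tv (Pi.single x 1) (Pi.single y 1) horth : GL (Fin t → Fin m) F) :
      Matrix (Fin t → Fin m) (Fin t → Fin m) F) = 1 + E := by rw [tv_coe, vmv_single]
  have hEE : E * E = 0 := by rw [hE, Matrix.single_mul_single_of_ne (h := hxy.symm)]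
  have hES : E * S = Matrix.single x y' 1 := by
    ext a b
    rw [hE, hS, mul_sx_apply, Matrix.single_apply, Matrix.single_apply]
    by_cases h1 : b i = k
    · rw [if_pos h1]
      refine if_congr (and_congr_right' ⟨fun e => ?_, fun e => ?_⟩) rfl rfl
      · funext l
        rcases eq_or_ne l i with rfl | hl
        · simp [y', h1]
        · simpa [y', y, hl] using congrFun e l
      · rw [← e]
        simp [y', y]
    · rw [if_neg h1, if_neg]
      rintro ⟨-, e⟩
      exact h1 (by rw [← e]; simp [y'])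
  have hSE : S * E = 0 := by
    ext a b
    rw [hE, hS, sx_mul_apply, Matrix.zero_apply]
    split_ifs with h
    · rw [Matrix.single_apply, if_neg]
      rintro ⟨e, -⟩
      exact hzk (by simpa [x] using congrFun e i)
    · rfl
  have hcj : cj (tv (Pi.single x 1) (Pi.single y 1) horth) S = S + Matrix.single x y' 1 := by
    rw [cj, inv_one_add hgc hEE, hgc, add_mul, one_mul, mul_sub, mul_one, add_mul, hSE, mul_assoc E S E, hSE, mul_zero,
      add_zero, sub_zero, hES]
  have hsl : cj (permGL σ * pureGL A) S = slot (σ i) (cj (A i) (Matrix.single o k 1)) := by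
    rw [hS, sx, cj_wreath_slot]
  rw [← hA, hcj] at hsl
  have hne : ∀ l, x l ≠ y' l := fun l => by
    rcases eq_or_ne l i with rfl | hl
    · simpa [x, y'] using hzk
    · simpa [x, y', y, hl] using hzo
  obtain ⟨l, hl⟩ : ∃ l, l ≠ σ i := by
    haveI : Nontrivial (Fin t) := Fin.nontrivial_iff_two_le.2 ht
    exact exists_ne _
  obtain ⟨l', hl'⟩ : ∃ l, l ≠ i := by
    haveI : Nontrivial (Fin t) := Fin.nontrivial_iff_two_le.2 ht
    exact exists_ne _
  have h1 := congrFun (congrFun hsl x) y'
  rw [slot_apply, if_neg (fun h => hne l (h l hl)), Matrix.add_apply, Matrix.single_apply_same, hS, sx, slot_apply,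
    if_neg (fun h => hne l' (h l' hl')), zero_add] at h1
  exact one_ne_zero h1

theorem perm_mem_SL {a b c : Fin t} (hab : a ≠ b) (hac : a ≠ c) (hbc : b ≠ c) :
    permGL (Equiv.swap a b * Equiv.swap a c) ∈ specialLinear (Fin t → Fin m) F := by
  set d := Matrix.GeneralLinearGroup.det (n := Fin t → Fin m) (R := F) with hd
  show d (permGL (Equiv.swap a b * Equiv.swap a c)) = 1
  have h1 : Equiv.swap a c = Equiv.swap b c * Equiv.swap a b * (Equiv.swap b c)⁻¹ := by
    rw [← Equiv.swap_apply_apply, Equiv.swap_apply_left, Equiv.swap_apply_of_ne_of_ne hab hac]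
  rw [← permGL_mul, map_mul]
  conv_lhs => arg 2; rw [h1, ← permGL_mul, ← permGL_mul, map_mul, map_mul, mul_right_comm, ← map_mul d, permGL_mul,
    mul_inv_cancel, permGL_one, map_one, one_mul]
  rw [← map_mul, permGL_mul, Equiv.swap_mul_self, permGL_one, map_one]

/-- the tensor wreath subgroup is maximal in the special linear group -/
theorem tw_maximal (hm : 3 ≤ m) (ht : 2 ≤ t) :
    IsMaximalIn (specialLinear (Fin t → Fin m) F) (tensorWreathStandard m t F ⊓ specialLinear (Fin t → Fin m) F) := by
  refine ⟨lt_of_le_not_ge inf_le_right fun hle => ?_, fun M hHM hMK => ?_⟩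
  · obtain ⟨g, hg, hgn⟩ := exists_outside (F := F) hm ht
    exact hgn (hle hg).1
  by_cases hK : specialLinear (Fin t → Fin m) F ≤ M
  · exact Or.inr (le_antisymm hMK hK)
  refine Or.inl (le_antisymm (le_inf ?_ hMK) hHM)
  exact le_tw hm t M (fun i a ha => hHM ⟨sl_mem_tw i a, sl_det i ha⟩)
    (fun a b c hab hac hbc => ⟨1, by
      rw [pureGL_one, mul_one]
      exact hHM ⟨perm_mem_tw _, perm_mem_SL hab hac hbc⟩⟩) hK

/-- maximality transfers along isomorphisms preserving the special linear groups -/
theorem maximal_map {G G' : Type*} [Group G] [Group G'] (Φ : G ≃* G') {K H : Subgroup G} {K' H' : Subgroup G'}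
    (hK : K.map Φ.toMonoidHom = K') (hH : H.map Φ.toMonoidHom = H') (h : IsMaximalIn K H) : IsMaximalIn K' H' := by
  subst hK hH
  have hback : ∀ M : Subgroup G', (M.comap Φ.toMonoidHom).map Φ.toMonoidHom = M := fun M =>
    Subgroup.map_comap_eq_self_of_surjective Φ.surjective M
  refine ⟨(Subgroup.map_lt_map_iff_of_injective Φ.injective).2 h.1, fun M h1 h2 => ?_⟩
  rcases h.2 (M.comap Φ.toMonoidHom) (Subgroup.map_le_iff_le_comap.1 h1)
    ((Subgroup.map_le_map_iff_of_injective Φ.injective).1 (by rw [hback]; exact h2)) with e | e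
  · exact Or.inl (by rw [← e, hback])
  · exact Or.inr (by rw [← e, hback])

/-- the statement in arbitrary coordinates -/
theorem sl_tensor_wreath_maximal {ι : Type} [Fintype ι] [DecidableEq ι] (hm : 3 ≤ m) (ht : 2 ≤ t)
    (e : ι ≃ (Fin t → Fin m)) (P : GL ι F) :
    IsMaximalIn (specialLinear ι F) (tensorWreathSubgroup m t e P ⊓ specialLinear ι F) := by
  set Φ : GL (Fin t → Fin m) F ≃* GL ι F := (glReindex e.symm).trans (MulAut.conj P) with hΦ
  have hdet : ∀ g, Φ g ∈ specialLinear ι F ↔ g ∈ specialLinear (Fin t → Fin m) F := by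
    intro g
    show Matrix.GeneralLinearGroup.det (Φ g) = 1 ↔ Matrix.GeneralLinearGroup.det g = 1
    have h1 : Matrix.GeneralLinearGroup.det (Φ g) = Matrix.GeneralLinearGroup.det g := by
      show Matrix.GeneralLinearGroup.det (P * glReindex e.symm g * P⁻¹) = _
      rw [map_mul, map_mul, mul_right_comm, map_inv, mul_inv_cancel, one_mul]
      exact Units.ext (Matrix.det_reindex_self e.symm (g : Matrix (Fin t → Fin m) (Fin t → Fin m) F))
    rw [h1]
  have hK : (specialLinear (Fin t → Fin m) F).map Φ.toMonoidHom = specialLinear ι F := by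
    ext g
    rw [Subgroup.mem_map_equiv, ← hdet, MulEquiv.apply_symm_apply]
  refine maximal_map Φ hK ?_ (tw_maximal hm ht)
  rw [Subgroup.map_inf _ _ _ Φ.injective, hK]
  congr 1
  rw [tensorWreathSubgroup, Subgroup.map_map]
  rfl

end CfsgLib.Perm.Trans.TensorPower
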