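import Cfsg.Agent.Lib.Perm.Trans.TensorPower.Pure
import Cfsg.Agent.Lib.Perm.Trans.SL

/-!
# One tensor pattern of rank-one units gives the special linear group
-/

set_option autoImplicit false
set_option linter.all false

namespace CfsgLib.Perm.Trans.TensorPower

open scoped Matrix
open Matrix Cfsg.Geo CfsgLib.Perm.Asch CfsgLib.Perm.Trans

variable {m t : ℕ} {F : Type*} [Field F]

/-- `c` times the tensor product of the units `(a l, b l)` over `L` -/
def pp (L : Finset (Fin t)) (a b : Fin t → Fin m) (c : F) : Matrix (Fin t → Fin m) (Fin t → Fin m) F :=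
  c • CfsgLib.Perm.Asch.pure (L.piecewise (fun l => Matrix.single (a l) (b l) (1 : F)) 1)

theorem pp_congr {L : Finset (Fin t)} {a b a' b' : Fin t → Fin m} {c : F} (ha : ∀ l ∈ L, a l = a' l)
    (hb : ∀ l ∈ L, b l = b' l) : pp L a b c = pp L a' b' c := by
  unfold pp
  congr 2
  funext l
  by_cases h : l ∈ L
  · simp [h, ha l h, hb l h]
  · simp [h]

theorem pp_mul {L L' : Finset (Fin t)} {a b a' b' : Fin t → Fin m} {c c' : F}
    (h : ∀ l ∈ L, l ∈ L' → b l = a' l) :
    pp L a b c * pp L' a' b' c' = pp (L ∪ L') (L.piecewise a a') (L'.piecewise b' b) (c * c') := by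
  unfold pp
  rw [Matrix.smul_mul, Matrix.mul_smul, smul_smul, pure_mul]
  congr 2
  funext l
  by_cases h1 : l ∈ L <;> by_cases h2 : l ∈ L' <;>
    simp [h1, h2, h, Finset.piecewise, Matrix.single_mul_single_same]

theorem pp_mul_zero {L L' : Finset (Fin t)} {a b a' b' : Fin t → Fin m} {c c' : F}
    {l : Fin t} (h1 : l ∈ L) (h2 : l ∈ L') (h : b l ≠ a' l) : pp L a b c * pp L' a' b' c' = 0 := by
  unfold pp
  rw [Matrix.smul_mul, Matrix.mul_smul, smul_smul, pure_mul]
  convert smul_zero (c * c')
  ext x y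
  rw [Matrix.zero_apply, pure_apply]
  refine Finset.prod_eq_zero (Finset.mem_univ l) ?_
  simp only [Pi.mul_apply, Finset.piecewise_eq_of_mem _ _ _ h1, Finset.piecewise_eq_of_mem _ _ _ h2]
  rw [Matrix.single_mul_single_of_ne (h := h), Matrix.zero_apply]

theorem pp_singleton (i : Fin t) (a b : Fin t → Fin m) (c : F) : pp {i} a b c = c • sx i (a i) (b i) := by
  unfold pp sx slot
  congr 2
  funext l
  rcases eq_or_ne l i with rfl | hl
  · simp
  · simp [hl, Pi.mulSingle_eq_of_ne hl]

theorem pp_univ (a b : Fin t → Fin m) (c : F) : pp Finset.univ a b c = Matrix.single a b c := by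
  rw [pp, Finset.piecewise_univ, pure_single, Matrix.smul_single, smul_eq_mul, mul_one]

/-- all multiples of the pattern lie in `M` -/
def Good (M : Subgroup (GL (Fin t → Fin m) F)) (L : Finset (Fin t)) (a b : Fin t → Fin m) : Prop :=
  ∀ c, Mem1 M (pp L a b c)

variable {M : Subgroup (GL (Fin t → Fin m) F)} {L : Finset (Fin t)} {a b : Fin t → Fin m}

theorem pp_sq (hL : ∀ l ∈ L, a l ≠ b l) {l : Fin t} (hl : l ∈ L) (c c' : F) : pp L a b c * pp L a b c' = 0 :=
  pp_mul_zero hl hl (hL l hl).symm

theorem move_right (hB : HasBase M) (hL : ∀ l ∈ L, a l ≠ b l) {c : F} (hc : c ≠ 0)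
    (h : Mem1 M (pp L a b c)) {l : Fin t} (hl : l ∈ L) {d : Fin m} (hda : d ≠ a l) (hdb : d ≠ b l) :
    Good M L a (Function.update b l d) := by
  intro c'
  have h2 := hB.unit l hdb.symm (c⁻¹ * c')
  rw [← Function.update_self l d b, ← pp_singleton] at h2
  have h3 := h.comm h2 (pp_sq hL hl c c) (pp_mul_zero (Finset.mem_singleton_self l) (Finset.mem_singleton_self l)
    (by simpa using hdb)) (pp_mul_zero (Finset.mem_singleton_self l) hl (by simpa using hda))
  rw [pp_mul (fun k _ hk => by rw [Finset.mem_singleton.1 hk]), ← mul_assoc, mul_inv_cancel₀ hc, one_mul] at h3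
  rw [show L ∪ {l} = L by simpa using hl] at h3
  convert h3 using 1
  refine pp_congr (fun k hk => by simp [hk]) fun k hk => ?_
  rcases eq_or_ne k l with rfl | hkl
  · simp
  · simp [hkl]

theorem move_left (hB : HasBase M) (hL : ∀ l ∈ L, a l ≠ b l) {c : F} (hc : c ≠ 0)
    (h : Mem1 M (pp L a b c)) {l : Fin t} (hl : l ∈ L) {d : Fin m} (hda : d ≠ a l) (hdb : d ≠ b l) :
    Good M L (Function.update a l d) b := by
  intro c'
  have h2 := hB.unit l hda (c' * c⁻¹)
  rw [← Function.update_self l d a, ← pp_singleton] at h2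
  have h3 := h2.comm h (pp_mul_zero (Finset.mem_singleton_self l) (Finset.mem_singleton_self l)
    (by simpa using hda.symm)) (pp_sq hL hl c c) (pp_mul_zero hl (Finset.mem_singleton_self l) (by simpa using hdb.symm))
  rw [pp_mul (fun k hk _ => by rw [Finset.mem_singleton.1 hk]), mul_assoc, inv_mul_cancel₀ hc, mul_one] at h3
  rw [show {l} ∪ L = L by simpa using hl] at h3
  convert h3 using 1
  refine pp_congr (fun k hk => ?_) fun k hk => by simp [hk]
  rcases eq_or_ne k l with rfl | hkl
  · simp
  · simp [hkl]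

theorem exists_third (hm : 3 ≤ m) (x y : Fin m) : ∃ z : Fin m, z ≠ x ∧ z ≠ y := by
  have : ({x, y} : Finset (Fin m)).card < (Finset.univ : Finset (Fin m)).card := by
    have := Finset.card_le_two (a := x) (b := y)
    simp; omega
  obtain ⟨c, -, hc⟩ := Finset.exists_mem_notMem_of_card_lt_card this
  exact ⟨c, fun h => hc (by simp [h]), fun h => hc (by simp [h])⟩

theorem good_set (hm : 3 ≤ m) (hB : HasBase M) (hL : ∀ l ∈ L, a l ≠ b l) (h : Good M L a b) {l : Fin t}
    (hl : l ∈ L) {x y : Fin m} (hxy : x ≠ y) : Good M L (Function.update a l x) (Function.update b l y) := by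
  have stepL : ∀ a b : Fin t → Fin m, (∀ k ∈ L, a k ≠ b k) → Good M L a b → ∀ d, d ≠ b l →
      Good M L (Function.update a l d) b := fun a b hab hg d hd => by
    rcases eq_or_ne d (a l) with rfl | hda
    · rwa [Function.update_eq_self]
    · exact move_left hB hab one_ne_zero (hg 1) hl hda hd
  have stepR : ∀ a b : Fin t → Fin m, (∀ k ∈ L, a k ≠ b k) → Good M L a b → ∀ d, d ≠ a l →
      Good M L a (Function.update b l d) := fun a b hab hg d hd => by
    rcases eq_or_ne d (b l) with rfl | hdb
    · rwa [Function.update_eq_self]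
    · exact move_right hB hab one_ne_zero (hg 1) hl hd hdb
  have upd : ∀ a b : Fin t → Fin m, (∀ k ∈ L, a k ≠ b k) → ∀ u v, u ≠ v → ∀ k ∈ L,
      Function.update a l u k ≠ Function.update b l v k := fun a b hab u v huv k hk => by
    rcases eq_or_ne k l with rfl | hkl
    · simpa using huv
    · simpa [hkl] using hab k hk
  rcases eq_or_ne x (b l) with hx | hx
  · obtain ⟨d, hda, hdb⟩ := exists_third hm (a l) (b l)
    have h1 := stepR a b hL h d hda
    have hL1 : ∀ k ∈ L, a k ≠ Function.update b l d k := fun k hk => by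
      simpa using upd a b hL (a l) d hda.symm k hk
    have h2 := stepL a _ hL1 h1 x (by rw [Function.update_self, hx]; exact hdb.symm)
    have hL2 : ∀ k ∈ L, Function.update a l x k ≠ Function.update b l d k := upd a b hL x d (by rw [hx]; exact hdb.symm)
    have h3 := stepR _ _ hL2 h2 y (by simpa using hxy.symm)
    rwa [Function.update_idem] at h3
  · have h1 := stepL a b hL h x hx
    have hL1 : ∀ k ∈ L, Function.update a l x k ≠ b k := fun k hk => by
      simpa using upd a b hL x (b l) hx k hk
    exact stepR _ _ hL1 h1 y (by simpa using hxy.symm)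

/-- one pattern gives all patterns on the same factors -/
theorem good_all (hm : 3 ≤ m) (hB : HasBase M) (hne : L.Nonempty) (hL : ∀ l ∈ L, a l ≠ b l) {c : F} (hc : c ≠ 0)
    (h : Mem1 M (pp L a b c)) (a' b' : Fin t → Fin m) (hL' : ∀ l ∈ L, a' l ≠ b' l) : Good M L a' b' := by
  obtain ⟨l0, hl0⟩ := hne
  obtain ⟨d, hda, hdb⟩ := exists_third hm (a l0) (b l0)
  have h0 := move_right hB hL hc h hl0 hda hdb
  set b0 := Function.update b l0 d with hb0
  have hL0 : ∀ l ∈ L, a l ≠ b0 l := fun l hl => by
    rcases eq_or_ne l l0 with rfl | hll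
    · simpa [hb0] using hda.symm
    · simpa [hb0, hll] using hL l hl
  have key : ∀ s ⊆ L, Good M L (s.piecewise a' a) (s.piecewise b' b0) := by
    intro s
    induction s using Finset.induction_on with
    | empty => intro _; simpa using h0
    | insert k s hk ih =>
      intro hs
      obtain ⟨hkL, hsL⟩ := Finset.insert_subset_iff.1 hs
      have := good_set hm hB (fun l hl => by
        by_cases hls : l ∈ s
        · simp [hls, hL' l hl]
        · simp [hls, hL0 l hl]) (ih hsL) hkL (hL' k hkL)
      rwa [Finset.piecewise_insert, Finset.piecewise_insert]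
  intro c'
  convert key L (le_refl L) c' using 1
  exact pp_congr (fun l hl => by simp [hl]) fun l hl => by simp [hl]

theorem HasBase.pure_mem (hB : HasBase M) (B : Fin t → GL (Fin m) F)
    (h : ∀ i, (B i : Matrix (Fin m) (Fin m) F).det = 1) : pureGL B ∈ M := by
  have key : ∀ s : Finset (Fin t), pureGL (s.piecewise B 1) ∈ M := by
    intro s
    induction s using Finset.induction_on with
    | empty => rw [Finset.piecewise_empty, pureGL_one]; exact M.one_mem
    | insert k s hk ih =>
      have : (insert k s).piecewise B 1 = Pi.mulSingle k (B k) * s.piecewise B 1 := by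
        funext j
        rcases eq_or_ne j k with rfl | hj
        · simp [hk]
        · simp [Pi.mulSingle_eq_of_ne hj, Finset.piecewise, Finset.mem_insert, hj]
      rw [this, ← pureGL_mul]
      exact M.mul_mem (hB k _ (h k)) ih
  simpa using key Finset.univ

/-- the diagonal matrix with one entry `d` -/
theorem exists_det_fix (d : F) (hd : d ≠ 0) (k : Fin m) :
    ∃ D : GL (Fin m) F, (D : Matrix (Fin m) (Fin m) F).det = d ∧
      ∀ x y : Fin m, x ≠ k → y ≠ k → cj D (Matrix.single x y 1) = Matrix.single x y 1 := by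
  let w : Fin m → Fˣ := Pi.mulSingle k (Units.mk0 d hd)
  let D : GL (Fin m) F := ⟨Matrix.diagonal fun i => (w i : F), Matrix.diagonal fun i => ((w i)⁻¹ : Fˣ),
    by rw [Matrix.diagonal_mul_diagonal]; simp, by rw [Matrix.diagonal_mul_diagonal]; simp⟩
  refine ⟨D, ?_, fun x y hx hy => cj_eq_self ?_⟩
  · show (Matrix.diagonal fun i => (w i : F)).det = d
    rw [Matrix.det_diagonal, Finset.prod_eq_single k (fun i _ hi => by simp [w, Pi.mulSingle_eq_of_ne hi]) (by simp)]
    simp [w]
  · show Matrix.diagonal (fun i => (w i : F)) * _ = _ * Matrix.diagonal (fun i => (w i : F))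
    ext i j
    rw [Matrix.diagonal_mul, Matrix.mul_diagonal, Matrix.single_apply]
    split_ifs with h
    · obtain ⟨rfl, rfl⟩ := h
      simp [w, Pi.mulSingle_eq_of_ne hx, Pi.mulSingle_eq_of_ne hy]
    · simp

/-- permuting the factors of a pattern -/
theorem good_perm (hm : 3 ≤ m) (hB : HasBase M) (hne : L.Nonempty) {π : Equiv.Perm (Fin t)}
    {A : Fin t → GL (Fin m) F} (hA : permGL π * pureGL A ∈ M)
    (hL : ∀ a b : Fin t → Fin m, (∀ l ∈ L, a l ≠ b l) → Good M L a b)
    (a' b' : Fin t → Fin m) (hab : ∀ l ∈ L.map π.toEmbedding, a' l ≠ b' l) : Good M (L.map π.toEmbedding) a' b' := by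
  let z : Fin m := ⟨0, by omega⟩
  let o : Fin m := ⟨1, by omega⟩
  have hzo : z ≠ o := by simp [z, o, Fin.ext_iff]
  let k : Fin m := ⟨2, by omega⟩
  choose D hDdet hD using fun l => exists_det_fix ((A l : Matrix (Fin m) (Fin m) F).det)
    (Matrix.isUnit_iff_isUnit_det _ |>.1 (A l).isUnit).ne_zero k
  have hBm : pureGL (fun l => D l * (A l)⁻¹) ∈ M := hB.pure_mem _ fun l => by
    have h1 : (A l : Matrix (Fin m) (Fin m) F).det * (((A l)⁻¹ : GL (Fin m) F) : Matrix (Fin m) (Fin m) F).det = 1 := by
      rw [← Matrix.det_mul, gl_mul_inv, Matrix.det_one]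
    rw [Units.val_mul, Matrix.det_mul, hDdet, h1]
  have hg : permGL π * pureGL D ∈ M := by
    have h1 : pureGL ((fun l => D l * (A l)⁻¹) ∘ π.symm) ∈ M := hB.pure_mem _ fun l => by
      have h2 : (A (π.symm l) : Matrix (Fin m) (Fin m) F).det *
          (((A (π.symm l))⁻¹ : GL (Fin m) F) : Matrix (Fin m) (Fin m) F).det = 1 := by
        rw [← Matrix.det_mul, gl_mul_inv, Matrix.det_one]
      show ((D (π.symm l) * (A (π.symm l))⁻¹ : GL (Fin m) F) : Matrix (Fin m) (Fin m) F).det = 1
      rw [Units.val_mul, Matrix.det_mul, hDdet, h2]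
    have h3 := M.mul_mem h1 hA
    rw [← mul_assoc, pureGL_perm, mul_assoc, pureGL_mul] at h3
    convert h3 using 3
    funext l
    simp
  intro c'
  refine good_all hm hB (hne.map) (fun l _ => hzo) (one_ne_zero (α := F)) ?_ a' b' hab c'
  have h1 := ((hL (fun _ => z) (fun _ => o) fun l _ => hzo) 1).conj hg
  convert h1 using 1
  unfold pp
  rw [one_smul, one_smul, ← cj_cj, cj_pureGL, cj_permGL_pure]
  congr 1
  funext l
  simp only [Function.comp_apply]
  by_cases hl : π.symm l ∈ L
  · have hl' : l ∈ L.map π.toEmbedding := by simpa [Finset.mem_map_equiv] using hl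
    rw [Finset.piecewise_eq_of_mem _ _ _ hl', Finset.piecewise_eq_of_mem _ _ _ hl]
    exact (hD _ _ _ (by simp [z, k, Fin.ext_iff]) (by simp [o, k, Fin.ext_iff])).symm
  · have hl' : l ∉ L.map π.toEmbedding := by simpa [Finset.mem_map_equiv] using hl
    rw [Finset.piecewise_eq_of_notMem _ _ _ hl', Finset.piecewise_eq_of_notMem _ _ _ hl]
    exact (cj_one _).symm

/-- overlapping sets of factors combine -/
theorem good_union (hm : 3 ≤ m) (hB : HasBase M) {L' : Finset (Fin t)} {l : Fin t} (hl : l ∈ L) (hl' : l ∈ L')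
    (h1 : ∀ a b : Fin t → Fin m, (∀ l ∈ L, a l ≠ b l) → Good M L a b)
    (h2 : ∀ a b : Fin t → Fin m, (∀ l ∈ L', a l ≠ b l) → Good M L' a b) (a' b' : Fin t → Fin m)
    (hab : ∀ l ∈ L ∪ L', a' l ≠ b' l) : Good M (L ∪ L') a' b' := by
  intro c'
  choose z hza hzb using fun k => exists_third hm (a' k) (b' k)
  set bX : Fin t → Fin m := L'.piecewise z b' with hbX
  set aY : Fin t → Fin m := L.piecewise z a' with haY
  have hX : ∀ k ∈ L, a' k ≠ bX k := fun k hk => by
    by_cases h : k ∈ L'
    · simp [hbX, h, (hza k).symm]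
    · simp [hbX, h, hab k (Finset.mem_union_left _ hk)]
  have hY : ∀ k ∈ L', aY k ≠ b' k := fun k hk => by
    by_cases h : k ∈ L
    · simp [haY, h, hzb k]
    · simp [haY, h, hab k (Finset.mem_union_right _ hk)]
  have h3 := (h1 a' bX hX c').comm (h2 aY b' hY 1) (pp_sq hX hl c' c') (pp_sq hY hl' 1 1)
    (pp_mul_zero hl' hl (hab l (Finset.mem_union_left _ hl)).symm)
  rw [pp_mul (fun k hk hk' => by simp [hbX, haY, hk, hk']), mul_one] at h3
  convert h3 using 1
  refine pp_congr (fun k hk => ?_) fun k hk => ?_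
  · by_cases h : k ∈ L <;> simp [haY, h]
  · by_cases h : k ∈ L' <;> simp [hbX, h]

/-- the special linear group is generated by the elementary transvections -/
theorem sl_le_of_units {ι : Type} [Fintype ι] [DecidableEq ι] [Fintype F] {M : Subgroup (GL ι F)}
    (h : ∀ x y : ι, x ≠ y → ∀ c : F, Mem1 M (Matrix.single x y c)) : specialLinear ι F ≤ M := by
  classical
  let e := Fintype.equivFin ι
  let φ : GL (Fin (Fintype.card ι)) F ≃* GL ι F := glReindex e.symm
  let M' : Subgroup (GL (Fin (Fintype.card ι)) F) := M.comap φ.toMonoidHom ⊓ specialLinear _ F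
  have hφ : ∀ g : GL (Fin (Fintype.card ι)) F, (φ g : Matrix ι ι F) =
      (g : Matrix (Fin (Fintype.card ι)) (Fin (Fintype.card ι)) F).submatrix e e := fun g => rfl
  have hfull : M' = specialLinear _ F := by
    refine eq_SL_of_fullSub inf_le_right ?_
    have haxis : ∀ x y : Fin (Fintype.card ι), x ≠ y → ∀ c : F, Has M' (Pi.single x 1) (Pi.single y c) := by
      intro x y hxy c
      refine ⟨by simp [dotProduct_single, hxy, hxy.symm], ?_, tv_mem_SL _ _ _⟩
      obtain ⟨g, hg, hgX⟩ := h (e.symm x) (e.symm y) (e.symm.injective.ne hxy) c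
      show φ (tv _ _ _) ∈ M
      rwa [show φ (tv _ _ _) = g from Units.ext (by
        rw [hgX, hφ, tv_coe]
        ext i j
        simp only [Matrix.submatrix_apply, Matrix.add_apply, Matrix.one_apply, Matrix.vecMulVec_apply,
          Matrix.single_apply, Pi.single_apply, e.injective.eq_iff]
        by_cases h1 : e i = x <;> by_cases h2 : e j = y <;> simp [h1, h2, Equiv.symm_apply_eq, Equiv.eq_symm_apply, eq_comm, Ne.symm])]
    rw [eq_top_iff, ← (Pi.basisFun F (Fin (Fintype.card ι))).span_eq, Submodule.span_le]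
    rintro _ ⟨x, rfl⟩
    intro φv hφv
    rw [Pi.basisFun_apply] at hφv ⊢
    rw [dotProduct_single, mul_one] at hφv
    rw [← Finset.univ_sum_single φv]
    induction (Finset.univ : Finset (Fin (Fintype.card ι))) using Finset.induction_on with
    | empty => rw [Finset.sum_empty]; exact has_zero_right _
    | insert k s hk ih =>
      rw [Finset.sum_insert hk]
      refine Has.add_right ?_ ih
      rcases eq_or_ne k x with rfl | hkx
      · rw [hφv, Pi.single_zero]; exact has_zero_right _
      · exact haxis x k hkx.symm _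
  intro g hg
  have hg' : φ.symm g ∈ M' := by
    rw [hfull]
    refine Units.ext ?_
    show ((φ.symm g : GL (Fin (Fintype.card ι)) F) :
      Matrix (Fin (Fintype.card ι)) (Fin (Fintype.card ι)) F).det = 1
    have h1 : (g : Matrix ι ι F).det = 1 := congrArg Units.val hg
    rwa [← MulEquiv.apply_symm_apply φ g, hφ, Matrix.det_submatrix_equiv_self] at h1
  simpa using hg'.1

/-- one pattern on at least two factors gives the special linear group -/
theorem sl_le_of_pattern [Fintype F] (hm : 3 ≤ m) (hB : HasBase M) (hP : HasPerms M) (h2 : 2 ≤ L.card)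
    (hL : ∀ l ∈ L, a l ≠ b l) {c : F} (hc : c ≠ 0) (h : Mem1 M (pp L a b c)) :
    specialLinear (Fin t → Fin m) F ≤ M := by
  have key : ∀ (j : ℕ) (L : Finset (Fin t)), 2 ≤ L.card → t ≤ L.card + j →
      (∀ a b : Fin t → Fin m, (∀ l ∈ L, a l ≠ b l) → Good M L a b) →
      ∀ a b : Fin t → Fin m, (∀ l, a l ≠ b l) → Good M Finset.univ a b := by
    intro j
    induction j with
    | zero =>
      intro L _ hj hG a b hab
      rw [show (Finset.univ : Finset (Fin t)) = L from
        (Finset.eq_univ_of_card L (le_antisymm (Finset.card_le_univ L) (by simpa using hj))).symm]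
      exact hG a b fun l _ => hab l
    | succ j ih =>
      intro L h2 hj hG
      by_cases hLu : L = Finset.univ
      · exact fun a b hab => hLu ▸ hG a b fun l _ => hab l
      obtain ⟨k, hk⟩ : ∃ k, k ∉ L := by
        by_contra hcon
        push Not at hcon
        exact hLu (Finset.eq_univ_of_forall hcon)
      obtain ⟨l0, hl0, l1, hl1, h01⟩ := Finset.one_lt_card.1 h2
      have hk0 : l0 ≠ k := fun e => hk (e ▸ hl0)
      have hk1 : k ≠ l1 := fun e => hk (e ▸ hl1)
      obtain ⟨A, hA⟩ := hP l0 k l1 hk0 h01 hk1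
      set π := Equiv.swap l0 k * Equiv.swap l0 l1 with hπ
      have h1k : π l1 = k := by simp [hπ, Equiv.Perm.mul_apply]
      have h0l : π l0 = l1 := by
        simp [hπ, Equiv.Perm.mul_apply, Equiv.swap_apply_of_ne_of_ne h01.symm hk1.symm]
      have hne : L.Nonempty := ⟨l0, hl0⟩
      have hmem0 : l1 ∈ L.map π.toEmbedding := Finset.mem_map.2 ⟨l0, hl0, h0l⟩
      have hmemk : k ∈ L.map π.toEmbedding := Finset.mem_map.2 ⟨l1, hl1, h1k⟩
      have hlt : L.card < (L ∪ L.map π.toEmbedding).card := Finset.card_lt_card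
        (Finset.ssubset_iff_of_subset Finset.subset_union_left |>.2 ⟨k, Finset.mem_union_right _ hmemk, hk⟩)
      exact ih _ (h2.trans hlt.le) (by omega)
        (good_union hm hB hl1 hmem0 hG (good_perm hm hB hne hA hG))
  have hG := key t L h2 (by omega) fun a' b' hab =>
    good_all hm hB (Finset.card_pos.1 (by omega)) hL hc h a' b' hab
  refine sl_le_of_units fun x y hxy c' => ?_
  choose z hzx hzy using fun l => exists_third hm (x l) (y l)
  have hX := hG x z (fun l => (hzx l).symm) c'
  have hY := hG z y hzy 1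
  rw [pp_univ] at hX hY
  obtain ⟨l, -⟩ : ∃ l : Fin t, True := by
    have := Finset.card_le_univ L
    simp at this
    exact ⟨⟨0, by omega⟩, trivial⟩
  have h3 := hX.comm hY (Matrix.single_mul_single_of_ne (h := fun e => hzx l (congrFun e l)) ..)
    (Matrix.single_mul_single_of_ne (h := fun e => hzy l (congrFun e.symm l)) ..)
    (Matrix.single_mul_single_of_ne (h := hxy.symm) ..)
  rwa [Matrix.single_mul_single_same, mul_one] at h3

end CfsgLib.Perm.Trans.TensorPower
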