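import Cfsg.Agent.Lib.Perm.Trans.TensorPower.Roots
import Cfsg.Agent.Lib.Perm.Trans.TensorPower.Casimir

/-!
# Odd characteristic: the roots generate a strongly closed class
-/

set_option autoImplicit false
set_option linter.all false

namespace CfsgLib.Perm.Trans.TensorPower

open scoped Matrix
open Matrix Cfsg.Geo CfsgLib.Perm.Asch CfsgLib.Perm.Trans

variable {m t : ℕ} {F : Type*} [Field F] [Fintype F]

local notation "Mat" => Matrix (Fin t → Fin m) (Fin t → Fin m) F

variable {M : Subgroup (GL (Fin t → Fin m) F)}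

/-- a conjugate of a root lying in the wreath subgroup is a root -/
theorem Ctx.class_odd (h : Ctx M) (h2 : (2 : F) ≠ 0) {r g : GL (Fin t → Fin m) F} (hr : IsRoot r)
    (hw : g * r * g⁻¹ ∈ tensorWreathStandard m t F) : IsRoot (g * r * g⁻¹) := by
  obtain ⟨i, u, φ, hu, hφ, hφu, he⟩ := hr
  obtain ⟨σ, A, hA⟩ := tw_shape hw
  have hm := h.three
  have hN : (slot i (vecMulVec u φ) : Mat) * slot i (vecMulVec u φ) = 0 := by
    rw [slot_mul, vecMulVec_mul_vecMulVec, hφu, zero_smul, show vecMulVec u (0 : Fin m → F) = 0 by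
      ext; simp [vecMulVec_apply], slot_zero]
  have hW : ((permGL σ * pureGL A : GL _ F) : Mat) - 1 = cj g (slot i (vecMulVec u φ)) := by
    rw [← hA, ← cj_coe, he, cj_add, cj_one, add_sub_cancel_left]
  have hsq : (((permGL σ * pureGL A : GL _ F) : Mat) - 1) * (((permGL σ * pureGL A : GL _ F) : Mat) - 1) = 0 := by
    rw [hW, ← cj_mul, hN, cj_zero]
  have hrk : (((permGL σ * pureGL A : GL _ F) : Mat) - 1).rank = m ^ (t - 1) := by
    rw [hW, rank_cj, rank_slot (by omega)]
    have h1 : (vecMulVec u φ).rank ≤ 1 := Matrix.rank_vecMulVec_le u φ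
    have h0 : 0 < (vecMulVec u φ).rank := Nat.pos_of_ne_zero fun e => vmv_ne_zero hu hφ (by
      have hbot : LinearMap.range (vecMulVec u φ).mulVecLin = ⊥ := Submodule.finrank_eq_zero.1 e
      refine Matrix.ext_iff_mulVec.2 fun v => ?_
      rw [zero_mulVec]
      exact (Submodule.mem_bot F).1 (hbot ▸ LinearMap.mem_range_self (vecMulVec u φ).mulVecLin v))
    rw [show (vecMulVec u φ).rank = 1 by omega, one_mul]
  rw [hA]
  rcases root_or_swap hm (show 0 < t by have := i.2; omega) σ A hsq hrk with ⟨j, u', φ', hu', hφ', hφu', he'⟩ | ⟨h20, -⟩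
  · exact ⟨j, u', φ', hu', hφ', hφu', he'⟩
  · exact absurd h20 h2

/-- a `p`-subgroup containing a root lies in the wreath subgroup -/
theorem Ctx.p_group_le (h : Ctx M)
    (hcls : ∀ r g : GL (Fin t → Fin m) F, IsRoot r → g ∈ M → g * r * g⁻¹ ∈ tensorWreathStandard m t F →
      IsRoot (g * r * g⁻¹))
    {p : ℕ} [Fact p.Prime] {Q : Subgroup (GL (Fin t → Fin m) F)} (hQ : IsPGroup p Q) (hQM : Q ≤ M)
    {r : GL (Fin t → Fin m) F} (hr : IsRoot r) (hrQ : r ∈ Q) : Q ≤ tensorWreathStandard m t F := by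
  haveI := hQ.isNilpotent
  set H : Subgroup Q := (tensorWreathStandard m t F).subgroupOf Q with hH
  by_cases htop : H = ⊤
  · exact Subgroup.subgroupOf_eq_top.1 htop
  exfalso
  have hlt := Group.normalizerCondition_of_isNilpotent H (lt_top_iff_ne_top.2 htop)
  obtain ⟨n, hn, hnH⟩ := SetLike.exists_of_lt hlt
  have h1 : n * ⟨r, hrQ⟩ * n⁻¹ ∈ H :=
    (Subgroup.mem_normalizer_iff.1 hn ⟨r, hrQ⟩).1 (show r ∈ tensorWreathStandard m t F from hr.mem_tw)
  exact hnH (h.fusion hr (hQM n.2) (hcls r n hr (hQM n.2) h1))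

/-- an involution commuting with a root and splitting it freely is single -/
theorem single_of_free (hm : 3 ≤ m) (h2 : (2 : F) ≠ 0) {r z : GL (Fin t → Fin m) F} {i : Fin t} {u φ : Fin m → F}
    (hu : u ≠ 0) (hφ : φ ≠ 0) (hφu : φ ⬝ᵥ u = 0) (hztw : z ∈ tensorWreathStandard m t F)
    (hzN : (z : Mat) * slot i (vecMulVec u φ) = slot i (vecMulVec u φ) * (z : Mat)) (hzz : z * z = 1) (hz1 : z ≠ 1)
    (hfree : ∀ X : Mat, ((z : Mat) + 1) * X = 0 → slot i (vecMulVec u φ) * X = 0 →
      ∃ X', X = slot i (vecMulVec u φ) * X') :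
    ∃ A : GL (Fin m) F, (A : Matrix (Fin m) (Fin m) F) * (A : Matrix (Fin m) (Fin m) F) = 1 ∧
      (A : Matrix (Fin m) (Fin m) F) ≠ 1 ∧ (A : Matrix (Fin m) (Fin m) F) ≠ -1 ∧ z = sl i A := by
  classical
  haveI : NeZero m := ⟨by omega⟩
  haveI : Nonempty (Fin m) := ⟨0⟩
  set D := vecMulVec u φ with hD
  obtain ⟨σ, A, rfl⟩ := tw_shape hztw
  have hfix : cj (permGL σ * pureGL A) (slot i D : Mat) = slot i D := cj_eq_self hzN
  rw [cj_wreath_slot] at hfix
  have hσi : σ i = i := by
    by_contra hne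
    obtain ⟨c, hc⟩ := scalar_of_slot_eq (by omega) hne hfix
    have h0 : c = 0 := by
      have h1 : cj (A i) D * cj (A i) D = (c • (1 : Matrix (Fin m) (Fin m) F)) * (c • 1) := by rw [hc]
      rw [← cj_mul, hD, vecMulVec_mul_vecMulVec, hφu, zero_smul,
        show vecMulVec u (0 : Fin m → F) = 0 by ext; simp [vecMulVec_apply], cj_zero, Matrix.smul_mul, one_mul,
        smul_smul] at h1
      have := congrFun (congrFun h1 0) 0
      simpa using this.symm
    rw [h0, zero_smul, ← cj_zero (A i)] at hc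
    exact vmv_ne_zero hu hφ (cj_injective _ hc)
  rw [hσi] at hfix
  have hAD : (A i : Matrix (Fin m) (Fin m) F) * D = D * (A i : Matrix (Fin m) (Fin m) F) := by
    have h1 := slot_injective i hfix
    conv_rhs => rw [← h1]
    rw [cj, mul_assoc _ _ (A i : Matrix (Fin m) (Fin m) F), gl_inv_mul, mul_one]
  -- `u` is an eigenvector of the component
  obtain ⟨γ, hγ⟩ := TensorMax.exists_dot_one hφ
  have hφγ : φ ⬝ᵥ γ = 1 := by rw [dotProduct_comm]; exact hγ
  set a := φ ⬝ᵥ ((A i : Matrix (Fin m) (Fin m) F) *ᵥ γ) with ha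
  have hAu : (A i : Matrix (Fin m) (Fin m) F) *ᵥ u = a • u := by
    have h1 := congrArg (· *ᵥ γ) hAD
    simp only [← mulVec_mulVec, hD, vecMulVec_mulVec, op_smul_eq_smul, hφγ, one_smul] at h1
    exact h1
  have ha0 : a ≠ 0 := fun e => hu (gl_mulVec_eq_zero.1 (by rw [hAu, e, zero_smul]))
  have hφA : φ ᵥ* (A i : Matrix (Fin m) (Fin m) F) = a • φ := by
    obtain ⟨δ, hδ⟩ := TensorMax.exists_dot_one hu
    have h1 := congrArg (δ ᵥ* ·) hAD
    simp only [← vecMul_vecMul, hD, vecMul_vecMulVec, smul_vecMul, hδ, one_smul] at h1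
    rw [← h1, show δ ᵥ* (A i : Matrix (Fin m) (Fin m) F) ⬝ᵥ u = a by
      rw [← dotProduct_mulVec, hAu, dotProduct_smul, hδ, smul_eq_mul, mul_one]]
  have hsq : ∀ X, cj (A i * A i) X = X := fun X => by
    have h1 : ∀ Y, cj (permGL σ * pureGL A) (slot i Y : Mat) = slot i (cj (A i) Y) := fun Y => by
      rw [cj_wreath_slot, hσi]
    apply slot_injective i
    rw [← cj_cj, ← h1, ← h1, cj_cj, hzz, cj, Units.val_one, inv_one, Units.val_one, one_mul, mul_one]
  obtain ⟨c, hc⟩ : ∃ c : F, ((A i * A i : GL (Fin m) F) : Matrix (Fin m) (Fin m) F) = c • 1 := by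
    obtain ⟨c, hc⟩ := Matrix.mem_range_scalar_of_commute_single
      (M := ((A i * A i : GL (Fin m) F) : Matrix (Fin m) (Fin m) F)) (fun x y _ => by
        show Matrix.single x y 1 * _ = _ * Matrix.single x y 1
        conv_lhs => rw [← hsq (Matrix.single x y 1)]
        rw [cj, mul_assoc, gl_inv_mul, mul_one])
    exact ⟨c, by rw [← hc]; simp [Matrix.smul_one_eq_diagonal]⟩
  have hca : c = a * a := by
    have h1 := congrArg (· *ᵥ u) hc
    simp only [Units.val_mul, ← mulVec_mulVec, hAu, mulVec_smul, smul_smul, Matrix.smul_mulVec, one_mulVec] at h1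
    exact (smul_left_injective F hu h1).symm
  set A0 : Matrix (Fin m) (Fin m) F := a⁻¹ • (A i : Matrix (Fin m) (Fin m) F) with hA0
  have hA0sq : A0 * A0 = 1 := by
    rw [hA0, Matrix.smul_mul, Matrix.mul_smul, ← Units.val_mul, hc, hca, smul_smul, smul_smul]
    rw [show a⁻¹ * a⁻¹ * (a * a) = 1 by field_simp, one_smul]
  have hA0u : A0 *ᵥ u = u := by rw [hA0, Matrix.smul_mulVec, hAu, smul_smul, inv_mul_cancel₀ ha0, one_smul]
  have hφA0 : φ ᵥ* A0 = φ := by rw [hA0, vecMul_smul, hφA, smul_smul, inv_mul_cancel₀ ha0, one_smul]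
  have hA0z : (permGL σ * pureGL A : GL (Fin t → Fin m) F).val * slot i A0 = slot i A0 * (permGL σ * pureGL A).val := by
    have h1 : cj (permGL σ * pureGL A) (slot i (A i : Matrix (Fin m) (Fin m) F) : Mat) = slot i (A i : Matrix (Fin m) (Fin m) F) := by
      rw [cj_wreath_slot, hσi, cj, mul_assoc, gl_mul_inv, mul_one]
    rw [hA0, slot_smul, Matrix.mul_smul, Matrix.smul_mul]
    congr 1
    conv_rhs => rw [← h1]
    rw [cj, mul_assoc _ _ (Units.val _), gl_inv_mul, mul_one]
  set B : Mat := slot i A0 * (permGL σ * pureGL A : GL (Fin t → Fin m) F).val with hB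
  set z := (permGL σ * pureGL A : GL (Fin t → Fin m) F) with hz
  have hBc : ∀ x y, sx i x y * B = B * sx i x y := by
    intro x y
    have h1 : (z : Mat) * sx i x y = slot i (cj (A i) (Matrix.single x y 1)) * (z : Mat) := by
      rw [← hσi, hσi, sx]
      have : cj z (slot i (Matrix.single x y (1 : F)) : Mat) = slot i (cj (A i) (Matrix.single x y 1)) := by
        rw [hz, cj_wreath_slot, hσi]
      rw [← this, cj, mul_assoc _ _ (z : Mat), gl_inv_mul, mul_one]
    have h2' : A0 * cj (A i) (Matrix.single x y (1 : F)) = Matrix.single x y 1 * A0 := by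
      have h3 := hsq (Matrix.single x y (1 : F))
      rw [← cj_cj] at h3
      conv_rhs => rw [← h3]
      rw [hA0, cj, cj, Matrix.smul_mul, Matrix.mul_smul, mul_assoc _ _ (A i : Matrix (Fin m) (Fin m) F), gl_inv_mul,
        mul_one]
    rw [hB, mul_assoc, h1, ← mul_assoc (slot i A0), slot_mul, h2', ← slot_mul, mul_assoc]
    rfl
  have hzB : (z : Mat) = slot i A0 * B := by rw [hB, ← mul_assoc, slot_mul, hA0sq, slot_one, one_mul]
  have hcomm : ∀ X, slot i X * B = B * slot i X := fun X => comm_slot_of_units hBc X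
  have hBB : B * B = 1 := by
    have h1 : (z : Mat) * (z : Mat) = 1 := by rw [← Units.val_mul, hzz, Units.val_one]
    rw [hzB, mul_assoc, ← mul_assoc B, ← hcomm, mul_assoc, ← mul_assoc (slot i A0), slot_mul, hA0sq, slot_one,
      one_mul] at h1
    exact h1
  have hzero : ∀ (X : Matrix (Fin m) (Fin m) F) (Z : Mat), (∀ x y, sx i x y * Z = Z * sx i x y) → slot i X * Z = 0 →
      X = 0 ∨ Z = 0 := by
    intro X Z hZ hXZ
    by_cases hX : X = 0
    · exact Or.inl hX
    refine Or.inr ?_
    obtain ⟨x, y, hxy⟩ : ∃ x y, X x y ≠ 0 := by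
      by_contra hcon; push Not at hcon; exact hX (Matrix.ext hcon)
    have he : ∀ e, X x y • sx i e e * Z = (0 : Mat) := fun e => by
      have h1 : sx i e x * slot i X * sx i y e = X x y • sx i e e := by
        rw [sx, sx, sx, slot_mul, slot_mul, Matrix.single_mul_mul_single, ← slot_smul, one_mul, mul_one,
          Matrix.smul_single, smul_eq_mul, mul_one]
      rw [← h1, mul_assoc (sx i e x * slot i X), hZ, ← mul_assoc, mul_assoc (sx i e x) (slot i X), hXZ, mul_zero, zero_mul]
    have h1 : X x y • Z = 0 := by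
      rw [← one_mul Z, ← sx_sum i, Finset.sum_mul, Finset.smul_sum]
      exact Finset.sum_eq_zero fun e _ => by rw [← Matrix.smul_mul]; exact he e
    exact (smul_eq_zero.1 h1).resolve_left hxy
  have h1B : ∀ x y, sx i x y * (1 + B) = (1 + B) * sx i x y := fun x y => by
    rw [mul_add, add_mul, mul_one, one_mul, hBc]
  have h2B : ∀ x y, sx i x y * (1 - B) = (1 - B) * sx i x y := fun x y => by
    rw [mul_sub, sub_mul, mul_one, one_mul, hBc]
  -- the minus part of the component times the plus part of the rest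
  obtain ⟨X', hX'⟩ := hfree (slot i (1 - A0) * (1 + B)) (by
      rw [hzB, ← mul_assoc, add_mul, one_mul, mul_assoc, ← hcomm, ← mul_assoc, slot_mul, mul_sub, mul_one, hA0sq]
      rw [show (slot i (A0 - 1) : Mat) = -slot i (1 - A0) by rw [← slotHom_apply, ← slotHom_apply, ← map_neg, neg_sub],
        neg_mul, add_mul, neg_mul, mul_assoc (slot i (1 - A0)), mul_add B, mul_one, hBB, add_comm B]
      abel) (by
      rw [← mul_assoc, slot_mul, hD, vecMulVec_mul, vecMul_sub, vecMul_one, hφA0, sub_self,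
        show vecMulVec u (0 : Fin m → F) = 0 by ext; simp [vecMulVec_apply], slot_zero, zero_mul])
  have hAB : slot i ((2 : F) • (1 - A0)) * (1 + B) = 0 := by
    have h4 := congrArg (slot i (1 - A0) * ·) hX'
    simp only [← mul_assoc, slot_mul] at h4
    rw [hD, mul_vecMulVec, sub_mulVec, one_mulVec, hA0u, sub_self,
      show vecMulVec (0 : Fin m → F) φ = 0 by ext; simp [vecMulVec_apply], slot_zero, zero_mul] at h4
    rwa [sub_mul, one_mul, mul_sub, mul_one, hA0sq, show (1 : Matrix (Fin m) (Fin m) F) - A0 - (A0 - 1) =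
      (2 : F) • (1 - A0) by rw [two_smul]; abel] at h4
  obtain ⟨k, hk1, hk0, hk2⟩ : ∃ (k χ : Fin m → F), χ ⬝ᵥ k = 1 ∧ φ ⬝ᵥ k = 0 ∧ χ ⬝ᵥ u = 0 := by
    obtain ⟨k, hk, hku⟩ : ∃ k : Fin m → F, φ ⬝ᵥ k = 0 ∧ k ∉ Submodule.span F {u} := by
      by_contra hcon
      push Not at hcon
      obtain ⟨k, hk⟩ := exists_not_mem_pair hm u γ
      refine hk ?_
      have := hcon (k - (φ ⬝ᵥ k) • γ) (by rw [dotProduct_sub, dotProduct_smul, hφγ, smul_eq_mul, mul_one, sub_self])
      obtain ⟨e, he⟩ := Submodule.mem_span_singleton.1 this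
      exact Submodule.mem_span_pair.2 ⟨e, φ ⬝ᵥ k, by rw [he, sub_add_cancel]⟩
    obtain ⟨χ, h1, h0⟩ := exists_dual _ hku
    exact ⟨k, χ, h1, hk, h0 u (Submodule.mem_span_singleton_self u)⟩
  obtain ⟨χ, hk1, hk0, hk2⟩ : ∃ χ, χ ⬝ᵥ k = 1 ∧ φ ⬝ᵥ k = 0 ∧ χ ⬝ᵥ u = 0 := ⟨hk1, hk0, hk2⟩
  rcases hzero _ _ h1B hAB with hA1 | hB1
  · -- the component is trivial
    exfalso
    have hA01 : A0 = 1 := (sub_eq_zero.1 ((smul_eq_zero.1 hA1).resolve_left h2)).symm
    rw [hA01, slot_one, one_mul] at hzB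
    let ε : Fin m → F := Pi.single 0 1
    obtain ⟨X'', hX''⟩ := hfree (slot i (vecMulVec k ε) * (1 - B)) (by
        rw [hzB, ← mul_assoc, add_mul, one_mul, ← hcomm, add_mul, mul_assoc (slot i _) B, mul_sub B, mul_one, hBB,
          mul_sub, mul_sub]
        abel) (by
        rw [← mul_assoc, slot_mul, hD, vecMulVec_mul_vecMulVec, hk0, zero_smul,
          show vecMulVec u (0 : Fin m → F) = 0 by ext; simp [vecMulVec_apply], slot_zero, zero_mul])
    have h4 := congrArg (slot i (vecMulVec ε χ) * ·) hX''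
    simp only [← mul_assoc, slot_mul, hD, vecMulVec_mul_vecMulVec, hk1, hk2, one_smul, zero_smul,
      show vecMulVec ε (0 : Fin m → F) = 0 by ext; simp [vecMulVec_apply], slot_zero, zero_mul] at h4
    rcases hzero _ _ h2B h4 with h5 | h5
    · have := congrFun (congrFun h5 0) 0
      simp [ε, vecMulVec_apply] at this
    · exact hz1 (Units.ext (by rw [hzB, ← sub_eq_zero.1 h5, Units.val_one]))
  · have hBm : B = -1 := eq_neg_of_add_eq_zero_right hB1
    rw [hBm, mul_neg, mul_one] at hzB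
    have hsqn : (-A0) * (-A0) = 1 := by rw [neg_mul, mul_neg, neg_neg, hA0sq]
    refine ⟨⟨-A0, -A0, hsqn, hsqn⟩, hsqn, fun e => ?_, fun e => ?_, Units.ext ?_⟩
    · have := congrArg (· *ᵥ u) (show -A0 = 1 from e)
      simp only [neg_mulVec, hA0u, one_mulVec] at this
      have h4 : (2 : F) • u = 0 := by rw [two_smul]; nth_rewrite 1 [← this]; exact neg_add_cancel u
      exact hu ((smul_eq_zero.1 h4).resolve_left h2)
    · have hA01 : A0 = 1 := neg_injective e
      obtain ⟨X'', hX''⟩ := hfree (slot i (vecMulVec k φ)) (by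
          rw [hzB, hA01, slot_one, neg_add_cancel, zero_mul]) (by
          rw [slot_mul, hD, vecMulVec_mul_vecMulVec, hk0, zero_smul,
            show vecMulVec u (0 : Fin m → F) = 0 by ext; simp [vecMulVec_apply], slot_zero])
      have h4 := congrArg (slot i (vecMulVec u χ) * ·) hX''
      simp only [← mul_assoc, slot_mul, hD, vecMulVec_mul_vecMulVec, hk1, hk2, one_smul, zero_smul,
        show vecMulVec u (0 : Fin m → F) = 0 by ext; simp [vecMulVec_apply], slot_zero, zero_mul] at h4
      exact vmv_ne_zero hu hφ (slot_injective i (h4.trans (slot_zero i).symm))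
    · rw [hzB, sl_coe, ← slotHom_apply, ← slotHom_apply, map_neg]

/-- odd characteristic: the overgroup lies in the wreath subgroup -/
theorem Ctx.main_odd (h : Ctx M) (h2 : (2 : F) ≠ 0) : M ≤ tensorWreathStandard m t F := by
  classical
  intro g hg
  rcases Nat.eq_zero_or_pos t with ht | ht
  · subst ht
    haveI : Subsingleton (Fin 0 → Fin m) := inferInstance
    exact Subgroup.subset_closure (Or.inl ⟨fun i => i.elim0, fun x y => by
      have hg1 : (g : Matrix (Fin 0 → Fin m) (Fin 0 → Fin m) F).det = (g : Matrix _ _ F) x y := by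
        rw [Matrix.det_eq_elem_of_subsingleton _ x, Subsingleton.elim y x]
      by_contra hne
      exact h.proper fun k hk => by
        have hk1 : (k : Matrix (Fin 0 → Fin m) (Fin 0 → Fin m) F) = 1 := Matrix.ext fun a b => by
          have hd : (k : Matrix (Fin 0 → Fin m) (Fin 0 → Fin m) F).det = 1 := congrArg Units.val hk
          rw [Matrix.det_eq_elem_of_subsingleton _ a] at hd
          rw [Subsingleton.elim b a, hd, Matrix.one_apply_eq]
        rw [show k = 1 from Units.ext hk1]; exact M.one_mem⟩)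
  let i : Fin t := ⟨0, ht⟩
  let u : Fin m → F := Pi.single ⟨0, by have := h.three; omega⟩ 1
  let φ : Fin m → F := Pi.single ⟨1, by have := h.three; omega⟩ 1
  have hu : u ≠ 0 := by simp [u]
  have hφ : φ ≠ 0 := by simp [φ]
  have hφu : φ ⬝ᵥ u = 0 := by simp [u, φ]
  set r := sl i (tv u φ hφu) with hrdef
  have hr : IsRoot r := isRoot_sl i hφu hu hφ
  have hrm : (r : Mat) = 1 + slot i (vecMulVec u φ) := by rw [hrdef, sl_coe, tv_coe, slot_add, slot_one]
  have hcls : ∀ r g : GL (Fin t → Fin m) F, IsRoot r → g ∈ M → g * r * g⁻¹ ∈ tensorWreathStandard m t F →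
      IsRoot (g * r * g⁻¹) := fun r g hr _ hw => h.class_odd h2 hr hw
  suffices hy : g * r * g⁻¹ ∈ tensorWreathStandard m t F from h.fusion hr hg (hcls r g hr hg hy)
  set y := g * r * g⁻¹ with hydef
  have hyM : y ∈ M := M.mul_mem (M.mul_mem hg (hr.mem h)) (M.inv_mem hg)
  set N : Mat := slot i (vecMulVec u φ) with hNdef
  set Y : Mat := cj g N with hYdef
  have hN : N * N = 0 := by
    rw [hNdef, slot_mul, vecMulVec_mul_vecMulVec, hφu, zero_smul, show vecMulVec u (0 : Fin m → F) = 0 by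
      ext; simp [vecMulVec_apply], slot_zero]
  have hY : Y * Y = 0 := by rw [hYdef, ← cj_mul, hN, cj_zero]
  have hym : (y : Mat) = 1 + Y := by rw [hydef, ← cj_coe, hrm, cj_add, cj_one]
  set K := Subgroup.closure ({r, y} : Set (GL (Fin t → Fin m) F)) with hK
  have hKM : K ≤ M := by
    rw [hK, Subgroup.closure_le]
    rintro x (rfl | rfl)
    · exact hr.mem h
    · exact hyM
  by_cases hn : IsNilpotent (N * Y + Y * N)
  · haveI : Fact (ringChar F).Prime := ⟨CharP.char_is_prime F _⟩
    haveI : Nonempty (Fin t → Fin m) := ⟨fun _ => ⟨0, by have := h.three; omega⟩⟩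
    haveI : CharP Mat (ringChar F) := inferInstance
    have hKp : IsPGroup (ringChar F) K := by
      rintro ⟨z, hz⟩
      obtain ⟨k, hk⟩ := casimir_unipotent hrm hym hN hY hn hz
      refine ⟨k, Subtype.ext (Units.ext ?_)⟩
      show ((z ^ ringChar F ^ k : GL _ F) : Mat) = 1
      have hle : k ≤ ringChar F ^ k := (Nat.lt_pow_self (Fact.out : (ringChar F).Prime).one_lt).le
      rw [Units.val_pow_eq_pow_val, ← sub_eq_zero]
      have := sub_pow_char_pow_of_commute (R := Mat) (p := ringChar F) (n := k) (Commute.one_right (z : Mat))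
      rw [one_pow] at this
      rw [← this]
      exact pow_eq_zero_of_le hle hk
    exact h.p_group_le hcls hKp hKM hr (Subgroup.subset_closure (Or.inl rfl))
      (Subgroup.subset_closure (Or.inr rfl))
  · obtain ⟨⟨z, hz⟩, hord⟩ := exists_prime_orderOf_dvd_card' 2 (casimir_even hrm hym hN hY h2 hn)
    have hzz : z * z = 1 := by
      have := pow_orderOf_eq_one (⟨z, hz⟩ : K)
      rw [hord, pow_two] at this
      exact congrArg Subtype.val this
    have hz1 : z ≠ 1 := fun e => by
      have h1 : (⟨z, hz⟩ : K) = 1 := Subtype.ext e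
      rw [h1, orderOf_one] at hord
      omega
    obtain ⟨θ, hθ, hzθ⟩ := casimir_involution hrm hym hN hY h2 hz hzz
    have hC := cen_casimir hN hY
    have hzcen : Cen N Y (z : Mat) := by rw [hzθ]; exact Cen.one.add (hC.mul hθ)
    have hzr : z * r = r * z := Units.ext (by
      rw [Units.val_mul, Units.val_mul, hrm, mul_add, add_mul, mul_one, one_mul, hzcen.1])
    have hzy : y * z = z * y := Units.ext (by
      rw [Units.val_mul y z, Units.val_mul z y, hym, mul_add, add_mul, mul_one, one_mul, hzcen.2])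
    have hztw := h.root_centraliser hr (hKM hz) hzr
    obtain ⟨A, hA, hA1, hA2, hzA⟩ := single_of_free (r := r) h.three h2 hu hφ hφu hztw hzcen.1 hzz hz1 fun X hX1 hX2 => by
      refine ⟨(-(2 : F)⁻¹) • (Y * θ * X), ?_⟩
      have h3 : (2 : F) • X + (N * (Y * θ * X)) = 0 := by
        have e1 : (N * Y + Y * N) * θ * X = N * (Y * θ * X) := by
          rw [add_mul, add_mul, mul_assoc Y N θ, ← hθ.1, mul_assoc, mul_assoc Y _ X, mul_assoc θ, show N * X = 0 from hX2, mul_zero,
            mul_zero, add_zero]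
          simp only [mul_assoc]
        rw [← e1, two_smul, ← hX1, hzθ]
        simp only [add_mul, one_mul]
        abel
      rw [← hNdef, Matrix.mul_smul, neg_smul, eq_neg_iff_add_eq_zero]
      have h4 := congrArg ((2 : F)⁻¹ • ·) h3
      simpa [smul_smul, inv_mul_cancel₀ h2] using h4
    exact h.single_centraliser hyM hA hA1 hA2 (hzA ▸ hzy)

end CfsgLib.Perm.Trans.TensorPower
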