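import Cfsg.Agent.Lib.Perm.Trans.TensorPower.Merge

/-!
# Square-zero elements supported on a block of one factor are scalar on the others
-/

set_option autoImplicit false
set_option linter.all false

namespace CfsgLib.Perm.Trans.TensorPower

open scoped Matrix
open Matrix Cfsg.Geo CfsgLib.Perm.Asch CfsgLib.Perm.Trans

variable {m t : ℕ} {F : Type*} [Field F]

theorem sx_mul_apply (l : Fin t) (c d : Fin m) (X : Matrix (Fin t → Fin m) (Fin t → Fin m) F) (x y : Fin t → Fin m) :
    (sx (F := F) l c d * X) x y = if x l = c then X (Function.update x l d) y else 0 := by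
  rw [Matrix.mul_apply, sx, Finset.sum_eq_single (Function.update x l d)]
  · rw [slot_apply, if_pos (fun k hk => by simp [hk]), Matrix.single_apply, Function.update_self]
    by_cases h : x l = c
    · simp [h]
    · simp [h, Ne.symm h]
  · intro z _ hz
    rw [slot_apply]
    split_ifs with h
    · rw [Matrix.single_apply, if_neg, zero_mul]
      rintro ⟨-, h2⟩
      refine hz (funext fun k => ?_)
      rcases eq_or_ne k l with rfl | hk
      · simp [h2]
      · simp [hk, h k hk]
    · rw [zero_mul]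
  · simp

theorem mul_sx_apply (l : Fin t) (c d : Fin m) (X : Matrix (Fin t → Fin m) (Fin t → Fin m) F) (x y : Fin t → Fin m) :
    (X * sx (F := F) l c d) x y = if y l = d then X x (Function.update y l c) else 0 := by
  rw [Matrix.mul_apply, sx, Finset.sum_eq_single (Function.update y l c)]
  · rw [slot_apply, if_pos (fun k hk => by simp [hk]), Matrix.single_apply, Function.update_self]
    by_cases h : y l = d
    · simp [h]
    · simp [h, Ne.symm h]
  · intro z _ hz
    rw [slot_apply]
    split_ifs with h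
    · rw [Matrix.single_apply, if_neg, mul_zero]
      rintro ⟨h1, -⟩
      refine hz (funext fun k => ?_)
      rcases eq_or_ne k l with rfl | hk
      · simp [h1]
      · simp [hk, h k hk]
    · rw [mul_zero]
  · simp

/-- a matrix supported on patterns and commuting with the other factors is a pattern -/
theorem eq_pp {L : Finset (Fin t)} {a b : Fin t → Fin m} {X : Matrix (Fin t → Fin m) (Fin t → Fin m) F}
    (hl : ∀ l ∈ L, sx (F := F) l (a l) (a l) * X = X) (hr : ∀ l ∈ L, X * sx (F := F) l (b l) (b l) = X)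
    (hc : ∀ l ∉ L, ∀ c d, sx (F := F) l c d * X = X * sx (F := F) l c d) : ∃ c : F, X = pp L a b c := by
  refine ⟨X a (L.piecewise b a), ?_⟩
  have z1 : ∀ l ∈ L, ∀ x y, x l ≠ a l → X x y = 0 := fun l h x y hx => by
    rw [← hl l h, sx_mul_apply, if_neg hx]
  have z2 : ∀ l ∈ L, ∀ x y, y l ≠ b l → X x y = 0 := fun l h x y hy => by
    rw [← hr l h, mul_sx_apply, if_neg hy]
  have z3 : ∀ l ∉ L, ∀ x y, x l ≠ y l → X x y = 0 := fun l h x y hxy => by
    have := congrFun (congrFun (hc l h (x l) (x l)) x) y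
    rwa [sx_mul_apply, if_pos rfl, Function.update_eq_self, mul_sx_apply, if_neg hxy.symm] at this
  have z4 : ∀ l ∉ L, ∀ x y (z : Fin m), x l = y l → X (Function.update x l z) (Function.update y l z) = X x y := by
    intro l h x y z hxy
    have := congrFun (congrFun (hc l h (x l) z) x) (Function.update y l z)
    rw [sx_mul_apply, if_pos rfl, mul_sx_apply, Function.update_self, if_pos rfl, Function.update_idem, hxy,
      Function.update_eq_self] at this
    exact this
  have key : ∀ s : Finset (Fin t), (∀ l ∈ s, l ∉ L) → ∀ x y, (∀ l ∈ s, x l = y l) →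
      X (s.piecewise a x) (s.piecewise a y) = X x y := by
    intro s
    induction s using Finset.induction_on with
    | empty => intro _ x y _; simp
    | insert k s hk ih =>
      intro hs x y hxy
      rw [Finset.piecewise_insert, Finset.piecewise_insert, z4 k (hs k (Finset.mem_insert_self k s)) _ _ _
        (by simp [hk, hxy k (Finset.mem_insert_self k s)]),
        ih (fun l h => hs l (Finset.mem_insert_of_mem h)) x y fun l h => hxy l (Finset.mem_insert_of_mem h)]
  ext x y
  rw [pp, Matrix.smul_apply, pure_apply, smul_eq_mul]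
  by_cases h : (∀ l ∈ L, x l = a l ∧ y l = b l) ∧ ∀ l ∉ L, x l = y l
  · rw [Finset.prod_eq_one fun l _ => ?_, mul_one, ← key Lᶜ (fun l h => Finset.mem_compl.1 h) x y
      (fun l hl' => h.2 l (Finset.mem_compl.1 hl'))]
    · congr 1 <;> funext l <;> by_cases hlL : l ∈ L <;> simp [Finset.piecewise, hlL, h.1 l, ← h.2 l]
    · by_cases hlL : l ∈ L
      · simp [hlL, h.1 l hlL]
      · simp [hlL, h.2 l hlL, Matrix.one_apply]
  · rw [not_and_or] at h
    push Not at h
    rcases h with ⟨l, hlL, h⟩ | ⟨l, hlL, h⟩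
    · have : X x y = 0 := by
        by_cases hx : x l = a l
        · exact z2 l hlL x y (h hx)
        · exact z1 l hlL x y hx
      rw [this, Finset.prod_eq_zero (Finset.mem_univ l), mul_zero]
      simp only [Finset.piecewise_eq_of_mem _ _ _ hlL, Matrix.single_apply]
      exact if_neg fun e => h e.1.symm e.2.symm
    · rw [z3 l hlL x y h, Finset.prod_eq_zero (Finset.mem_univ l), mul_zero]
      simp [hlL, Matrix.one_apply, h]

variable {M : Subgroup (GL (Fin t → Fin m) F)}

/-- the square-zero elements of `M` satisfying linear conditions -/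
def Frame (M : Subgroup (GL (Fin t → Fin m) F))
    (Fr : Set (Matrix (Fin t → Fin m) (Fin t → Fin m) F × Matrix (Fin t → Fin m) (Fin t → Fin m) F)) :
    Set (Matrix (Fin t → Fin m) (Fin t → Fin m) F) :=
  {X | Mem1 M X ∧ ∀ p ∈ Fr, p.1 * X = X * p.2}

theorem step (hm : 3 ≤ m) (hB : HasBase M) (k : Fin t)
    {Fr : Set (Matrix (Fin t → Fin m) (Fin t → Fin m) F × Matrix (Fin t → Fin m) (Fin t → Fin m) F)}
    (hcomm : ∀ p ∈ Fr, ∀ a b, sx (F := F) k a b * p.1 = p.1 * sx (F := F) k a b ∧ sx (F := F) k a b * p.2 = p.2 * sx (F := F) k a b)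
    (hsq : ∀ X ∈ Frame M Fr, ∀ Y ∈ Frame M Fr, X * Y = 0)
    {X : Matrix (Fin t → Fin m) (Fin t → Fin m) F} (hX : X ∈ Frame M Fr)
    (hnc : ∃ a b, sx (F := F) k a b * X ≠ X * sx (F := F) k a b) :
    ∃ a b, a ≠ b ∧ ∃ Y ∈ Frame M Fr, Y ≠ 0 ∧ sx (F := F) k a a * Y = Y ∧ Y * sx (F := F) k b b = Y := by
  refine exists_block (sx k) hm (sx_mul k) (sx_sum k) (Frame M Fr) (fun a b hab X hX => ?_) hX hnc
  obtain ⟨g, hg, hgX, he⟩ := dlt_eq_cj hB k hab X
  have hcj : cj g X ∈ Frame M Fr := by
    refine ⟨hX.1.conj hg, fun p hp => ?_⟩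
    have h1 : cj g p.1 = p.1 := cj_eq_self (by rw [hgX, add_mul, mul_add, one_mul, mul_one, (hcomm p hp a b).1])
    have h2 : cj g p.2 = p.2 := cj_eq_self (by rw [hgX, add_mul, mul_add, one_mul, mul_one, (hcomm p hp a b).2])
    conv_lhs => rw [← h1]
    conv_rhs => rw [← h2]
    rw [← cj_mul, ← cj_mul, hX.2 p hp]
  refine ⟨?_, fun p hp => ?_⟩
  · rw [he]
    exact hcj.1.sub hX.1 (hsq _ hcj _ hX) (hsq _ hX _ hX)
  · rw [he, mul_sub, sub_mul, hcj.2 p hp, hX.2 p hp]

/-- an element supported on the block `J × Jᶜ` of the factor `j` commutes with the other factors -/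
theorem scalar_of_shape [Fintype F] (hm : 3 ≤ m) (hB : HasBase M) (hP : HasPerms M)
    (hne : ¬ specialLinear (Fin t → Fin m) F ≤ M) (j : Fin t) (Q : Matrix (Fin m) (Fin m) F)
    {ψ : Matrix (Fin t → Fin m) (Fin t → Fin m) F} (h1 : slot j Q * ψ = ψ) (h2 : ψ * slot j Q = 0)
    (hψ : Mem1 M ψ) {k : Fin t} (hk : k ≠ j) (c d : Fin m) : sx (F := F) k c d * ψ = ψ * sx (F := F) k c d := by
  classical
  by_contra hnc
  set P := (slot j Q : Matrix (Fin t → Fin m) (Fin t → Fin m) F) with hP'
  let FJ : Set (Matrix (Fin t → Fin m) (Fin t → Fin m) F × Matrix (Fin t → Fin m) (Fin t → Fin m) F) :=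
    {(P, 1), (0, P)}
  let FL : Finset (Fin t) → (Fin t → Fin m) → (Fin t → Fin m) →
      Set (Matrix (Fin t → Fin m) (Fin t → Fin m) F × Matrix (Fin t → Fin m) (Fin t → Fin m) F) :=
    fun L a b => {p | ∃ l ∈ L, p = (sx (F := F) l (a l) (a l), 1) ∨ p = (1, sx (F := F) l (b l) (b l))}
  let FC : Finset (Fin t) → Set (Matrix (Fin t → Fin m) (Fin t → Fin m) F × Matrix (Fin t → Fin m) (Fin t → Fin m) F) :=
    fun C => {p | ∃ l ∈ C, ∃ a b, p = (sx (F := F) l a b, sx (F := F) l a b)}
  have hFJ : ∀ Fr, FJ ⊆ Fr → ∀ X ∈ Frame M Fr, P * X = X ∧ X * P = 0 := fun Fr hFr X hX =>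
    ⟨by simpa using hX.2 (P, 1) (hFr (Or.inl rfl)), by simpa using (hX.2 (0, P) (hFr (Or.inr rfl))).symm⟩
  have hsqJ : ∀ Fr, FJ ⊆ Fr → ∀ X ∈ Frame M Fr, ∀ Y ∈ Frame M Fr, X * Y = 0 := fun Fr hFr X hX Y hY => by
    rw [← (hFJ Fr hFr Y hY).1, ← mul_assoc, (hFJ Fr hFr X hX).2, zero_mul]
  have hcJ : ∀ l ≠ j, ∀ p ∈ FJ, ∀ a b, sx (F := F) l a b * p.1 = p.1 * sx (F := F) l a b ∧ sx (F := F) l a b * p.2 = p.2 * sx (F := F) l a b := by
    intro l hl p hp a b
    have h := slot_comm hl (Matrix.single a b (1 : F)) Q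
    rcases hp with rfl | rfl
    · exact ⟨h, by rw [mul_one, one_mul]⟩
    · exact ⟨by rw [mul_zero, zero_mul], h⟩
  have hcL : ∀ L a b, ∀ l ∉ L, ∀ p ∈ FL L a b, ∀ x y,
      sx (F := F) l x y * p.1 = p.1 * sx (F := F) l x y ∧ sx (F := F) l x y * p.2 = p.2 * sx (F := F) l x y := by
    rintro L a b l hl p ⟨l', hl', rfl | rfl⟩ x y
    · exact ⟨sx_comm (fun e : l = l' => hl (e ▸ hl')) _ _ _ _, by rw [mul_one, one_mul]⟩
    · exact ⟨by rw [mul_one, one_mul], sx_comm (fun e : l = l' => hl (e ▸ hl')) _ _ _ _⟩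
  have hcC : ∀ C, ∀ l ∉ C, ∀ p ∈ FC C, ∀ x y,
      sx (F := F) l x y * p.1 = p.1 * sx (F := F) l x y ∧ sx (F := F) l x y * p.2 = p.2 * sx (F := F) l x y := by
    rintro C l hl p ⟨l', hl', a, b, rfl⟩ x y
    exact ⟨sx_comm (fun e : l = l' => hl (e ▸ hl')) _ _ _ _, sx_comm (fun e : l = l' => hl (e ▸ hl')) _ _ _ _⟩
  have loop : ∀ (n : ℕ) (L C : Finset (Fin t)) (a b : Fin t → Fin m) (X : Matrix (Fin t → Fin m) (Fin t → Fin m) F),
      j ∉ L → j ∉ C → L.Nonempty → (∀ l ∈ L, a l ≠ b l) → X ≠ 0 → X ∈ Frame M (FL L a b ∪ FC C ∪ FJ) →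
      t ≤ (L ∪ C).card + 1 + n → False := by
    intro n
    induction n with
    | zero =>
      intro L C a b X hjL hjC hL hab hX0 hX hn
      have hall : ∀ l, l ≠ j → l ∈ L ∪ C := by
        intro l hl
        by_contra h
        have h1 : (L ∪ C) ⊆ ({l, j} : Finset (Fin t))ᶜ := fun x hx => by
          simp only [Finset.mem_compl, Finset.mem_insert, Finset.mem_singleton, not_or]
          exact ⟨fun e => h (e ▸ hx), fun e => by
            rcases Finset.mem_union.1 hx with hh | hh
            · exact hjL (e ▸ hh)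
            · exact hjC (e ▸ hh)⟩
        have := Finset.card_le_card h1
        rw [Finset.card_compl, Finset.card_pair hl] at this
        simp at this
        omega
      obtain ⟨l0, hl0⟩ := hL
      have hXX : ∀ X ∈ Frame M (FL L a b ∪ FC C), ∀ Y ∈ Frame M (FL L a b ∪ FC C), X * Y = 0 := by
        intro X hX Y hY
        have h1 : sx (F := F) l0 (a l0) (a l0) * Y = Y := by
          simpa using hY.2 (sx (F := F) l0 (a l0) (a l0), 1) (Or.inl ⟨l0, hl0, Or.inl rfl⟩)
        have h2 : X = X * sx (F := F) l0 (b l0) (b l0) := by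
          simpa using hX.2 (1, sx (F := F) l0 (b l0) (b l0)) (Or.inl ⟨l0, hl0, Or.inr rfl⟩)
        rw [h2, ← h1, mul_assoc, ← mul_assoc (sx (F := F) l0 _ _), sx_mul, if_neg (hab l0 hl0).symm, zero_mul, mul_zero]
      have hncj : ∃ x y, sx (F := F) j x y * X ≠ X * sx (F := F) j x y := by
        by_contra hcon
        push Not at hcon
        obtain ⟨e1, e2⟩ := hFJ _ Set.subset_union_right X hX
        rw [hP', comm_slot_of_units hcon Q, e2] at e1
        exact hX0 e1.symm
      obtain ⟨x, y, hxy, Y, hY, hY0, hY1, hY2⟩ := step hm hB j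
        (Fr := FL L a b ∪ FC C) (fun p hp => by
          rcases hp with hp | hp
          · exact hcL L a b j hjL p hp
          · exact hcC C j hjC p hp) hXX
        ⟨hX.1, fun p hp => hX.2 p (Or.inl hp)⟩ hncj
      have hlj : ∀ l ∈ L, l ≠ j := fun l hl e => hjL (e ▸ hl)
      obtain ⟨c', hc'⟩ := eq_pp (L := insert j L) (a := Function.update a j x) (b := Function.update b j y) (X := Y)
        (fun l hl => by
          rcases Finset.mem_insert.1 hl with rfl | hl
          · simpa using hY1
          · simpa [hlj l hl] using hY.2 (sx (F := F) l (a l) (a l), 1) (Or.inl ⟨l, hl, Or.inl rfl⟩))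
        (fun l hl => by
          rcases Finset.mem_insert.1 hl with rfl | hl
          · simpa using hY2
          · simpa [hlj l hl] using (hY.2 (1, sx (F := F) l (b l) (b l)) (Or.inl ⟨l, hl, Or.inr rfl⟩)).symm)
        (fun l hl u v => by
          rw [Finset.mem_insert, not_or] at hl
          exact hY.2 (sx (F := F) l u v, sx (F := F) l u v) (Or.inr ⟨l, (Finset.mem_union.1 (hall l hl.1)).resolve_left hl.2, u, v, rfl⟩))
      have hc0 : c' ≠ 0 := fun h => hY0 (by rw [hc', h, pp, zero_smul])
      refine hne (sl_le_of_pattern (L := insert j L) (a := Function.update a j x) (b := Function.update b j y) hm hB hP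
        ?_ ?_ hc0 (hc' ▸ hY.1))
      · rw [Finset.card_insert_of_notMem hjL]
        have := Finset.card_pos.2 ⟨l0, hl0⟩
        omega
      · intro l hl
        rcases Finset.mem_insert.1 hl with rfl | hl
        · simpa using hxy
        · simpa [hlj l hl] using hab l hl
    | succ n ih =>
      intro L C a b X hjL hjC hL hab hX0 hX hn
      by_cases hall : t ≤ (L ∪ C).card + 1 + n
      · exact ih L C a b X hjL hjC hL hab hX0 hX hall
      obtain ⟨k, hkj, hkL, hkC⟩ : ∃ k, k ≠ j ∧ k ∉ L ∧ k ∉ C := by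
        by_contra hcon
        push Not at hcon
        have h1 : (Finset.univ : Finset (Fin t)) ⊆ insert j (L ∪ C) := fun l _ => by
          rw [Finset.mem_insert, Finset.mem_union]
          by_cases h : l = j
          · exact Or.inl h
          · by_cases h' : l ∈ L
            · exact Or.inr (Or.inl h')
            · exact Or.inr (Or.inr (hcon l h h'))
        have := (Finset.card_le_card h1).trans (Finset.card_insert_le _ _)
        simp at this
        omega
      have hcard : t ≤ (insert k L ∪ C).card + 1 + n := by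
        rw [Finset.insert_union, Finset.card_insert_of_notMem (by simp [hkL, hkC])]
        omega
      by_cases hnk : ∀ x y, sx (F := F) k x y * X = X * sx (F := F) k x y
      · refine ih L (insert k C) a b X hjL (by simp [hjC, hkj.symm]) hL hab hX0 ⟨hX.1, fun p hp => ?_⟩
          (by rwa [Finset.union_insert, ← Finset.insert_union])
        rcases hp with (hp | ⟨l, hl, u, v, rfl⟩) | hp
        · exact hX.2 p (Or.inl (Or.inl hp))
        · rcases Finset.mem_insert.1 hl with rfl | hl
          · exact hnk u v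
          · exact hX.2 _ (Or.inl (Or.inr ⟨l, hl, u, v, rfl⟩))
        · exact hX.2 p (Or.inr hp)
      · push Not at hnk
        obtain ⟨x, y, hxy, Y, hY, hY0, hY1, hY2⟩ := step hm hB k (Fr := FL L a b ∪ FC C ∪ FJ) (fun p hp => by
            rcases hp with (hp | hp) | hp
            · exact hcL L a b k hkL p hp
            · exact hcC C k hkC p hp
            · exact hcJ k hkj p hp) (hsqJ _ Set.subset_union_right) hX hnk
        have hlk : ∀ l ∈ L, l ≠ k := fun l hl e => hkL (e ▸ hl)
        refine ih (insert k L) C (Function.update a k x) (Function.update b k y) Y (by simp [hjL, hkj.symm]) hjC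
          ⟨k, Finset.mem_insert_self k L⟩ (fun l hl => ?_) hY0 ⟨hY.1, fun p hp => ?_⟩ hcard
        · rcases Finset.mem_insert.1 hl with rfl | hl
          · simpa using hxy
          · simpa [hlk l hl] using hab l hl
        · rcases hp with (⟨l, hl, hp⟩ | hp) | hp
          · rcases Finset.mem_insert.1 hl with rfl | hl
            · simp only [Function.update_self] at hp
              rcases hp with rfl | rfl
              · rw [hY1, mul_one]
              · rw [hY2, one_mul]
            · simp only [Function.update_of_ne (hlk l hl)] at hp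
              exact hY.2 p (Or.inl (Or.inl ⟨l, hl, hp⟩))
          · exact hY.2 p (Or.inl (Or.inr hp))
          · exact hY.2 p (Or.inr hp)
  have hψJ : ψ ∈ Frame M FJ := ⟨hψ, by
    rintro p (rfl | rfl)
    · simpa using h1
    · simpa using h2.symm⟩
  obtain ⟨x, y, hxy, Y, hY, hY0, hY1, hY2⟩ := step hm hB k (hcJ k hk) (hsqJ FJ subset_rfl) hψJ ⟨c, d, hnc⟩
  refine loop t {k} ∅ (fun _ => x) (fun _ => y) Y (by simpa using hk.symm) (by simp) (Finset.singleton_nonempty k)
    (fun l _ => hxy) hY0 ⟨hY.1, fun p hp => ?_⟩ (by omega)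
  rcases hp with (⟨l, hl, rfl | rfl⟩ | ⟨l, hl, -⟩) | hp
  · rw [Finset.mem_singleton.1 hl, hY1, mul_one]
  · rw [Finset.mem_singleton.1 hl, hY2, one_mul]
  · simp at hl
  · exact hY.2 p hp

end CfsgLib.Perm.Trans.TensorPower
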