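import Cfsg.Agent.Lib.Perm.Trans.TensorPower.Sum
import Cfsg.Agent.Lib.Perm.Trans.Basic

/-!
# Tensor powers: the base group, the factor permutations and the wreath subgroup
-/

set_option autoImplicit false
set_option linter.all false

namespace CfsgLib.Perm.Trans.TensorPower

open scoped Matrix
open Matrix Cfsg.Geo CfsgLib.Perm.Asch CfsgLib.Perm.Trans

variable {m t : ℕ} {F : Type*} [Field F]

/-- the element `a` in the `i`-th factor -/
def sl (i : Fin t) (a : GL (Fin m) F) : GL (Fin t → Fin m) F := pureGL (Pi.mulSingle i a)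

theorem sl_coe (i : Fin t) (a : GL (Fin m) F) :
    (sl i a : Matrix (Fin t → Fin m) (Fin t → Fin m) F) = slot i (a : Matrix (Fin m) (Fin m) F) := by
  rw [sl, pureGL_coe, slot]
  congr 1
  funext j
  rcases eq_or_ne j i with rfl | hj
  · simp
  · simp [Pi.mulSingle_eq_of_ne hj]

theorem sl_mul (i : Fin t) (a b : GL (Fin m) F) : sl i a * sl i b = sl i (a * b) :=
  Units.ext (by rw [Units.val_mul, sl_coe, sl_coe, sl_coe, slot_mul, Units.val_mul])

theorem sl_one (i : Fin t) : sl (F := F) (m := m) i 1 = 1 :=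
  Units.ext (by rw [sl_coe]; exact (slotHom i).map_one)

theorem sl_inv (i : Fin t) (a : GL (Fin m) F) : sl i a⁻¹ = (sl i a)⁻¹ :=
  (inv_eq_of_mul_eq_one_right (by rw [sl_mul, mul_inv_cancel, sl_one])).symm

theorem sl_pow (i : Fin t) (a : GL (Fin m) F) (k : ℕ) : sl i (a ^ k) = sl i a ^ k := by
  induction k with
  | zero => rw [pow_zero, pow_zero, sl_one]
  | succ k ih => rw [pow_succ, pow_succ, ← sl_mul, ih]

theorem cj_sl_slot (i : Fin t) (a : GL (Fin m) F) (X : Matrix (Fin m) (Fin m) F) :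
    cj (sl i a) (slot i X) = slot i (cj a X) := by
  rw [sl, cj_pureGL_slot, Pi.mulSingle_eq_same]

theorem slot_comm {i j : Fin t} (h : i ≠ j) (X Y : Matrix (Fin m) (Fin m) F) :
    slot i X * slot j Y = slot j Y * slot i X := by
  rw [slot, slot, pure_mul, pure_mul]
  exact congrArg _ (Pi.mulSingle_commute (f := fun _ : Fin t => Matrix (Fin m) (Fin m) F) h X Y).eq

theorem sl_comm {i j : Fin t} (h : i ≠ j) (a b : GL (Fin m) F) : sl i a * sl j b = sl j b * sl i a :=
  Units.ext (by rw [Units.val_mul, Units.val_mul, sl_coe, sl_coe, slot_comm h])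

theorem cj_eq_self {ι : Type} [Fintype ι] [DecidableEq ι] {g : GL ι F} {X : Matrix ι ι F}
    (h : (g : Matrix ι ι F) * X = X * (g : Matrix ι ι F)) : cj g X = X := by
  rw [cj, h, mul_assoc, gl_mul_inv, mul_one]

theorem cj_sl_slot_ne {i j : Fin t} (h : i ≠ j) (a : GL (Fin m) F) (X : Matrix (Fin m) (Fin m) F) :
    cj (sl i a) (slot j X) = slot j X := cj_eq_self (by rw [sl_coe, slot_comm h])

/-- the matrix units of the `i`-th factor -/
def sx (i : Fin t) (a b : Fin m) : Matrix (Fin t → Fin m) (Fin t → Fin m) F := slot i (Matrix.single a b 1)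

theorem sx_mul (i : Fin t) (a b c d : Fin m) :
    (sx i a b : Matrix (Fin t → Fin m) (Fin t → Fin m) F) * sx i c d = if b = c then sx i a d else 0 := by
  unfold sx
  rw [slot_mul]
  split_ifs with h
  · subst h; rw [Matrix.single_mul_single_same, one_mul]
  · rw [Matrix.single_mul_single_of_ne (h := h)]; exact (slotHom i).map_zero

theorem sx_sum (i : Fin t) : ∑ a, (sx i a a : Matrix (Fin t → Fin m) (Fin t → Fin m) F) = 1 := by
  unfold sx
  rw [← map_one (slotHom i), ← Matrix.sum_single_one, map_sum]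
  rfl

theorem sx_comm {i j : Fin t} (h : i ≠ j) (a b c d : Fin m) :
    (sx i a b : Matrix (Fin t → Fin m) (Fin t → Fin m) F) * sx j c d = sx j c d * sx i a b :=
  slot_comm h _ _

theorem comm_slot_of_units {i : Fin t} {X : Matrix (Fin t → Fin m) (Fin t → Fin m) F}
    (h : ∀ a b, sx i a b * X = X * sx i a b) (Y : Matrix (Fin m) (Fin m) F) : slot i Y * X = X * slot i Y := by
  rw [← slotHom_apply, Matrix.matrix_eq_sum_single Y]
  simp only [map_sum]
  rw [Finset.sum_mul, Finset.mul_sum]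
  refine Finset.sum_congr rfl fun a _ => ?_
  rw [Finset.sum_mul, Finset.mul_sum]
  refine Finset.sum_congr rfl fun b _ => ?_
  rw [show Matrix.single a b (Y a b) = Y a b • Matrix.single a b (1 : F) by simp, map_smul, slotHom_apply,
    Matrix.smul_mul, Matrix.mul_smul]
  exact congrArg _ (h a b)

/-! ### the hypotheses on an overgroup -/

/-- `M` contains the special linear group of every factor -/
def HasBase (M : Subgroup (GL (Fin t → Fin m) F)) : Prop :=
  ∀ (i : Fin t) (a : GL (Fin m) F), (a : Matrix (Fin m) (Fin m) F).det = 1 → sl i a ∈ M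

/-- `M` induces every 3-cycle of the factors -/
def HasPerms (M : Subgroup (GL (Fin t → Fin m) F)) : Prop :=
  ∀ a b c : Fin t, a ≠ b → a ≠ c → b ≠ c →
    ∃ A : Fin t → GL (Fin m) F, permGL (Equiv.swap a b * Equiv.swap a c) * pureGL A ∈ M

variable {M : Subgroup (GL (Fin t → Fin m) F)}

theorem HasBase.rank_one (hB : HasBase M) (i : Fin t) (u φ : Fin m → F) (h : φ ⬝ᵥ u = 0) :
    Mem1 M (slot i (vecMulVec u φ)) :=
  ⟨sl i (tv u φ h), hB i _ (congrArg Units.val (tv_mem_SL u φ h)), by
    rw [sl_coe, tv_coe, ← slotHom_apply, map_add, map_one, slotHom_apply]⟩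

theorem single_eq_vecMulVec (a b : Fin m) (c : F) :
    (Matrix.single a b c : Matrix (Fin m) (Fin m) F) = vecMulVec (Pi.single a c) (Pi.single b 1) := by
  ext x y
  rw [Matrix.vecMulVec_apply, Matrix.single_apply, Pi.single_apply, Pi.single_apply]
  by_cases ha : a = x <;> by_cases hb : b = y <;> simp [ha, hb, Ne.symm, eq_comm]

theorem HasBase.unit (hB : HasBase M) (i : Fin t) {a b : Fin m} (hab : a ≠ b) (c : F) :
    Mem1 M (c • sx i a b) := by
  have h := hB.rank_one i (Pi.single a c) (Pi.single b 1) (by simp [dotProduct_single, Ne.symm hab, hab])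
  rw [← single_eq_vecMulVec] at h
  rwa [sx, ← slotHom_apply, ← map_smul, Matrix.smul_single, smul_eq_mul, mul_one, slotHom_apply]

theorem unit_sq (i : Fin t) {a b : Fin m} (hab : a ≠ b) (c : F) :
    (c • sx i a b : Matrix (Fin t → Fin m) (Fin t → Fin m) F) * (c • sx i a b) = 0 := by
  rw [Matrix.smul_mul, Matrix.mul_smul, sx_mul, if_neg hab.symm, smul_zero, smul_zero]

/-- the difference along a root of the base, as a conjugation -/
theorem dlt_eq_cj (hB : HasBase M) (i : Fin t) {a b : Fin m} (hab : a ≠ b)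
    (X : Matrix (Fin t → Fin m) (Fin t → Fin m) F) :
    ∃ g ∈ M, (g : Matrix (Fin t → Fin m) (Fin t → Fin m) F) = 1 + sx i a b ∧ dlt (sx i a b) X = cj g X - X := by
  obtain ⟨g, hg, hgX⟩ := hB.unit i hab 1
  rw [one_smul] at hgX
  refine ⟨g, hg, hgX, ?_⟩
  rw [cj, hgX, inv_one_add hgX (by rw [sx_mul, if_neg hab.symm]), dlt]

/-! ### the wreath subgroup -/

theorem permGL_mul (σ τ : Equiv.Perm (Fin t)) :
    permGL (κ := Fin m) (F := F) σ * permGL τ = permGL (σ * τ) :=
  Units.ext (permMat_mul_permMat σ τ)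

theorem permGL_one : permGL (κ := Fin m) (F := F) (1 : Equiv.Perm (Fin t)) = 1 := Units.ext permMat_one

theorem cj_wreath_slot (σ : Equiv.Perm (Fin t)) (A : Fin t → GL (Fin m) F) (i : Fin t)
    (X : Matrix (Fin m) (Fin m) F) : cj (permGL σ * pureGL A) (slot i X) = slot (σ i) (cj (A i) X) := by
  rw [← cj_cj, cj_pureGL_slot, cj_permGL_slot]

theorem pure_mem_tw (A : Fin t → GL (Fin m) F) : pureGL A ∈ tensorWreathStandard m t F :=
  Subgroup.subset_closure (Or.inl ⟨A, fun x y => rfl⟩)

theorem perm_mem_tw (σ : Equiv.Perm (Fin t)) : permGL σ ∈ tensorWreathStandard m t F :=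
  Subgroup.subset_closure (Or.inr ⟨σ, fun x y => rfl⟩)

theorem sl_mem_tw (i : Fin t) (a : GL (Fin m) F) : sl i a ∈ tensorWreathStandard m t F := pure_mem_tw _

theorem pureGL_mul (A B : Fin t → GL (Fin m) F) : pureGL A * pureGL B = pureGL (A * B) := by
  simp only [pureGL, map_mul]

theorem pureGL_one : pureGL (1 : Fin t → GL (Fin m) F) = 1 := by
  simp only [pureGL, map_one]

theorem pureGL_perm (σ : Equiv.Perm (Fin t)) (A : Fin t → GL (Fin m) F) :
    pureGL A * permGL σ = permGL σ * pureGL (A ∘ σ) := by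
  have h : permGL σ * pureGL (A ∘ σ) * (permGL σ)⁻¹ = pureGL A := Units.ext (by
    rw [← cj_coe, pureGL_coe, cj_permGL_pure, pureGL_coe]
    congr 1
    funext i
    simp)
  rw [← h, inv_mul_cancel_right]

/-- every element of the wreath subgroup is a permutation times a pure tensor -/
theorem tw_shape {g : GL (Fin t → Fin m) F} (hg : g ∈ tensorWreathStandard m t F) :
    ∃ (σ : Equiv.Perm (Fin t)) (A : Fin t → GL (Fin m) F), g = permGL σ * pureGL A := by
  induction hg using Subgroup.closure_induction with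
  | mem g h =>
    rcases h with ⟨A, hA⟩ | ⟨σ, hσ⟩
    · exact ⟨1, A, by rw [permGL_one, one_mul]; exact Units.ext (Matrix.ext fun x y => hA x y)⟩
    · exact ⟨σ, 1, by rw [pureGL_one, mul_one]; exact Units.ext (Matrix.ext fun x y => hσ x y)⟩
  | one => exact ⟨1, 1, by rw [permGL_one, pureGL_one, one_mul]⟩
  | mul g h _ _ ihg ihh =>
    obtain ⟨σ, A, rfl⟩ := ihg
    obtain ⟨τ, B, rfl⟩ := ihh
    exact ⟨σ * τ, (A ∘ τ) * B, by
      rw [mul_assoc, ← mul_assoc (pureGL A), pureGL_perm, ← permGL_mul, ← pureGL_mul, mul_assoc, mul_assoc]⟩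
  | inv g _ ih =>
    obtain ⟨σ, A, rfl⟩ := ih
    refine ⟨σ⁻¹, fun i => (A (σ.symm i))⁻¹, ?_⟩
    have h1 : (permGL (κ := Fin m) (F := F) σ)⁻¹ = permGL σ⁻¹ :=
      inv_eq_of_mul_eq_one_right (by rw [permGL_mul, mul_inv_cancel, permGL_one])
    have h2 : (pureGL A)⁻¹ = pureGL (fun i => (A i)⁻¹) :=
      inv_eq_of_mul_eq_one_right (by
        rw [pureGL_mul, show A * (fun i => (A i)⁻¹) = 1 from funext fun i => mul_inv_cancel (A i), pureGL_one])
    rw [_root_.mul_inv_rev, h1, h2, pureGL_perm]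
    rfl

theorem std_eq (m t : ℕ) :
    tensorWreathSubgroup m t (Equiv.refl (Fin t → Fin m)) (1 : GL (Fin t → Fin m) F) = tensorWreathStandard m t F := by
  have h1 : (glReindex (F := F) (Equiv.refl (Fin t → Fin m)).symm).toMonoidHom = MonoidHom.id _ :=
    MonoidHom.ext fun g => Units.ext (Matrix.ext fun x y => rfl)
  have h2 : (MulAut.conj (1 : GL (Fin t → Fin m) F)).toMonoidHom = MonoidHom.id _ :=
    MonoidHom.ext fun g => by simp
  rw [tensorWreathSubgroup, h1, h2, Subgroup.map_id, Subgroup.map_id]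

/-- an element permuting the factor algebras lies in the wreath subgroup -/
theorem tw_of_slots (hm : 0 < m) (ht : 0 < t) {g : GL (Fin t → Fin m) F} (π : Equiv.Perm (Fin t))
    (h : ∀ i a b, ∃ X, cj g (sx i a b) = slot (π i) X) : g ∈ tensorWreathStandard m t F := by
  have hid : ∀ Z : Matrix (Fin t → Fin m) (Fin t → Fin m) F,
      cj (1 : GL (Fin t → Fin m) F) (rx (Equiv.refl _) Z) = Z := fun Z => by simp [cj]; rfl
  let H : Subgroup (GL (Fin t → Fin m) F) :=
  { carrier := {g | ∃ π : Equiv.Perm (Fin t), ∀ i X, ∃ Y, cj g (slot i X) = slot (π i) Y}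
    one_mem' := ⟨1, fun i X => ⟨X, by simp [cj]⟩⟩
    mul_mem' := by
      rintro g h ⟨π, hπ⟩ ⟨ρ, hρ⟩
      refine ⟨π * ρ, fun i X => ?_⟩
      obtain ⟨Y, hY⟩ := hρ i X
      obtain ⟨Z, hZ⟩ := hπ (ρ i) Y
      exact ⟨Z, by rw [← cj_cj, hY, hZ]; rfl⟩
    inv_mem' := by
      rintro g ⟨π, hπ⟩
      choose f hf using hπ
      refine ⟨π⁻¹, fun i X => ?_⟩
      have hinj : Function.Injective
          (((cjAlg g).toAlgHom.comp (slotHom (π⁻¹ i))).toLinearMap) := by
        intro a b hab
        haveI : Nonempty (Fin m) := ⟨⟨0, hm⟩⟩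
        exact slot_injective _ (cj_injective g hab)
      let L : Matrix (Fin m) (Fin m) F →ₗ[F] Matrix (Fin m) (Fin m) F :=
        { toFun := f (π⁻¹ i)
          map_add' := fun a b => by
            haveI : Nonempty (Fin m) := ⟨⟨0, hm⟩⟩
            apply slot_injective (π (π⁻¹ i))
            rw [← hf, ← slotHom_apply, ← slotHom_apply (π (π⁻¹ i)), map_add, map_add, cj_add, slotHom_apply,
              slotHom_apply, slotHom_apply, hf, hf]
            rfl
          map_smul' := fun c a => by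
            haveI : Nonempty (Fin m) := ⟨⟨0, hm⟩⟩
            apply slot_injective (π (π⁻¹ i))
            rw [← hf, ← slotHom_apply, ← slotHom_apply (π (π⁻¹ i)), map_smul, RingHom.id_apply, map_smul, cj_smul,
              slotHom_apply, slotHom_apply, hf] }
      obtain ⟨Y, hY⟩ := LinearMap.surjective_of_injective (f := L) (fun a b hab => by
        haveI : Nonempty (Fin m) := ⟨⟨0, hm⟩⟩
        apply slot_injective (π⁻¹ i)
        apply cj_injective g
        rw [hf, hf]
        exact congrArg _ hab) X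
      refine ⟨Y, cj_injective g ?_⟩
      rw [cj_cj_inv, hf, show f (π⁻¹ i) Y = X from hY, Equiv.Perm.inv_def, Equiv.apply_symm_apply] }
  have hle := le_tensorWreath hm ht (Equiv.refl (Fin t → Fin m)) (1 : GL (Fin t → Fin m) F) (H := H) fun g hg => by
    obtain ⟨π, hπ⟩ := hg
    refine ⟨π, fun i a b => ?_⟩
    obtain ⟨Y, hY⟩ := hπ i (Matrix.single a b 1)
    exact ⟨Y, by rw [hid, hid, hY]⟩
  rw [std_eq] at hle
  refine hle ⟨π, fun i X => ?_⟩
  choose f hf using h i
  refine ⟨∑ a, ∑ b, X a b • f a b, ?_⟩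
  conv_lhs => rw [Matrix.matrix_eq_sum_single X]
  simp only [← slotHom_apply, ← cjAlg_apply, map_sum]
  refine Finset.sum_congr rfl fun a _ => Finset.sum_congr rfl fun b _ => ?_
  rw [show Matrix.single a b (X a b) = X a b • Matrix.single a b (1 : F) by simp, map_smul, map_smul, map_smul,
    cjAlg_apply, slotHom_apply, slotHom_apply]
  exact congrArg _ (hf a b)

end CfsgLib.Perm.Trans.TensorPower
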