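import Cfsg.Agent.Lib.Perm.Trans.TensorPower.Block

/-!
# Elements carrying a coordinate subspace of one factor to itself and the base group into `M`
-/

set_option autoImplicit false
set_option linter.all false

namespace CfsgLib.Perm.Trans.TensorPower

open scoped Matrix
open Matrix Cfsg.Geo CfsgLib.Perm.Asch CfsgLib.Perm.Trans

variable {m t : ℕ} {F : Type*} [Field F]

local notation "Mat" => Matrix (Fin t → Fin m) (Fin t → Fin m) F

/-- `g` induces `σ` on the factors -/
def HasPerm (g : GL (Fin t → Fin m) F) (σ : Equiv.Perm (Fin t)) : Prop :=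
  ∃ A : Fin t → GL (Fin m) F, g = permGL σ * pureGL A

theorem HasPerm.mul {g h : GL (Fin t → Fin m) F} {σ τ : Equiv.Perm (Fin t)} (hg : HasPerm g σ) (hh : HasPerm h τ) :
    HasPerm (g * h) (σ * τ) := by
  obtain ⟨A, rfl⟩ := hg
  obtain ⟨B, rfl⟩ := hh
  exact ⟨(A ∘ τ) * B, by
    rw [mul_assoc, ← mul_assoc (pureGL A), pureGL_perm, ← permGL_mul, ← pureGL_mul, mul_assoc, mul_assoc]⟩

theorem HasPerm.inv {g : GL (Fin t → Fin m) F} {σ : Equiv.Perm (Fin t)} (hg : HasPerm g σ) : HasPerm g⁻¹ σ⁻¹ := by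
  obtain ⟨A, rfl⟩ := hg
  refine ⟨fun i => (A (σ.symm i))⁻¹, inv_eq_of_mul_eq_one_right ?_⟩
  rw [mul_assoc, ← mul_assoc (pureGL A), pureGL_perm, mul_assoc, pureGL_mul, ← mul_assoc, permGL_mul, mul_inv_cancel,
    permGL_one, one_mul, show (A ∘ ⇑σ⁻¹) * (fun i => (A (σ.symm i))⁻¹) = 1 from
      funext fun i => mul_inv_cancel (A (σ.symm i)), pureGL_one]

theorem HasPerm.unique (hm : 2 ≤ m) {g : GL (Fin t → Fin m) F} {σ τ : Equiv.Perm (Fin t)} (hg : HasPerm g σ)
    (hg' : HasPerm g τ) : σ = τ := by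
  obtain ⟨B, hB⟩ := hg.inv.mul hg'
  rw [inv_mul_cancel] at hB
  have := perm_eq_one (B := 1) hm (hB.symm.trans pureGL_one.symm)
  rwa [inv_mul_eq_one] at this

variable {M : Subgroup (GL (Fin t → Fin m) F)} {j : Fin t} {J : Finset (Fin m)}

theorem shp_slot [Fintype F] (hm : 3 ≤ m) (hB : HasBase M) (hP : HasPerms M)
    (hne : ¬ specialLinear (Fin t → Fin m) F ≤ M) {ψ : Mat} (h : Shp j J ψ) (hψ : Mem1 M ψ) :
    ∃ η : Matrix (Fin m) (Fin m) F, ψ = slot j η :=
  Off.eq_slot (by omega) fun k hk u v => scalar_of_shape hm hB hP hne j (ind J) h.left h.right hψ hk u v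

/-- a shape lying in one slot gives an element of the base -/
theorem shp_sl (hm : 0 < m) {η : Matrix (Fin m) (Fin m) F} (h : Shp j J (slot j η : Mat)) :
    ∃ a : GL (Fin m) F, (a : Matrix (Fin m) (Fin m) F).det = 1 ∧ (a : Matrix (Fin m) (Fin m) F) = 1 + η := by
  haveI : Nonempty (Fin m) := ⟨⟨0, hm⟩⟩
  have h1 : ind J * η = η := slot_injective j (by rw [← slot_mul]; exact h.left)
  have h2 : η * ind J = 0 := slot_injective j (by rw [← slot_mul, slot_zero]; exact h.right)
  have hsq : η * η = 0 := by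
    have : η * (ind J * η) = 0 := by rw [← mul_assoc, h2, zero_mul]
    rwa [h1] at this
  refine ⟨⟨1 + η, 1 - η, ?_, ?_⟩, ?_, rfl⟩
  · rw [add_mul, one_mul, mul_sub, mul_one, hsq, sub_zero, sub_add_cancel]
  · rw [sub_mul, one_mul, mul_add, mul_one, hsq, add_zero, add_sub_cancel_right]
  · show (1 + η).det = 1
    rw [← h1, Matrix.det_one_add_mul_comm, h2, add_zero, Matrix.det_one]

theorem det_conj {a b : GL (Fin m) F} (h : (b : Matrix (Fin m) (Fin m) F).det = 1) :
    ((a * b * a⁻¹ : GL (Fin m) F) : Matrix (Fin m) (Fin m) F).det = 1 := by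
  rw [Units.val_mul, Units.val_mul, Matrix.det_units_conj, h]

theorem cj_neg {ι : Type} [Fintype ι] [DecidableEq ι] (g : GL ι F) (a : Matrix ι ι F) : cj g (-a) = -cj g a := by
  simp [cj]

/-- the correction term of an element normalising the slot is in the slot -/
theorem slot_of_twist [Fintype F] (hm : 3 ≤ m) (hB : HasBase M) (hP : HasPerms M)
    (hne : ¬ specialLinear (Fin t → Fin m) F ≤ M) {g q : GL (Fin t → Fin m) F} {ψ : Mat} {C : GL (Fin m) F}
    (hg : (g : Mat) = (q : Mat) * (1 + ψ)) (hψ : Shp j J ψ)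
    (hqP : (q : Mat) * slot j (ind J) = slot j (ind J) * (q : Mat))
    (hqC : ∀ X, cj q (slot j X : Mat) = slot j (cj C X))
    (hgb : ∀ a : GL (Fin m) F, (a : Matrix (Fin m) (Fin m) F).det = 1 → g * sl j a * g⁻¹ ∈ M) :
    ∃ η : Matrix (Fin m) (Fin m) F, ψ = slot j η := by
  classical
  have hψψ : ψ * ψ = 0 := hψ.mul hψ
  have hqinv : ∀ Z : Mat, (∃ η, cj q Z = slot j η) → ∃ η, Z = slot j η := by
    rintro Z ⟨η, hη⟩
    exact ⟨cj C⁻¹ η, cj_injective q (by rw [hqC, cj_cj_inv]; exact hη)⟩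
  have main : ∀ c d : Fin m, c ≠ d → (c ∈ J ↔ d ∈ J) →
      ∃ η : Matrix (Fin m) (Fin m) F, dlt (sx j c d) ψ = slot j η := by
    intro c d hcd hiff
    set τ := tv (Pi.single c 1 : Fin m → F) (Pi.single d 1) (by simp [dotProduct_single, hcd, hcd.symm]) with hτ
    have hτm : (τ : Matrix (Fin m) (Fin m) F) = 1 + Matrix.single c d 1 := by rw [hτ, tv_coe, single_eq_vecMulVec]
    have hτd : (τ : Matrix (Fin m) (Fin m) F).det = 1 := congrArg Units.val (tv_mem_SL _ _ _)
    have hT : (sl j τ : Mat) = 1 + sx j c d := by rw [sl_coe, hτm, slot_add, slot_one]; rfl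
    have hee : sx j c d * sx j c d = (0 : Mat) := by rw [sx_mul, if_neg hcd.symm]
    have hcomm : (sl j τ : Mat) * slot j (ind J) = slot j (ind J) * (sl j τ : Mat) := by
      rw [hT, add_mul, mul_add, one_mul, mul_one, ind_left, ind_right]
      by_cases h : c ∈ J
      · rw [if_pos h, if_pos (hiff.1 h)]
      · rw [if_neg h, if_neg (fun h' => h (hiff.2 h'))]
    have hsh : Shp j J (dlt (sx j c d) ψ) := by
      have h1 := (hψ.conj hcomm).sub hψ
      rwa [cj, hT, inv_one_add hT hee] at h1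
    have h2 : ψ * cj (sl j τ) ψ = 0 := hψ.mul (hψ.conj hcomm)
    have hshq : Shp j J (-cj q (dlt (sx j c d) ψ)) := by
      have h3 := hsh.conj hqP
      exact ⟨by rw [mul_neg, h3.left], by rw [neg_mul, h3.right, neg_zero]⟩
    obtain ⟨η, hη⟩ := shp_slot hm hB hP hne hshq (⟨g * sl j τ * g⁻¹ * (sl j (C * τ * C⁻¹))⁻¹,
      M.mul_mem (hgb τ hτd) (M.inv_mem (hB j _ (det_conj hτd))), by
      have hq' : sl j (C * τ * C⁻¹) = q * sl j τ * q⁻¹ := Units.ext (by
        rw [← cj_coe, sl_coe, sl_coe, hqC, cj_coe])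
      have hgi : ((g⁻¹ : GL (Fin t → Fin m) F) : Mat) = (1 - ψ) * ((q⁻¹ : GL (Fin t → Fin m) F) : Mat) := by
        have h4 : (g : Mat) * ((1 - ψ) * ((q⁻¹ : GL (Fin t → Fin m) F) : Mat)) = 1 := by
          rw [hg, mul_assoc, ← mul_assoc (1 + ψ), show (1 + ψ) * (1 - ψ) = 1 by
            rw [add_mul, one_mul, mul_sub, mul_one, hψψ, sub_zero, sub_add_cancel], one_mul, gl_mul_inv]
        calc ((g⁻¹ : GL (Fin t → Fin m) F) : Mat) = ((g⁻¹ : GL (Fin t → Fin m) F) : Mat) * ((g : Mat) *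
              ((1 - ψ) * ((q⁻¹ : GL (Fin t → Fin m) F) : Mat))) := by rw [h4, mul_one]
          _ = _ := by rw [← mul_assoc, gl_inv_mul, one_mul]
      rw [hq', _root_.mul_inv_rev, _root_.mul_inv_rev, inv_inv]
      simp only [Units.val_mul]
      rw [hgi, hg]
      calc (q : Mat) * (1 + ψ) * (sl j τ : Mat) * ((1 - ψ) * ((q⁻¹ : GL (Fin t → Fin m) F) : Mat)) *
            ((q : Mat) * ((((sl j τ)⁻¹ : GL (Fin t → Fin m) F) : Mat) * ((q⁻¹ : GL (Fin t → Fin m) F) : Mat)))
          = cj q ((1 + ψ) * ((sl j τ : Mat) * (1 - ψ) * (((sl j τ)⁻¹ : GL (Fin t → Fin m) F) : Mat))) := by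
            simp only [cj, mul_assoc]
            rw [← mul_assoc ((q⁻¹ : GL (Fin t → Fin m) F) : Mat) (q : Mat), gl_inv_mul, one_mul]
        _ = cj q ((1 + ψ) * (1 - cj (sl j τ) ψ)) := by
            rw [show (sl j τ : Mat) * (1 - ψ) * (((sl j τ)⁻¹ : GL (Fin t → Fin m) F) : Mat) = cj (sl j τ) (1 - ψ) from rfl,
              cj_sub, cj_one]
        _ = 1 + -cj q (dlt (sx j c d) ψ) := by
            rw [show (1 + ψ) * (1 - cj (sl j τ) ψ) = 1 - (cj (sl j τ) ψ - ψ) by
              rw [add_mul, one_mul, mul_sub, mul_one, h2, sub_zero]; abel, cj_sub, cj_one, sub_eq_add_neg]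
            congr 3
            rw [cj, hT, inv_one_add hT hee]
            rfl⟩)
    exact hqinv _ ⟨-η, by rw [← neg_neg (cj q _), hη, ← slotHom_apply, ← slotHom_apply, map_neg]⟩
  have hdd : ∀ c d : Fin m, dlt (sx (F := F) j c d) ψ = sx j c d * ψ - ψ * sx j c d - sx j c d * ψ * sx j c d :=
    fun c d => dlt_eq _ _
  suffices hoff : Off j ψ from hoff.eq_slot (by omega)
  intro k hk u v
  have hcs : ∀ (η : Matrix (Fin m) (Fin m) F) (a b : Fin m),
      sx k u v * (slot j η * sx j a b : Mat) = slot j η * sx j a b * sx k u v ∧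
      sx k u v * (sx j a b * slot j η : Mat) = sx j a b * slot j η * sx k u v := fun η a b => by
    rw [show sx (F := F) j a b = slot j (Matrix.single a b 1) from rfl, slot_mul, slot_mul]
    exact ⟨slot_comm hk _ _, slot_comm hk _ _⟩
  by_cases h2 : 2 ≤ Jᶜ.card
  · have hcol : ∀ d, sx k u v * (ψ * sx j d d) = ψ * sx j d d * sx k u v := by
      intro d
      by_cases hd : d ∈ J
      · rw [show sx (F := F) j d d = slot j (ind J) * sx j d d by rw [ind_left, if_pos hd], ← mul_assoc ψ, hψ.right,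
          zero_mul, mul_zero, zero_mul]
      · obtain ⟨c, hc, hcd⟩ := Finset.exists_mem_ne (show 1 < Jᶜ.card by omega) d
        rw [Finset.mem_compl] at hc
        obtain ⟨η, hη⟩ := main d c hcd.symm (by simp [hd, hc])
        have he : sx j d c * ψ = 0 := by
          rw [← hψ.left, ← mul_assoc, ind_right, if_neg hc, zero_mul]
        rw [hdd, he, zero_mul, zero_sub, sub_zero] at hη
        have h3 : ψ * sx j d d = slot j (-η) * sx j c d := by
          rw [← slotHom_apply, map_neg, slotHom_apply, ← hη, neg_neg, mul_assoc, sx_mul, if_pos rfl]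
        rw [h3]
        exact (hcs _ c d).1
    rw [← mul_one ψ, ← sx_sum j, Finset.mul_sum, Finset.mul_sum, Finset.sum_mul]
    exact Finset.sum_congr rfl fun d _ => hcol d
  · have hJ2 : 2 ≤ J.card := by
      have := Finset.card_add_card_compl J
      rw [Fintype.card_fin] at this
      omega
    have hrow : ∀ d, sx k u v * (sx j d d * ψ) = sx j d d * ψ * sx k u v := by
      intro d
      by_cases hd : d ∈ J
      · obtain ⟨c, hc, hcd⟩ := Finset.exists_mem_ne (show 1 < J.card by omega) d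
        obtain ⟨η, hη⟩ := main c d hcd (by simp [hd, hc])
        have he : ψ * sx j c d = 0 := by
          rw [show sx (F := F) j c d = slot j (ind J) * sx j c d by rw [ind_left, if_pos hc], ← mul_assoc, hψ.right,
            zero_mul]
        rw [hdd, he, mul_assoc, he, mul_zero, sub_zero, sub_zero] at hη
        have h3 : sx j d d * ψ = sx j d c * slot j η := by rw [← hη, ← mul_assoc, sx_mul, if_pos rfl]
        rw [h3]
        exact (hcs _ d c).2
      · rw [← hψ.left, ← mul_assoc (sx j d d), ind_right, if_neg hd, zero_mul, mul_zero, zero_mul]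
    rw [← one_mul ψ, ← sx_sum j, Finset.sum_mul, Finset.mul_sum, Finset.sum_mul]
    exact Finset.sum_congr rfl fun d _ => hrow d

/-- an element preserving the block whose root images lie in `M` splits -/
theorem split [Fintype F] (hm : 3 ≤ m) (hB : HasBase M) (hP : HasPerms M)
    (hne : ¬ specialLinear (Fin t → Fin m) F ≤ M) {g : GL (Fin t → Fin m) F} (hJ : J.Nonempty) (hJ' : Jᶜ.Nonempty)
    (hg : Pres j J (g : Mat)) (hroot : ∀ a ∈ J, ∀ b ∉ J, Mem1 M (cj g (sx j a b))) :
    ∃ (B q : GL (Fin t → Fin m) F) (C : GL (Fin m) F) (ψ : Mat),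
      (∀ u v, sx j u v * (B : Mat) = (B : Mat) * sx j u v) ∧ q = B * sl j C ∧
      (g : Mat) = (q : Mat) * (1 + ψ) ∧ Shp j J ψ ∧ (q : Mat) * slot j (ind J) = slot j (ind J) * (q : Mat) := by
  classical
  haveI : Nonempty (Fin m) := ⟨⟨0, by omega⟩⟩
  set P : Mat := slot j (ind J) with hPdef
  have hgi := hg.inv
  have hsc : ∀ c a b d, a ∈ J → b ∉ J →
      ∃ s : F, blk j c a (g : Mat) * blk j b d ((g⁻¹ : GL (Fin t → Fin m) F) : Mat) = s • (1 : Mat) := by
    intro c a b d ha hb
    rw [blk_mul_blk]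
    have hsh : Shp j J (cj g (sx j a b)) := by
      have e1 : sx (F := F) j a b = P * sx j a b := by rw [ind_left, if_pos ha]
      have e2 : sx j a b * P = (0 : Mat) := by rw [ind_right, if_neg hb]
      constructor
      · show P * ((g : Mat) * sx j a b * _) = (g : Mat) * sx j a b * _
        rw [e1, ← mul_assoc (g : Mat), hg]
        simp only [← mul_assoc, hPdef, ind_idem]
      · show (g : Mat) * sx j a b * _ * P = 0
        rw [mul_assoc _ _ P, hgi, mul_assoc (g : Mat), ← mul_assoc (sx j a b), ← mul_assoc (sx j a b)]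
        rw [e2, zero_mul, zero_mul, mul_zero]
    obtain ⟨η, hη⟩ := shp_slot hm hB hP hne hsh (hroot a ha b hb)
    exact Off.blk_scalar (by omega) (show Off j ((g : Mat) * sx j a b * _) from fun k hk u v => by
      rw [show (g : Mat) * sx j a b * ((g⁻¹ : GL (Fin t → Fin m) F) : Mat) = slot j η from hη]
      exact off_slot j η k hk u v) c d
  obtain ⟨a0, ha0⟩ := hJ
  obtain ⟨b0, hb0'⟩ := hJ'
  have hb0 := Finset.mem_compl.1 hb0'
  obtain ⟨c0, hc0, d0, hd0, s0, hs0, hs⟩ : ∃ c0 ∈ J, ∃ d0, d0 ∉ J ∧ ∃ s : F, s ≠ 0 ∧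
      blk j c0 a0 (g : Mat) * blk j b0 d0 ((g⁻¹ : GL (Fin t → Fin m) F) : Mat) = s • (1 : Mat) := by
    by_contra hcon
    push Not at hcon
    have hz : ∀ c d, blk j c a0 (g : Mat) * blk j b0 d ((g⁻¹ : GL (Fin t → Fin m) F) : Mat) = 0 := fun c d => by
      by_cases hc : c ∈ J
      · by_cases hd : d ∈ J
        · rw [hgi.blk hb0 hd, mul_zero]
        · obtain ⟨s, hs⟩ := hsc c a0 b0 d ha0 hb0
          rcases eq_or_ne s 0 with rfl | hs0
          · rw [hs, zero_smul]
          · exact absurd hs (hcon c hc d hd s hs0)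
      · rw [hg.blk hc ha0, zero_mul]
    have h0 : cj g (sx j a0 b0 : Mat) = 0 := by
      rw [← blk_sum j (cj g (sx j a0 b0))]
      refine Finset.sum_eq_zero fun c _ => Finset.sum_eq_zero fun d _ => ?_
      rw [cj, ← blk_mul_blk, hz, mul_zero]
    rw [← cj_zero g] at h0
    have h1 := cj_injective g h0
    rw [sx, ← slot_zero j] at h1
    simpa using congrFun (congrFun (slot_injective j h1) a0) b0
  obtain ⟨Bi, hBi⟩ : ∃ Bi : GL (Fin t → Fin m) F, (Bi : Mat) = s0⁻¹ • blk j b0 d0 ((g⁻¹ : GL (Fin t → Fin m) F) : Mat) ∧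
      ((Bi⁻¹ : GL (Fin t → Fin m) F) : Mat) = blk j c0 a0 (g : Mat) := by
    have h1 : blk j c0 a0 (g : Mat) * (s0⁻¹ • blk j b0 d0 ((g⁻¹ : GL (Fin t → Fin m) F) : Mat)) = 1 := by
      rw [Matrix.mul_smul, hs, smul_smul, inv_mul_cancel₀ hs0, one_smul]
    exact ⟨⟨_, _, mul_eq_one_comm.1 h1, h1⟩, rfl, rfl⟩
  obtain ⟨hBi1, hBi2⟩ := hBi
  set B := Bi⁻¹ with hBdef
  have hBc : ∀ u v, sx j u v * (B : Mat) = (B : Mat) * sx j u v := fun u v => by
    rw [hBi2]; exact blk_comm j c0 a0 u v _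
  have hBic : ∀ u v, sx j u v * (Bi : Mat) = (Bi : Mat) * sx j u v := fun u v => by
    rw [hBi1, Matrix.mul_smul, Matrix.smul_mul, blk_comm]
  have hJJ : ∀ c ∈ J, ∀ a ∈ J, ∃ s : F, blk j c a ((Bi * g : GL (Fin t → Fin m) F) : Mat) = s • 1 := by
    intro c hc a ha
    obtain ⟨s, hs'⟩ := hsc c a b0 d0 ha hb0
    refine ⟨s0⁻¹ * s, ?_⟩
    have h1 : blk j c a (g : Mat) * (Bi : Mat) = (s0⁻¹ * s) • 1 := by
      rw [hBi1, Matrix.mul_smul, hs', smul_smul]
    rw [Units.val_mul, blk_left hBic, ← mul_one (blk j c a (g : Mat)), ← gl_mul_inv Bi, ← mul_assoc (blk j c a _), h1,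
      Matrix.smul_mul, one_mul, Matrix.mul_smul, gl_mul_inv]
  set h := Bi * g with hh
  have hhi : ∀ b ∉ J, ∀ d ∉ J, ∃ s : F, blk j b d ((h⁻¹ : GL (Fin t → Fin m) F) : Mat) = s • 1 := by
    intro b hb d hd
    obtain ⟨s, hs'⟩ := hsc c0 a0 b d ha0 hb
    refine ⟨s, ?_⟩
    rw [← hBi2] at hs'
    rw [hh, _root_.mul_inv_rev, Units.val_mul, blk_right hBc]
    calc blk j b d ((g⁻¹ : GL (Fin t → Fin m) F) : Mat) * (B : Mat)
        = (Bi : Mat) * ((B : Mat) * blk j b d ((g⁻¹ : GL (Fin t → Fin m) F) : Mat)) * (B : Mat) := by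
          rw [← mul_assoc, gl_mul_inv, one_mul]
      _ = _ := by rw [hs', Matrix.mul_smul, mul_one, Matrix.smul_mul, gl_mul_inv]
  have hhP : Pres j J (h : Mat) := by
    rw [hh, Units.val_mul]
    refine Pres.mul ?_ hg
    show (Bi : Mat) * slot j (ind J) = slot j (ind J) * (Bi : Mat) * slot j (ind J)
    rw [comm_slot_of_units hBic (ind J), mul_assoc, ind_idem]
  have hhiP := hhP.inv
  -- the blocks outside J are scalar
  have hCC : ∀ b ∉ J, ∀ d ∉ J, Off j (blk j b d (h : Mat)) := by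
    intro b hb d hd k hk u v
    set K := fun x y => blk j x y ((h⁻¹ : GL (Fin t → Fin m) F) : Mat) with hK
    set H := fun x y => blk j x y (h : Mat) with hH
    set D := fun x y => sx k u v * H x y - H x y * sx k u v with hD
    have hres : ∀ (X Y : Mat) x y, x ∉ J → Pres j J X →
        ∑ e ∈ Jᶜ, blk j x e X * blk j e y Y = blk j x y (X * Y) := fun X Y x y hx hX => by
      rw [← sum_blk_mul j x y X Y]
      refine Finset.sum_subset (Finset.subset_univ _) fun e _ he => ?_
      rw [Finset.mem_compl, not_not] at he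
      rw [hX.blk hx he, zero_mul]
    have hKH : ∀ x ∉ J, ∀ y, ∑ e ∈ Jᶜ, K x e * H e y = if x = y then 1 else 0 := fun x hx y => by
      rw [hK, hH, hres _ _ x y hx hhiP, gl_inv_mul, blk_one]
    have hHK : ∀ x ∉ J, ∀ y, ∑ e ∈ Jᶜ, H x e * K e y = if x = y then 1 else 0 := fun x hx y => by
      rw [hK, hH, hres _ _ x y hx hhP, gl_mul_inv, blk_one]
    have hDK : ∀ x ∉ J, ∀ y ∉ J, ∑ e ∈ Jᶜ, D x e * K e y = 0 := by
      intro x hx y hy
      have h1 : ∀ e ∈ Jᶜ, D x e * K e y = sx k u v * (H x e * K e y) - H x e * K e y * sx k u v := fun e he => by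
        obtain ⟨s, hs⟩ := hhi e (Finset.mem_compl.1 he) y hy
        simp only [hD, hK, hs, sub_mul, Matrix.mul_smul, mul_one, Matrix.smul_mul]
      rw [Finset.sum_congr rfl h1, Finset.sum_sub_distrib, ← Finset.mul_sum, ← Finset.sum_mul, hHK x hx y]
      split_ifs <;> simp
    have hD0 : D b d = 0 := by
      calc D b d = ∑ e ∈ Jᶜ, D b e * ∑ f ∈ Jᶜ, K e f * H f d := by
            rw [Finset.sum_congr rfl fun e he => by rw [hKH e (Finset.mem_compl.1 he) d]]
            simp [Finset.mem_compl.2 hd]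
        _ = ∑ f ∈ Jᶜ, (∑ e ∈ Jᶜ, D b e * K e f) * H f d := by
            simp only [Finset.mul_sum, Finset.sum_mul, mul_assoc]
            rw [Finset.sum_comm]
        _ = 0 := Finset.sum_eq_zero fun f hf => by rw [hDK b hb f (Finset.mem_compl.1 hf), zero_mul]
    exact sub_eq_zero.1 hD0
  -- the diagonal part
  set h0 : Mat := P * (h : Mat) * P + (1 - P) * (h : Mat) * (1 - P) with hh0
  have hPP : P * P = P := ind_idem j J
  have hblkP : ∀ (X : Mat) c a, blk j c a (P * X * P) = if c ∈ J ∧ a ∈ J then blk j c a X else 0 := by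
    intro X c a
    rw [blk, blk]
    have : ∀ r, sx j r c * (P * X * P) * sx j a r =
        (sx j r c * P) * X * (P * sx j a r) := fun r => by simp only [mul_assoc]
    rw [Finset.sum_congr rfl fun r _ => this r]
    simp only [hPdef, ind_left, ind_right]
    by_cases hc : c ∈ J <;> by_cases ha : a ∈ J <;> simp [hc, ha]
  have hblkQ : ∀ (X : Mat) c a, blk j c a ((1 - P) * X * (1 - P)) = if c ∉ J ∧ a ∉ J then blk j c a X else 0 := by
    intro X c a
    rw [blk, blk]
    have : ∀ r, sx j r c * ((1 - P) * X * (1 - P)) * sx j a r =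
        (sx j r c - sx j r c * P) * X * (sx j a r - P * sx j a r) := fun r => by
      simp only [mul_assoc, sub_mul, mul_sub, one_mul, mul_one]
    rw [Finset.sum_congr rfl fun r _ => this r]
    simp only [hPdef, ind_left, ind_right]
    by_cases hc : c ∈ J <;> by_cases ha : a ∈ J <;> simp [hc, ha]
  obtain ⟨Y, hY⟩ : ∃ Y : Matrix (Fin m) (Fin m) F, h0 = slot j Y := eq_slot_of_blk j fun c a => by
    have hadd : blk j c a h0 = blk j c a (P * (h : Mat) * P) + blk j c a ((1 - P) * (h : Mat) * (1 - P)) := by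
      simp only [hh0, blk, mul_add, add_mul, Finset.sum_add_distrib]
    rw [hadd, hblkP, hblkQ]
    by_cases hc : c ∈ J <;> by_cases ha : a ∈ J
    · obtain ⟨s, hs⟩ := hJJ c hc a ha
      exact ⟨s, by simp [hc, ha, hs]⟩
    · exact ⟨0, by simp [hc, ha]⟩
    · exact ⟨0, by simp [hc, ha]⟩
    · obtain ⟨s, hs⟩ := (hCC c hc a ha).blk_scalar (by omega) c a
      obtain ⟨s', hs'⟩ : ∃ s' : F, blk j c a (h : Mat) = s' • 1 := by
        haveI : Nonempty (Fin m) := ⟨⟨0, by omega⟩⟩
        refine scalar_of_commute_slots _ fun i u v => ?_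
        rcases eq_or_ne i j with rfl | hi
        · exact (blk_comm _ _ _ _ _ _).symm
        · exact (hCC c hc a ha i hi u v).symm
      exact ⟨s', by simp [hc, ha, hs']⟩
  set ψ0 : Mat := P * (h : Mat) * (1 - P) with hψ0
  have hh0ψ : (h : Mat) = h0 + ψ0 := by
    have h1 : (1 - P) * (h : Mat) * P = 0 := by
      rw [sub_mul, one_mul, sub_mul, sub_eq_zero]; exact hhP
    have h2 : (h : Mat) = P * (h : Mat) * P + P * (h : Mat) * (1 - P) + (1 - P) * (h : Mat) * P +
        (1 - P) * (h : Mat) * (1 - P) := by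
      simp only [sub_mul, mul_sub, one_mul, mul_one]; abel
    rw [h2, h1, add_zero, hh0, hψ0]; abel
  have hψ0s : Shp j J ψ0 := ⟨by rw [hψ0, ← hPdef, ← mul_assoc, ← mul_assoc, hPP],
    by rw [hψ0, ← hPdef, mul_assoc, sub_mul, one_mul, hPP, sub_self, mul_zero]⟩
  set Z : Mat := ((h⁻¹ : GL (Fin t → Fin m) F) : Mat) * ψ0 with hZ
  have hZZ : Z * Z = 0 := by
    have h1 : Z = P * Z := by
      rw [hZ, ← hψ0s.left, ← mul_assoc, hhiP, ← hPdef]
      simp only [mul_assoc]
      rw [← mul_assoc P P, hPP]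
    calc Z * Z = Z * (P * Z) := by rw [← h1]
      _ = 0 := by rw [hZ, ← mul_assoc, mul_assoc _ ψ0 P, hψ0s.right, mul_zero, zero_mul]
  have hh0m : (h : Mat) * (1 - Z) = h0 := by
    rw [hh0ψ, mul_sub, mul_one, hZ, ← mul_assoc, ← hh0ψ, gl_mul_inv, one_mul, hh0ψ, add_sub_cancel_right]
  let u1 : GL (Fin t → Fin m) F := ⟨1 - Z, 1 + Z, by
    rw [sub_mul, one_mul, mul_add, mul_one, hZZ, add_zero, add_sub_cancel_right], by
    rw [add_mul, one_mul, mul_sub, mul_one, hZZ, sub_zero, sub_add_cancel]⟩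
  obtain ⟨C, hC⟩ := exists_sl (by omega) (g := h * u1) (Y := Y) (by rw [← hY, ← hh0m]; rfl)
  set q := B * sl j C with hq
  have hCP : (sl j C : Mat) * P = P * (sl j C : Mat) := by
    rw [← hC, Units.val_mul, show (u1 : Mat) = 1 - Z from rfl, hh0m, hh0]
    have h3 : P * (P * (h : Mat) * P) = P * (h : Mat) * P := by rw [← mul_assoc, ← mul_assoc, hPP]
    have h4 : P * (h : Mat) * P * P = P * (h : Mat) * P := by rw [mul_assoc, hPP]
    have h5 : (1 - P) * P = 0 := by rw [sub_mul, one_mul, hPP, sub_self]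
    have h6 : P * (1 - P) = 0 := by rw [mul_sub, mul_one, hPP, sub_self]
    rw [add_mul, mul_add, h3, h4, mul_assoc ((1 - P) * (h : Mat)) (1 - P) P, h5, mul_zero, ← mul_assoc P ((1 - P) * (h : Mat)),
      ← mul_assoc P (1 - P), h6, zero_mul, zero_mul]
  refine ⟨B, q, C, ((sl j C⁻¹ : GL (Fin t → Fin m) F) : Mat) * ψ0, hBc, rfl, ?_, ?_, ?_⟩
  · have hgB : g = B * h := by rw [hh, hBdef, inv_mul_cancel_left]
    have hhC : (h : Mat) = (sl j C : Mat) + ψ0 := by
      rw [← hC, Units.val_mul h u1, show (u1 : Mat) = 1 - Z from rfl, hh0m]; exact hh0ψ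
    rw [hgB, Units.val_mul B h, hhC, hq, Units.val_mul B (sl j C), mul_assoc, mul_add (sl j C : Mat), mul_one,
      ← mul_assoc (sl j C : Mat), ← Units.val_mul (sl j C), sl_mul, mul_inv_cancel, sl_one, Units.val_one, one_mul]
  · have hCi : ((sl j C⁻¹ : GL (Fin t → Fin m) F) : Mat) * P = P * ((sl j C⁻¹ : GL (Fin t → Fin m) F) : Mat) := by
      rw [sl_inv]
      exact (Commute.units_inv_left (show Commute (sl j C : Mat) P from hCP)).eq
    exact ⟨by rw [← hPdef, ← mul_assoc, ← hCi, mul_assoc, hPdef, hψ0s.left], by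
      rw [mul_assoc, hψ0s.right, mul_zero]⟩
  · rw [hq, Units.val_mul, mul_assoc, hCP, ← mul_assoc, ← comm_slot_of_units hBc (ind J), mul_assoc]

/-- the rigidity of a coordinate subspace -/
theorem rigid_same [Fintype F] (hm : 3 ≤ m) (hB : HasBase M) (hP : HasPerms M)
    (hne : ¬ specialLinear (Fin t → Fin m) F ≤ M)
    (hIH : ∀ x ∈ M, (∀ u v, sx j u v * (x : Mat) = (x : Mat) * sx j u v) → x ∈ tensorWreathStandard m t F)
    {g : GL (Fin t → Fin m) F} (hJ : J.Nonempty) (hJ' : Jᶜ.Nonempty) (hg : Pres j J (g : Mat))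
    (hgb : ∀ (i : Fin t) (a : GL (Fin m) F), (a : Matrix (Fin m) (Fin m) F).det = 1 → g * sl i a * g⁻¹ ∈ M) :
    g ∈ tensorWreathStandard m t F := by
  classical
  haveI : Nonempty (Fin m) := ⟨⟨0, by omega⟩⟩
  haveI : NeZero m := ⟨by omega⟩
  have hunit : ∀ i (a b : Fin m), a ≠ b → ∃ τ : GL (Fin m) F, (τ : Matrix (Fin m) (Fin m) F).det = 1 ∧
      (sl i τ : Mat) = 1 + sx i a b := by
    intro i a b hab
    refine ⟨tv (Pi.single a 1) (Pi.single b 1) (by simp [dotProduct_single, hab, hab.symm]),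
      congrArg Units.val (tv_mem_SL _ _ _), ?_⟩
    rw [sl_coe, tv_coe, ← single_eq_vecMulVec, slot_add, slot_one]
    rfl
  obtain ⟨B, q, C, ψ, hBc, hq, hgq, hψ, hqP⟩ := split hm hB hP hne hJ hJ' hg fun a ha b hb => by
    obtain ⟨τ, hτ, hτm⟩ := hunit j a b (fun e => hb (e ▸ ha))
    exact ⟨g * sl j τ * g⁻¹, hgb j τ hτ, by rw [← cj_coe, hτm, cj_add, cj_one]⟩
  have hqC : ∀ X, cj q (slot j X : Mat) = slot j (cj C X) := fun X => by
    rw [hq, ← cj_cj, cj_sl_slot, cj_eq_self (comm_slot_of_units hBc _).symm]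
  obtain ⟨η, hη⟩ := slot_of_twist hm hB hP hne hgq hψ hqP hqC (fun a ha => hgb j a ha)
  obtain ⟨s, hsd, hs⟩ := shp_sl (by omega) (hη ▸ hψ)
  have hgqs : g = q * sl j s := Units.ext (by rw [Units.val_mul, sl_coe, hs, slot_add, slot_one, ← hη]; exact hgq)
  have himg : ∀ k, k ≠ j → ∀ a : GL (Fin m) F, (a : Matrix (Fin m) (Fin m) F).det = 1 →
      q * sl k a * q⁻¹ ∈ tensorWreathStandard m t F := by
    intro k hk a ha
    refine hIH _ ?_ ?_
    · have h1 := hgb k a ha
      rwa [hgqs, _root_.mul_inv_rev, ← mul_assoc, mul_assoc q (sl j s), ← sl_comm hk, ← mul_assoc,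
        mul_inv_cancel_right] at h1
    · intro u v
      refine (show Commute (sx j u v) ((q * sl k a * q⁻¹ : GL (Fin t → Fin m) F) : Mat) from ?_).eq
      have h2 : q * sl k a * q⁻¹ = B * sl k a * B⁻¹ := by
        rw [hq, _root_.mul_inv_rev, ← mul_assoc, mul_assoc B (sl j C), ← sl_comm hk, ← mul_assoc, mul_inv_cancel_right]
      rw [h2, Units.val_mul, Units.val_mul]
      have hb : Commute (sx j u v) (B : Mat) := hBc u v
      refine (hb.mul_right ?_).mul_right hb.units_inv_right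
      rw [sl_coe]
      exact slot_comm hk.symm _ _
  have hrt : ∀ k, k ≠ j → ∀ a b, a ≠ b → ∃ (i : Fin t) (Y : Matrix (Fin m) (Fin m) F), cj q (sx k a b) = slot i Y := by
    intro k hk a b hab
    obtain ⟨c, hca, hcb⟩ := exists_third hm a b
    obtain ⟨τ, hτ, hτm⟩ := hunit k a b hab
    obtain ⟨τ1, hτ1, hτ1m⟩ := hunit k a c hca.symm
    obtain ⟨τ2, hτ2, hτ2m⟩ := hunit k c b hcb
    set x := q * sl k τ * q⁻¹ with hx
    obtain ⟨σ, A, hA⟩ := tw_shape (himg k hk τ hτ)
    have hxm : (x : Mat) - 1 = cj q (sx k a b) := by rw [hx, ← cj_coe, hτm, cj_add, cj_one, add_sub_cancel_left]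
    have hA' : ((permGL σ * pureGL A : GL _ F) : Mat) - 1 = cj q (sx k a b) := by rw [← hA]; exact hxm
    rcases root_or_swap hm (show 0 < t by have := j.2; omega) σ A
        (by rw [hA', ← cj_mul, sx_mul, if_neg hab.symm, cj_zero]) (by rw [hA', rank_cj, rank_sx']) with
      ⟨i, u, φ, -, -, -, he⟩ | ⟨-, -, i, i', hii, hσ, -⟩
    · exact ⟨i, vecMulVec u φ, by rw [← hA', he, add_sub_cancel_left]⟩
    · exfalso
      have hcom : sl k τ = sl k τ1 * sl k τ2 * (sl k τ1)⁻¹ * (sl k τ2)⁻¹ := Units.ext (by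
        have e1 : sx k a c * sx k a c = (0 : Mat) := by rw [sx_mul, if_neg hca]
        have e2 : sx k c b * sx k c b = (0 : Mat) := by rw [sx_mul, if_neg hcb.symm]
        have e3 : sx k c b * sx k a c = (0 : Mat) := by rw [sx_mul, if_neg hab.symm]
        have e4 : sx k a c * sx k c b = (sx k a b : Mat) := by rw [sx_mul, if_pos rfl]
        have e5 : ∀ Z : Mat, sx k a c * (sx k c b * Z) = sx k a b * Z := fun Z => by rw [← mul_assoc, e4]
        have e6 : sx k a b * sx k a c = (0 : Mat) := by rw [sx_mul, if_neg hab.symm]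
        have e7 : sx k a b * sx k c b = (0 : Mat) := by rw [sx_mul, if_neg hcb.symm]
        simp only [Units.val_mul, hτ1m, hτ2m, hτm, inv_one_add hτ1m e1, inv_one_add hτ2m e2]
        simp only [mul_sub, sub_mul, mul_add, add_mul, mul_one, one_mul, mul_assoc, e1, e2, e3, e4, e5, e6, e7,
          mul_zero, sub_zero, add_zero, zero_add]
        abel)
      obtain ⟨σ1, hp1⟩ : ∃ σ1, HasPerm (q * sl k τ1 * q⁻¹) σ1 := tw_shape (himg k hk τ1 hτ1)
      obtain ⟨σ2, hp2⟩ : ∃ σ2, HasPerm (q * sl k τ2 * q⁻¹) σ2 := tw_shape (himg k hk τ2 hτ2)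
      have hp : HasPerm x (σ1 * σ2 * σ1⁻¹ * σ2⁻¹) := by
        have h1 := ((hp1.mul hp2).mul hp1.inv).mul hp2.inv
        rwa [show q * sl k τ1 * q⁻¹ * (q * sl k τ2 * q⁻¹) * (q * sl k τ1 * q⁻¹)⁻¹ * (q * sl k τ2 * q⁻¹)⁻¹ = x by
          rw [hx, hcom]; group] at h1
      have hs' := congrArg Equiv.Perm.sign (HasPerm.unique (by omega) hp ⟨A, hA⟩)
      rw [hσ, Equiv.Perm.sign_swap hii, map_mul, map_mul, map_mul, map_inv, map_inv, mul_comm (Equiv.Perm.sign σ1),
        mul_inv_cancel_right, mul_inv_cancel] at hs'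
      exact absurd hs' (by decide)
  choose! f Y hf using hrt
  have hnsY : ∀ k, k ≠ j → ∀ a b, a ≠ b → ∀ r : F, Y k a b ≠ r • (1 : Matrix (Fin m) (Fin m) F) := by
    intro k hk a b hab r hr
    have h1 := hf k hk a b hab
    rw [hr, slot_smul, slot_one, show (r • (1 : Mat)) = cj q (r • 1) by rw [cj_smul, cj_one]] at h1
    have h2 := cj_injective q h1
    rw [← slot_one (F := F) (m := m) k, ← slot_smul, sx] at h2
    have := congrFun (congrFun (slot_injective k h2) a) b
    simp [Matrix.one_apply_ne hab] at this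
  have hsame : ∀ k, k ≠ j → ∀ a b a' b', a ≠ b → a' ≠ b' → ¬ (b ≠ a' ∧ b' ≠ a) →
      (b = a' → b' ≠ a ∨ a ≠ b) → f k a b = f k a' b' := by
    intro k hk a b a' b' hab hab' hor _
    by_contra hne'
    have h1 : cj q (sx k a b * sx k a' b') = cj q (sx k a' b' * sx k a b : Mat) := by
      rw [cj_mul, cj_mul, hf k hk a b hab, hf k hk a' b' hab', slot_comm hne']
    have h2 := cj_injective q h1
    rw [sx_mul, sx_mul] at h2
    by_cases e1 : b = a' <;> by_cases e2 : b' = a
    · rw [if_pos e1, if_pos e2, sx, sx] at h2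
      have := congrFun (congrFun (slot_injective k h2) a) b'
      subst e1 e2
      simp [hab, hab.symm] at this
    · rw [if_pos e1, if_neg e2, sx, ← slot_zero k] at h2
      simpa using congrFun (congrFun (slot_injective k h2) a) b'
    · rw [if_neg e1, if_pos e2, sx, ← slot_zero k] at h2
      simpa using congrFun (congrFun (slot_injective k h2) a') b
    · exact hor ⟨e1, e2⟩
  have hfc : ∀ k, k ≠ j → ∀ a b c, a ≠ b → b ≠ c → f k a b = f k b c := fun k hk a b c hab hbc =>
    hsame k hk a b b c hab hbc (fun h => h.1 rfl) (fun _ => Or.inr hab)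
  have hsym : ∀ k, k ≠ j → ∀ a b, a ≠ b → f k a b = f k b a := fun k hk a b hab => hfc k hk a b a hab hab.symm
  let z : Fin m := 0
  let o : Fin m := ⟨1, by omega⟩
  have hzo : z ≠ o := by simp [z, o, Fin.ext_iff]
  let π0 : Fin t → Fin t := fun k => if k = j then j else f k z o
  have hall : ∀ k, k ≠ j → ∀ a b, a ≠ b → f k a b = π0 k := by
    intro k hk a b hab
    -- `gv a` is the factor of every pair at `a`
    have hg' : ∀ x y y', x ≠ y → x ≠ y' → f k x y = f k x y' := fun x y y' h h' => by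
      rw [hsym k hk x y h]; exact hfc k hk y x y' h.symm h'
    simp only [π0, if_neg hk]
    rcases eq_or_ne a z with rfl | ha
    · exact hg' z b o hab hzo
    · rw [hg' a b z hab ha, hsym k hk a z ha]
      exact hg' z a o ha.symm hzo
  have hfull : ∀ k, k ≠ j → ∀ u v, ∃ W : Matrix (Fin m) (Fin m) F, cj q (sx k u v) = slot (π0 k) W := by
    intro k hk u v
    rcases eq_or_ne u v with rfl | huv
    · obtain ⟨w, hw, -⟩ := exists_third hm u u
      refine ⟨Y k u w * Y k w u, ?_⟩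
      rw [← slot_mul, ← hall k hk u w hw.symm, ← hf k hk u w hw.symm, hall k hk u w hw.symm, ← hall k hk w u hw,
        ← hf k hk w u hw, ← cj_mul, sx_mul, if_pos rfl]
    · exact ⟨_, by rw [← hall k hk u v huv]; exact hf k hk u v huv⟩
  have hfixj : ∀ u v, cj q (sx j u v) = slot j (cj C (Matrix.single u v 1)) := fun u v => hqC _
  have hfullall : ∀ k u v, ∃ W : Matrix (Fin m) (Fin m) F, cj q (sx k u v) = slot (π0 k) W := by
    intro k u v
    rcases eq_or_ne k j with rfl | hk
    · exact ⟨_, by simp only [π0, if_pos]; exact hfixj u v⟩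
    · exact hfull k hk u v
  have hπinj : Function.Injective π0 := by
    intro k k' hkk
    by_contra hne'
    -- the image of `k` fills a slot and commutes with the image of `k'`
    choose W hW using hfullall
    obtain ⟨w, hw⟩ : ∃ w : Fin m, True := ⟨z, trivial⟩
    have hlin : ∀ X : Matrix (Fin m) (Fin m) F, ∃ Z : Matrix (Fin m) (Fin m) F, cj q (slot k X) = slot (π0 k) Z := fun X => by
      refine ⟨∑ a, ∑ b, X a b • W k a b, ?_⟩
      conv_lhs => rw [Matrix.matrix_eq_sum_single X]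
      simp only [← slotHom_apply, ← cjAlg_apply, map_sum]
      refine Finset.sum_congr rfl fun a _ => Finset.sum_congr rfl fun b _ => ?_
      rw [show Matrix.single a b (X a b) = X a b • Matrix.single a b (1 : F) by simp, map_smul, map_smul, map_smul,
        cjAlg_apply, slotHom_apply, slotHom_apply]
      exact congrArg _ (hW k a b)
    choose Z hZ using hlin
    let L : Matrix (Fin m) (Fin m) F →ₗ[F] Matrix (Fin m) (Fin m) F :=
      { toFun := Z
        map_add' := fun a b => slot_injective (π0 k) (by rw [← hZ, slot_add, cj_add, hZ, hZ, slot_add])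
        map_smul' := fun r a => slot_injective (π0 k) (by
          rw [← hZ, slot_smul, cj_smul, hZ, RingHom.id_apply, slot_smul]) }
    have hLs : Function.Surjective L := LinearMap.surjective_of_injective fun a b hab => slot_injective k
      (cj_injective q (by rw [hZ, hZ]; exact congrArg _ hab))
    have hcom : ∀ X, W k' z o * L X = L X * W k' z o := fun X => slot_injective (π0 k) (by
      rw [← slot_mul, ← slot_mul, show L X = Z X from rfl, ← hZ]
      conv_lhs => arg 1; rw [hkk, ← hW]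
      conv_rhs => arg 2; rw [hkk, ← hW]
      rw [← cj_mul, ← cj_mul, sx, slot_comm (Ne.symm hne')])
    obtain ⟨r, hr⟩ := Matrix.mem_range_scalar_of_commute_single (M := W k' z o) (fun a b _ => by
      obtain ⟨X, hX⟩ := hLs (Matrix.single a b 1)
      rw [← hX]
      exact (hcom X).symm)
    have h3 : cj q (sx k' z o) = r • (1 : Mat) := by
      rw [hW, ← hr, ← slot_one (F := F) (m := m) (π0 k'), ← slot_smul]
      congr 1
      simp [Matrix.smul_one_eq_diagonal]
    rw [show (r • (1 : Mat)) = cj q (r • 1) by rw [cj_smul, cj_one], ] at h3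
    have h4 := cj_injective q h3
    rw [← slot_one (F := F) (m := m) k', ← slot_smul, sx] at h4
    have := congrFun (congrFun (slot_injective k' h4) z) o
    simp [Matrix.one_apply_ne hzo] at this
  let π : Equiv.Perm (Fin t) := Equiv.ofBijective π0 ⟨hπinj, Finite.injective_iff_surjective.1 hπinj⟩
  rw [hgqs]
  exact mul_mem (tw_of_slots (by omega) (show 0 < t by have := j.2; omega) π hfullall) (sl_mem_tw j s)

end CfsgLib.Perm.Trans.TensorPower
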