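import Cfsg.Agent.Lib.Perm.Trans.TensorPower.Rigid

/-!
# Roots of the base group: rigidity and fusion
-/

set_option autoImplicit false
set_option linter.all false

namespace CfsgLib.Perm.Trans.TensorPower

open scoped Matrix
open Matrix Cfsg.Geo CfsgLib.Perm.Asch CfsgLib.Perm.Trans

variable {m t : ℕ} {F : Type*} [Field F]

local notation "Mat" => Matrix (Fin t → Fin m) (Fin t → Fin m) F

/-- the statement used for one factor fewer -/
def InnerHyp (m t : ℕ) (F : Type*) [Field F] : Prop :=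
  ∀ M : Subgroup (GL (Fin t → Fin m) F), HasBase M → HasPerms M → ¬ specialLinear (Fin t → Fin m) F ≤ M →
    ∀ (j : Fin t), ∀ x ∈ M, (∀ u v, sx j u v * (x : Matrix (Fin t → Fin m) (Fin t → Fin m) F) =
      (x : Matrix (Fin t → Fin m) (Fin t → Fin m) F) * sx j u v) → x ∈ tensorWreathStandard m t F

/-- the standing hypotheses -/
structure Ctx (M : Subgroup (GL (Fin t → Fin m) F)) : Prop where
  three : 3 ≤ m
  base : HasBase M
  perms : HasPerms M
  proper : ¬ specialLinear (Fin t → Fin m) F ≤ M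
  inner : InnerHyp m t F

/-- coordinates adapted to the range of a matrix -/
theorem normal_form (X : Matrix (Fin m) (Fin m) F) :
    ∃ (a : GL (Fin m) F) (K : Matrix (Fin m) (Fin m) F), (a : Matrix (Fin m) (Fin m) F).det = 1 ∧
      ind (Finset.univ.filter fun x : Fin m => x.1 < X.rank) * ((a : Matrix (Fin m) (Fin m) F) * X) =
        (a : Matrix (Fin m) (Fin m) F) * X ∧
      (a : Matrix (Fin m) (Fin m) F) * X * K = ind (Finset.univ.filter fun x : Fin m => x.1 < X.rank) := by
  classical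
  set J := Finset.univ.filter fun x : Fin m => x.1 < X.rank with hJ
  set R := LinearMap.range X.mulVecLin with hR
  set k := X.rank with hk
  have hkR : Module.finrank F R = k := rfl
  have hkm : k ≤ m := (Matrix.rank_le_card_width X).trans_eq (Fintype.card_fin m)
  obtain ⟨R', hR'⟩ := Submodule.exists_isCompl R
  have hdim : Module.finrank F R' = m - k := by
    have := Submodule.finrank_add_eq_of_isCompl hR'
    rw [Module.finrank_fintype_fun_eq_card, Fintype.card_fin] at this
    omega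
  let bR : Module.Basis (Fin k) F R := Module.finBasisOfFinrankEq F R hkR
  let bR' : Module.Basis (Fin (m - k)) F R' := Module.finBasisOfFinrankEq F R' hdim
  let b : Module.Basis (Fin m) F (Fin m → F) :=
    ((bR.prod bR').map (Submodule.prodEquivOfIsCompl R R' hR')).reindex (finSumFinEquiv.trans (finCongr (by omega)))
  have hbR : ∀ x : Fin m, x.1 < k → b x ∈ R := fun x hx => by
    have : (finSumFinEquiv.trans (finCongr (show k + (m - k) = m by omega))).symm x = Sum.inl ⟨x.1, hx⟩ := by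
      rw [Equiv.symm_apply_eq]; exact Fin.ext (by simp)
    simp only [b, Module.Basis.reindex_apply, this]
    simp
  let e : (Fin m → F) ≃ₗ[F] (Fin m → F) := b.equivFun
  have he : ∀ x, e (b x) = Pi.single x 1 := fun x => by
    funext y; simp [e, Module.Basis.equivFun_self, Pi.single_apply, eq_comm]
  have heR : ∀ v ∈ R, ∀ x : Fin m, x ∉ J → e v x = 0 := by
    intro v hv x hx
    have hmem : v ∈ Submodule.span F (Set.range fun i : Fin k => b ⟨i.1, by omega⟩) := by
      have h1 : (fun i : Fin k => b ⟨i.1, by omega⟩) = fun i => (bR i : Fin m → F) := funext fun i => by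
        have : (finSumFinEquiv.trans (finCongr (show k + (m - k) = m by omega))).symm ⟨i.1, by omega⟩ = Sum.inl i := by
          rw [Equiv.symm_apply_eq]; exact Fin.ext (by simp)
        simp only [b, Module.Basis.reindex_apply, this]
        simp
      rw [h1, show (fun i => (bR i : Fin m → F)) = R.subtype ∘ bR from rfl, Set.range_comp, Submodule.span_image,
        bR.span_eq, Submodule.map_top, Submodule.range_subtype]
      exact hv
    clear hv
    induction hmem using Submodule.span_induction with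
    | mem w hw =>
      obtain ⟨i, rfl⟩ := hw
      simp only [he]
      refine Pi.single_eq_of_ne ?_ 1
      rintro rfl
      exact hx (by simp [hJ])
    | zero => simp
    | add v w _ _ h1 h2 => rw [map_add, Pi.add_apply, h1, h2, add_zero]
    | smul c v _ h1 => rw [map_smul, Pi.smul_apply, h1, smul_zero]
  have hE : IsUnit (LinearMap.toMatrix' e.toLinearMap) := by
    rw [← Matrix.mulVec_injective_iff_isUnit]
    rw [show (LinearMap.toMatrix' e.toLinearMap).mulVec = ⇑e from funext (LinearMap.toMatrix'_mulVec e.toLinearMap)]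
    exact e.injective
  obtain ⟨E, hEv⟩ := hE
  -- correct the determinant by a diagonal matrix
  have hd : (E : Matrix (Fin m) (Fin m) F).det ≠ 0 := ((Matrix.isUnit_iff_isUnit_det _).1 E.isUnit).ne_zero
  rcases Nat.eq_zero_or_pos m with hm0 | hm0
  · subst hm0
    exact ⟨1, 1, by simp, Subsingleton.elim _ _, Subsingleton.elim _ _⟩
  let w : Fin m → Fˣ := Pi.mulSingle ⟨0, hm0⟩ (Units.mk0 _ hd)⁻¹
  let D : GL (Fin m) F := ⟨Matrix.diagonal fun i => (w i : F), Matrix.diagonal fun i => ((w i)⁻¹ : Fˣ),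
    by rw [Matrix.diagonal_mul_diagonal]; simp, by rw [Matrix.diagonal_mul_diagonal]; simp⟩
  have hDdet : (D : Matrix (Fin m) (Fin m) F).det = ((E : Matrix (Fin m) (Fin m) F).det)⁻¹ := by
    show (Matrix.diagonal fun i => (w i : F)).det = _
    rw [Matrix.det_diagonal, Finset.prod_eq_single ⟨0, hm0⟩ (fun i _ hi => by simp [w, Pi.mulSingle_eq_of_ne hi])
      (by simp)]
    simp [w]
  have hDv : ∀ v i, ((D : Matrix (Fin m) (Fin m) F) *ᵥ v) i = (w i : F) * v i := fun v i =>
    Matrix.mulVec_diagonal _ _ i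
  have hav : ∀ v i, (((D * E : GL (Fin m) F) : Matrix (Fin m) (Fin m) F) *ᵥ v) i = (w i : F) * e v i := fun v i => by
    rw [Units.val_mul, ← mulVec_mulVec, hDv, hEv, LinearMap.toMatrix'_mulVec]
    rfl
  have hcols : ∀ x : Fin m, ∃ y, x ∈ J → ((D * E : GL (Fin m) F) : Matrix (Fin m) (Fin m) F) *ᵥ (X *ᵥ y) = Pi.single x 1 := by
    intro x
    by_cases hx : x ∈ J
    · obtain ⟨y, hy⟩ := Submodule.smul_mem R ((w x)⁻¹ : Fˣ).val (hbR x (by simpa [hJ] using hx))
      refine ⟨y, fun _ => funext fun i => ?_⟩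
      rw [hav, show X *ᵥ y = ((w x)⁻¹ : Fˣ).val • b x from hy, map_smul, Pi.smul_apply, he, smul_eq_mul,
        Pi.single_apply]
      split_ifs with hi
      · subst hi; simp
      · simp
    · exact ⟨0, fun h => absurd h hx⟩
  choose y hy using hcols
  refine ⟨D * E, Matrix.of fun i x => if x ∈ J then y x i else 0, ?_, ?_, ?_⟩
  · rw [Units.val_mul, Matrix.det_mul, hDdet, inv_mul_cancel₀ hd]
  · refine Matrix.ext_iff_mulVec.2 fun v => funext fun i => ?_
    rw [← mulVec_mulVec, ind, Matrix.mulVec_diagonal]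
    split_ifs with hi
    · rw [one_mul]
    · rw [zero_mul, ← mulVec_mulVec, hav, heR (X *ᵥ v) ⟨v, rfl⟩ i hi, mul_zero]
  · refine Matrix.ext_of_mulVec_single fun x => ?_
    rw [← mulVec_mulVec, ← mulVec_mulVec, Matrix.mulVec_single_one, ind, Matrix.diagonal_mulVec_single]
    by_cases hx : x ∈ J
    · rw [show (Matrix.of fun i x => if x ∈ J then y x i else 0).col x = y x from funext fun i => if_pos hx, hy x hx,
        if_pos hx, mul_one]
    · rw [show (Matrix.of fun i x => if x ∈ J then y x i else 0).col x = 0 from funext fun i => if_neg hx,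
        mulVec_zero, mulVec_zero, if_neg hx, zero_mul, Pi.single_zero]

theorem rank_slot_ind (i : Fin t) (J : Finset (Fin m)) :
    ((slot i (ind J) : Mat)).rank = (Finset.univ.filter fun x : Fin t → Fin m => x i ∈ J).card := by
  classical
  have h : (slot i (ind J) : Mat) = Matrix.diagonal fun x => if x i ∈ J then 1 else 0 := by
    ext x y
    rw [slot_apply]
    by_cases hxy : x = y
    · subst hxy; rw [if_pos fun k _ => rfl, ind, Matrix.diagonal_apply_eq, Matrix.diagonal_apply_eq]
    · rw [Matrix.diagonal_apply_ne _ hxy]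
      split_ifs with h1
      · exact Matrix.diagonal_apply_ne _ fun e => hxy (funext fun k => by
          rcases eq_or_ne k i with rfl | hk
          · exact e
          · exact h1 k hk)
      · rfl
  rw [h, Matrix.rank_diagonal, Fintype.card_subtype]
  congr 1
  ext x
  simp

theorem rank_slot (hm : 0 < m) (i : Fin t) (X : Matrix (Fin m) (Fin m) F) :
    ((slot i X : Mat)).rank = X.rank * m ^ (t - 1) := by
  classical
  obtain ⟨a, K, -, h1, h2⟩ := normal_form X
  set J := Finset.univ.filter fun x : Fin m => x.1 < X.rank with hJ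
  have hc : (slot i ((a : Matrix (Fin m) (Fin m) F) * X) : Mat).rank = (slot i (ind J) : Mat).rank :=
    le_antisymm (by rw [← h1, ← slot_mul]; exact Matrix.rank_mul_le_left _ _)
      (by rw [← h2, ← slot_mul]; exact Matrix.rank_mul_le_left _ _)
  rw [← slot_mul, ← sl_coe, Matrix.rank_mul_eq_right_of_isUnit_det _ _
    ((Matrix.isUnit_iff_isUnit_det _).1 (sl i a).isUnit)] at hc
  rw [hc, rank_slot_ind, show (Finset.univ.filter fun x : Fin t → Fin m => x i ∈ J) =
    J.biUnion fun a => Finset.univ.filter fun x : Fin t → Fin m => x i = a by ext x; simp,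
    Finset.card_biUnion (fun a _ b _ hab => Finset.disjoint_filter.2 fun x _ e e' => hab (e.symm.trans e'))]
  simp only [card_slice, Finset.sum_const, smul_eq_mul]
  congr 1
  have hkm : X.rank ≤ m := (Matrix.rank_le_card_width X).trans_eq (Fintype.card_fin m)
  rw [show J = Finset.univ.map (Fin.castLEEmb hkm) by
    ext x
    simp only [hJ, Finset.mem_filter, Finset.mem_univ, true_and, Finset.mem_map, Fin.castLEEmb_apply]
    exact ⟨fun h => ⟨⟨x.1, h⟩, Fin.ext rfl⟩, fun ⟨y, hy⟩ => by rw [← hy]; exact y.2⟩,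
    Finset.card_map, Finset.card_univ, Fintype.card_fin]

variable {M : Subgroup (GL (Fin t → Fin m) F)}

/-- `M` conjugated by a transposition of factors -/
theorem Ctx.conj (h : Ctx M) (s : Equiv.Perm (Fin t)) :
    Ctx (M.map (MulAut.conj (permGL s : GL (Fin t → Fin m) F)).toMonoidHom) := by
  refine ⟨h.three, fun i a ha => ⟨sl (s.symm i) a, h.base _ a ha, Units.ext ?_⟩, fun a b c hab hac hbc => ?_, ?_, h.inner⟩
  · show ((permGL s * sl (s.symm i) a * (permGL s)⁻¹ : GL (Fin t → Fin m) F) : Mat) = _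
    rw [← cj_coe, sl_coe, sl_coe, cj_permGL_slot, Equiv.apply_symm_apply]
  · obtain ⟨A, hA⟩ := h.perms (s.symm a) (s.symm b) (s.symm c) (s.symm.injective.ne hab) (s.symm.injective.ne hac)
      (s.symm.injective.ne hbc)
    refine ⟨A ∘ s.symm, _, hA, ?_⟩
    show permGL s * _ * (permGL s)⁻¹ = _
    rw [mul_inv_eq_iff_eq_mul, mul_assoc (permGL (Equiv.swap a b * Equiv.swap a c)), pureGL_perm,
      show (A ∘ s.symm) ∘ s = A by funext l; simp, ← mul_assoc, ← mul_assoc, permGL_mul, permGL_mul]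
    congr 2
    have e1 : ∀ x y : Fin t, s * Equiv.swap (s.symm x) (s.symm y) = Equiv.swap x y * s := fun x y => by
      have h1 := Equiv.mul_swap_eq_swap_mul s (s.symm x) (s.symm y)
      rwa [Equiv.apply_symm_apply, Equiv.apply_symm_apply] at h1
    rw [← mul_assoc, e1, mul_assoc, e1, ← mul_assoc]
  · intro hle
    refine h.proper fun g hg => ?_
    obtain ⟨g', hg', he⟩ := hle (show permGL s * g * (permGL s)⁻¹ ∈ specialLinear (Fin t → Fin m) F from
      (MonoidHom.normal_ker _).conj_mem g hg (permGL s))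
    rwa [(MulAut.conj (permGL s : GL (Fin t → Fin m) F)).injective he] at hg'

/-- the rigidity -/
theorem Ctx.rigid [Fintype F] (h : Ctx M) {g : GL (Fin t → Fin m) F} (hg : g ∈ M) {i j : Fin t}
    {X Y : Matrix (Fin m) (Fin m) F} (hX : X ≠ 0) (hXlt : X.rank < m)
    (he : (g : Mat) * slot i X = slot j Y * (g : Mat)) : g ∈ tensorWreathStandard m t F := by
  classical
  have hm0 : 0 < m := by have := h.three; omega
  haveI : Nonempty (Fin m) := ⟨⟨0, hm0⟩⟩
  have hrk : Y.rank = X.rank := by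
    have h1 : ((slot i X : Mat)).rank = ((slot j Y : Mat)).rank := by
      have hu := (Matrix.isUnit_iff_isUnit_det _).1 g.isUnit
      rw [← Matrix.rank_mul_eq_right_of_isUnit_det (g : Mat) (slot i X) hu, he,
        Matrix.rank_mul_eq_left_of_isUnit_det (g : Mat) (slot j Y) hu]
    rw [rank_slot hm0, rank_slot hm0] at h1
    exact Nat.eq_of_mul_eq_mul_right (by positivity) h1.symm
  obtain ⟨a, K, ha, ha1, ha2⟩ := normal_form X
  obtain ⟨b, K', hb, hb1, hb2⟩ := normal_form Y
  rw [hrk] at hb1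
  set J := Finset.univ.filter fun x : Fin m => x.1 < X.rank with hJ
  set s := Equiv.swap j i with hs
  set g' := permGL s * (sl j b * g * (sl i a)⁻¹) with hg'
  have hX0 : 0 < X.rank := Nat.pos_of_ne_zero fun e => hX (by
    have h1 : LinearMap.range X.mulVecLin = ⊥ := Submodule.finrank_eq_zero.1 e
    refine Matrix.ext_iff_mulVec.2 fun v => ?_
    rw [zero_mulVec]
    exact (Submodule.mem_bot F).1 (h1 ▸ LinearMap.mem_range_self X.mulVecLin v))
  have hcomm : (g' : Mat) * slot i ((a : Matrix (Fin m) (Fin m) F) * X) =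
      slot i ((b : Matrix (Fin m) (Fin m) F) * Y) * ((permGL s * g : GL (Fin t → Fin m) F) : Mat) := by
    have h2 : cj (permGL s : GL (Fin t → Fin m) F) (slot j ((b : Matrix (Fin m) (Fin m) F) * Y) : Mat) =
        slot i ((b : Matrix (Fin m) (Fin m) F) * Y) := by
      rw [cj_permGL_slot, hs, Equiv.swap_apply_left]
    rw [← h2, ← slot_mul, ← slot_mul, ← sl_coe, ← sl_coe, hg']
    simp only [Units.val_mul, cj, mul_assoc]
    rw [← mul_assoc _ (sl i a : Mat), gl_inv_mul, one_mul, he, ← mul_assoc (((permGL s)⁻¹ : GL (Fin t → Fin m) F) : Mat)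
      ((permGL s : GL (Fin t → Fin m) F) : Mat), gl_inv_mul, one_mul]
  have hpres : Pres i J (g' : Mat) := by
    have h3 : (g' : Mat) * slot i (ind J) =
        slot i ((b : Matrix (Fin m) (Fin m) F) * Y) * ((permGL s * g : GL (Fin t → Fin m) F) : Mat) * slot i K := by
      rw [← hcomm, mul_assoc, slot_mul, ha2]
    show (g' : Mat) * slot i (ind J) = slot i (ind J) * (g' : Mat) * slot i (ind J)
    rw [mul_assoc (slot i (ind J)), h3, ← mul_assoc, ← mul_assoc, slot_mul, hb1]
  have hJ0 : J.Nonempty := ⟨⟨0, hm0⟩, by simp [hJ, hX0]⟩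
  have hJc : Jᶜ.Nonempty := ⟨⟨X.rank, hXlt⟩, by simp [hJ]⟩
  have hc := h.conj s
  have hgin : sl j b * g * (sl i a)⁻¹ ∈ M := M.mul_mem (M.mul_mem (h.base j b hb) hg) (M.inv_mem (h.base i a ha))
  have hg'tw := rigid_same hc.three hc.base hc.perms hc.proper
    (fun x hx hc' => h.inner _ hc.base hc.perms hc.proper i x hx hc') hJ0 hJc hpres fun l c hdet =>
      ⟨_, M.mul_mem (M.mul_mem hgin (h.base l c hdet)) (M.inv_mem hgin), by
        show permGL s * _ * (permGL s)⁻¹ = _
        rw [hg']; group⟩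
  have h4 : g = (sl j b)⁻¹ * ((permGL s)⁻¹ * g') * sl i a := by rw [hg']; group
  rw [h4]
  exact mul_mem (mul_mem (inv_mem (sl_mem_tw j b)) (mul_mem (inv_mem (perm_mem_tw s)) hg'tw)) (sl_mem_tw i a)

/-- a root of the base group -/
def IsRoot (r : GL (Fin t → Fin m) F) : Prop :=
  ∃ (i : Fin t) (u φ : Fin m → F), u ≠ 0 ∧ φ ≠ 0 ∧ φ ⬝ᵥ u = 0 ∧
    (r : Matrix (Fin t → Fin m) (Fin t → Fin m) F) = 1 + slot i (vecMulVec u φ)

theorem IsRoot.sl_form {r : GL (Fin t → Fin m) F} (hr : IsRoot r) :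
    ∃ (i : Fin t) (u φ : Fin m → F) (h : φ ⬝ᵥ u = 0), u ≠ 0 ∧ φ ≠ 0 ∧ r = sl i (tv u φ h) := by
  obtain ⟨i, u, φ, hu, hφ, hφu, he⟩ := hr
  exact ⟨i, u, φ, hφu, hu, hφ, Units.ext (by rw [he, sl_coe, tv_coe, slot_add, slot_one])⟩

theorem isRoot_sl (i : Fin t) {u φ : Fin m → F} (h : φ ⬝ᵥ u = 0) (hu : u ≠ 0) (hφ : φ ≠ 0) :
    IsRoot (sl i (tv u φ h)) := ⟨i, u, φ, hu, hφ, h, by rw [sl_coe, tv_coe, slot_add, slot_one]⟩

theorem IsRoot.mem (h : Ctx M) {r : GL (Fin t → Fin m) F} (hr : IsRoot r) : r ∈ M := by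
  obtain ⟨i, u, φ, hφu, -, -, rfl⟩ := hr.sl_form
  exact h.base i _ (congrArg Units.val (tv_mem_SL u φ hφu))

theorem IsRoot.mem_tw {r : GL (Fin t → Fin m) F} (hr : IsRoot r) : r ∈ tensorWreathStandard m t F := by
  obtain ⟨i, u, φ, hφu, -, -, rfl⟩ := hr.sl_form
  exact sl_mem_tw i _

theorem vmv_ne_zero {u φ : Fin m → F} (hu : u ≠ 0) (hφ : φ ≠ 0) : vecMulVec u φ ≠ 0 := fun e => by
  obtain ⟨a, ha⟩ := Function.ne_iff.1 hu
  obtain ⟨b, hb⟩ := Function.ne_iff.1 hφ
  have := congrFun (congrFun e a) b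
  rw [vecMulVec_apply, Matrix.zero_apply, mul_eq_zero] at this
  exact this.elim ha hb

theorem vmv_rank_lt (hm : 2 ≤ m) (u φ : Fin m → F) : (vecMulVec u φ).rank < m := by
  have := Matrix.rank_vecMulVec_le u φ
  omega

theorem IsRoot.conj_tw {r : GL (Fin t → Fin m) F} (hr : IsRoot r) {g : GL (Fin t → Fin m) F}
    (hg : g ∈ tensorWreathStandard m t F) : IsRoot (g * r * g⁻¹) := by
  obtain ⟨i, u, φ, hu, hφ, hφu, he⟩ := hr
  obtain ⟨σ, A, rfl⟩ := tw_shape hg
  refine ⟨σ i, (A i : Matrix (Fin m) (Fin m) F) *ᵥ u, φ ᵥ* (((A i)⁻¹ : GL (Fin m) F) : Matrix (Fin m) (Fin m) F),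
    fun e => hu (gl_mulVec_eq_zero.1 e), fun e => hφ ?_, ?_, ?_⟩
  · have := congrArg (· ᵥ* (A i : Matrix (Fin m) (Fin m) F)) e
    simpa [vecMul_vecMul] using this
  · rw [dotProduct_mulVec, vecMul_vecMul, gl_inv_mul, vecMul_one, hφu]
  · rw [← cj_coe, he, cj_add, cj_one, cj_wreath_slot, cj, mul_vecMulVec, vecMulVec_mul]

/-- the centraliser of a root is in the wreath subgroup -/
theorem Ctx.root_centraliser [Fintype F] (h : Ctx M) {r g : GL (Fin t → Fin m) F} (hr : IsRoot r) (hg : g ∈ M)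
    (hc : g * r = r * g) : g ∈ tensorWreathStandard m t F := by
  obtain ⟨i, u, φ, hu, hφ, hφu, he⟩ := hr
  refine h.rigid hg (i := i) (j := i) (Y := vecMulVec u φ) (vmv_ne_zero hu hφ) (vmv_rank_lt (by have := h.three; omega) u φ) ?_
  have h1 := congrArg Units.val hc
  rwa [Units.val_mul, Units.val_mul, he, mul_add, add_mul, mul_one, one_mul, add_right_inj] at h1

/-- fusion of roots -/
theorem Ctx.fusion [Fintype F] (h : Ctx M) {r g : GL (Fin t → Fin m) F} (hr : IsRoot r) (hg : g ∈ M)
    (hgr : IsRoot (g * r * g⁻¹)) : g ∈ tensorWreathStandard m t F := by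
  obtain ⟨i, u, φ, hu, hφ, hφu, he⟩ := hr
  obtain ⟨j, u', φ', -, -, -, he'⟩ := hgr
  refine h.rigid hg (i := i) (j := j) (Y := vecMulVec u' φ') (vmv_ne_zero hu hφ)
    (vmv_rank_lt (by have := h.three; omega) u φ) ?_
  have h1 : (g : Mat) * (r : Mat) = ((g * r * g⁻¹ : GL (Fin t → Fin m) F) : Mat) * (g : Mat) := by
    rw [← Units.val_mul, ← Units.val_mul, inv_mul_cancel_right]
  rwa [he, he', mul_add, add_mul, mul_one, one_mul, add_right_inj] at h1

/-- the centraliser of a non-central involution of one factor -/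
theorem Ctx.single_centraliser [Fintype F] (h : Ctx M) {g : GL (Fin t → Fin m) F} (hg : g ∈ M) {i : Fin t}
    {A : GL (Fin m) F} (hA : (A : Matrix (Fin m) (Fin m) F) * (A : Matrix (Fin m) (Fin m) F) = 1)
    (h1 : (A : Matrix (Fin m) (Fin m) F) ≠ 1) (h2 : (A : Matrix (Fin m) (Fin m) F) ≠ -1)
    (hc : g * sl i A = sl i A * g) : g ∈ tensorWreathStandard m t F := by
  refine h.rigid hg (i := i) (j := i) (X := (A : Matrix (Fin m) (Fin m) F) - 1) (Y := (A : Matrix (Fin m) (Fin m) F) - 1) (sub_ne_zero.2 h1) ?_ ?_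
  · by_contra hlt
    have hr : ((A : Matrix (Fin m) (Fin m) F) - 1).rank = m :=
      le_antisymm ((Matrix.rank_le_card_width _).trans_eq (Fintype.card_fin m)) (not_lt.1 hlt)
    have hu : IsUnit ((A : Matrix (Fin m) (Fin m) F) - 1) := by
      rw [← Matrix.mulVec_surjective_iff_isUnit]
      intro v
      have htop : LinearMap.range ((A : Matrix (Fin m) (Fin m) F) - 1).mulVecLin = ⊤ :=
        Submodule.eq_top_of_finrank_eq (by rw [Module.finrank_fintype_fun_eq_card, Fintype.card_fin]; exact hr)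
      exact LinearMap.range_eq_top.1 htop v
    have hz : ((A : Matrix (Fin m) (Fin m) F) - 1) * ((A : Matrix (Fin m) (Fin m) F) + 1) = 0 := by
      rw [sub_mul, mul_add, hA, mul_one, one_mul]; abel
    exact h2 (eq_neg_of_add_eq_zero_left (hu.mul_right_eq_zero.1 hz))
  · have e := congrArg Units.val hc
    rw [Units.val_mul, Units.val_mul, sl_coe] at e
    rw [slot_sub, slot_one, mul_sub, sub_mul, e, mul_one, one_mul]

end CfsgLib.Perm.Trans.TensorPower
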