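import Cfsg.Agent.Lib.Perm.Trans.TensorPower.Vec
import Cfsg.Agent.Lib.Perm.Trans.TensorCore

/-!
# Quadratic elements of the wreath subgroup of the rank of a root
-/

set_option autoImplicit false
set_option linter.all false

namespace CfsgLib.Perm.Trans.TensorPower

open scoped Matrix
open Matrix Cfsg.Geo CfsgLib.Perm.Asch CfsgLib.Perm.Trans

variable {m t : ℕ} {F : Type*} [Field F]

theorem card_slice (i : Fin t) (a : Fin m) :
    (Finset.univ.filter fun x : Fin t → Fin m => x i = a).card = m ^ (t - 1) := by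
  classical
  rw [← Fintype.card_subtype]
  have e : {x : Fin t → Fin m // x i = a} ≃ ({j : Fin t // j ≠ i} → Fin m) :=
    { toFun := fun x j => x.1 j
      invFun := fun f => ⟨fun j => if h : j = i then a else f ⟨j, h⟩, by simp⟩
      left_inv := fun x => Subtype.ext (funext fun j => by
        by_cases h : j = i
        · subst h; simp [x.2]
        · simp [h])
      right_inv := fun f => funext fun j => by simp [j.2] }
  rw [Fintype.card_congr e, Fintype.card_fun, Fintype.card_fin, Fintype.card_subtype_compl, Fintype.card_fin,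
    Fintype.card_subtype_eq]

theorem rank_sx' (i : Fin t) (a b : Fin m) : (sx (F := F) i a b).rank = m ^ (t - 1) := by
  rw [rank_sx, card_slice]

/-- distinct slots only share scalars -/
theorem scalar_of_slot_eq (hm : 0 < m) {i j : Fin t} (h : i ≠ j) {X Y : Matrix (Fin m) (Fin m) F}
    (e : (slot i X : Matrix (Fin t → Fin m) (Fin t → Fin m) F) = slot j Y) :
    ∃ c : F, X = c • (1 : Matrix (Fin m) (Fin m) F) := by
  haveI : Nonempty (Fin m) := ⟨⟨0, hm⟩⟩
  have hc : ∀ a b : Fin m, X * Matrix.single a b 1 = Matrix.single a b 1 * X := fun a b => slot_injective i (by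
    rw [← slot_mul, ← slot_mul, e, slot_comm h.symm])
  obtain ⟨c, hc'⟩ := Matrix.mem_range_scalar_of_commute_single (M := X) (fun a b _ => (hc a b).symm)
  exact ⟨c, by rw [← hc']; simp [Matrix.smul_one_eq_diagonal]⟩

theorem perm_eq_one (hm : 2 ≤ m) {σ : Equiv.Perm (Fin t)} {A B : Fin t → GL (Fin m) F}
    (h : permGL σ * pureGL A = pureGL B) : σ = 1 := by
  by_contra hne
  obtain ⟨a, ha⟩ : ∃ a, σ a ≠ a := by
    by_contra hcon
    push Not at hcon
    exact hne (Equiv.ext hcon)
  let z : Fin m := ⟨0, by omega⟩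
  let o : Fin m := ⟨1, by omega⟩
  have h1 := cj_wreath_slot σ A a (cj (A a)⁻¹ (Matrix.single z o (1 : F)))
  rw [h, cj_pureGL_slot, cj_cj_inv] at h1
  obtain ⟨c, hc⟩ := scalar_of_slot_eq (by omega) ha h1.symm
  have := congrFun (congrFun hc z) o
  simp [Matrix.smul_apply, Matrix.one_apply, z, o, Fin.ext_iff] at this

theorem slot_smul (i : Fin t) (c : F) (X : Matrix (Fin m) (Fin m) F) :
    (slot i (c • X) : Matrix (Fin t → Fin m) (Fin t → Fin m) F) = c • slot i X := (slotHom i).toLinearMap.map_smul c X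

theorem slot_add (i : Fin t) (X Y : Matrix (Fin m) (Fin m) F) :
    (slot i (X + Y) : Matrix (Fin t → Fin m) (Fin t → Fin m) F) = slot i X + slot i Y := (slotHom i).map_add X Y

theorem slot_sub (i : Fin t) (X Y : Matrix (Fin m) (Fin m) F) :
    (slot i (X - Y) : Matrix (Fin t → Fin m) (Fin t → Fin m) F) = slot i X - slot i Y :=
  map_sub (slotHom i) X Y

theorem slot_zero (i : Fin t) : (slot i (0 : Matrix (Fin m) (Fin m) F) : Matrix (Fin t → Fin m) (Fin t → Fin m) F) = 0 :=
  (slotHom i).map_zero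

theorem slot_one (i : Fin t) : (slot i (1 : Matrix (Fin m) (Fin m) F) : Matrix (Fin t → Fin m) (Fin t → Fin m) F) = 1 :=
  (slotHom i).map_one

theorem slot_mul_pure (i : Fin t) (X : Matrix (Fin m) (Fin m) F) (A : Fin t → Matrix (Fin m) (Fin m) F) :
    slot i X * CfsgLib.Perm.Asch.pure A = CfsgLib.Perm.Asch.pure (Function.update A i (X * A i)) := by
  rw [slot, pure_mul]
  congr 1
  funext l
  rcases eq_or_ne l i with rfl | hl
  · simp
  · simp [hl, Pi.mulSingle_eq_of_ne hl]

theorem pure_mul_slot (i : Fin t) (X : Matrix (Fin m) (Fin m) F) (A : Fin t → Matrix (Fin m) (Fin m) F) :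
    CfsgLib.Perm.Asch.pure A * slot i X = CfsgLib.Perm.Asch.pure (Function.update A i (A i * X)) := by
  rw [slot, pure_mul]
  congr 1
  funext l
  rcases eq_or_ne l i with rfl | hl
  · simp
  · simp [hl, Pi.mulSingle_eq_of_ne hl]

/-- a pure tensor of root rank whose difference from one squares to zero is a root -/
theorem root_of_pure (hm : 3 ≤ m) (ht : 0 < t) (A : Fin t → GL (Fin m) F)
    (hsq : ((pureGL A : Matrix (Fin t → Fin m) (Fin t → Fin m) F) - 1) *
      ((pureGL A : Matrix (Fin t → Fin m) (Fin t → Fin m) F) - 1) = 0)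
    (hrk : ((pureGL A : Matrix (Fin t → Fin m) (Fin t → Fin m) F) - 1).rank = m ^ (t - 1)) :
    ∃ (i : Fin t) (u φ : Fin m → F), u ≠ 0 ∧ φ ≠ 0 ∧ φ ⬝ᵥ u = 0 ∧
      (pureGL A : Matrix (Fin t → Fin m) (Fin t → Fin m) F) = 1 + slot i (vecMulVec u φ) := by
  classical
  haveI : NeZero m := ⟨by omega⟩
  haveI : Nonempty (Fin m) := ⟨0⟩
  set W := (pureGL A : Matrix (Fin t → Fin m) (Fin t → Fin m) F) - 1 with hW
  have hpos : 0 < m ^ (t - 1) := by positivity
  -- some factor is not scalar
  obtain ⟨a, f, hf⟩ : ∃ (a : Fin t) (f : Fin m → F), ∀ c : F, (A a : Matrix (Fin m) (Fin m) F) *ᵥ f ≠ c • f := by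
    by_contra hcon
    push Not at hcon
    choose c hc using fun l => TensorMax.scalar_of_eigen (by omega) (hcon l)
    have hs : (pureGL A : Matrix (Fin t → Fin m) (Fin t → Fin m) F) = (∏ l, c l) • 1 := by
      rw [pureGL_coe, show (fun l => (A l : Matrix (Fin m) (Fin m) F)) = fun l => c l • (1 : Fin t → _) l from
        funext fun l => Matrix.ext_iff_mulVec.2 fun v => by
          rw [Pi.one_apply, Matrix.smul_mulVec, Matrix.one_mulVec, hc], pure_smul, pure_one]
    have h0 : W = 0 := by
      have h1 : W = ((∏ l, c l) - 1) • 1 := by rw [hW, hs, sub_smul, one_smul]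
      rw [h1, Matrix.smul_mul, one_mul, smul_smul] at hsq
      have := congrFun (congrFun hsq (fun _ => 0)) (fun _ => 0)
      simp at this
      rw [h1, this, zero_smul]
    rw [h0, Matrix.rank_zero] at hrk
    omega
  have hf0 : f ≠ 0 := fun h => hf 0 (by rw [h, mulVec_zero, smul_zero])
  set g := (A a : Matrix (Fin m) (Fin m) F) *ᵥ f with hg
  obtain ⟨φ', hφg, hφf⟩ := exists_dual (Submodule.span F {f}) (x := g) (fun hm' => by
    obtain ⟨c, hc⟩ := Submodule.mem_span_singleton.1 hm'
    exact hf c hc.symm)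
  have hφf' : φ' ⬝ᵥ f = 0 := hφf f (Submodule.mem_span_singleton_self f)
  let ε : Fin m → F := Pi.single 0 1
  have hεε : ε ⬝ᵥ ε = 1 := by simp [ε]
  set Z := (slot a (vecMulVec f ε) : Matrix (Fin t → Fin m) (Fin t → Fin m) F) with hZ
  set A₀ : Fin t → Matrix (Fin m) (Fin m) F := fun l => (A l : Matrix (Fin m) (Fin m) F) with hA₀
  have hWe : ∀ X Y : Matrix (Fin m) (Fin m) F, slot a X * W * slot a Y =
      CfsgLib.Perm.Asch.pure (Function.update A₀ a (X * A₀ a * Y)) - slot a (X * Y) := by
    intro X Y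
    rw [hW, mul_sub, sub_mul, mul_one, slot_mul, pureGL_coe, slot_mul_pure, pure_mul_slot, Function.update_self,
      Function.update_idem]
  have hrWZ : W.rank ≤ (W * Z).rank := by
    let B := pureGL (Function.update A a 1)
    have h1 : slot a (vecMulVec ε φ') * W * Z =
        (B : Matrix (Fin t → Fin m) (Fin t → Fin m) F) * sx a 0 0 := by
      rw [hZ, hWe, vecMulVec_mul_vecMulVec, hφf', zero_smul, vecMulVec_mul, vecMulVec_mul_vecMulVec,
        show φ' ᵥ* A₀ a ⬝ᵥ f = 1 by rw [← dotProduct_mulVec]; exact hφg, one_smul,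
        show vecMulVec ε (0 : Fin m → F) = 0 by ext; simp [vecMulVec_apply], slot_zero, sub_zero,
        pureGL_coe, sx, pure_mul_slot]
      congr 1
      funext l
      rcases eq_or_ne l a with rfl | hl
      · simp [ε, single_eq_vecMulVec]
      · simp [hl, hA₀]
    rw [hrk, ← rank_sx' (F := F) a 0 0, ← rank_units_mul B 1 (sx a 0 0), Units.val_one, mul_one, ← h1, mul_assoc]
    exact Matrix.rank_mul_le_right _ _
  have hrange : ∀ v, ∃ v', W *ᵥ v = (W * Z) *ᵥ v' := by
    have hle : LinearMap.range (W * Z).mulVecLin ≤ LinearMap.range W.mulVecLin := by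
      rintro _ ⟨v, rfl⟩
      exact ⟨Z *ᵥ v, by rw [Matrix.mulVecLin_apply, Matrix.mulVecLin_apply, mulVec_mulVec]⟩
    have heq := Submodule.eq_of_le_of_finrank_le hle hrWZ
    intro v
    obtain ⟨v', hv'⟩ := (heq ▸ LinearMap.mem_range_self W.mulVecLin v : W.mulVecLin v ∈ LinearMap.range (W * Z).mulVecLin)
    exact ⟨v', hv'.symm⟩
  have hkill : ∀ φ : Fin m → F, φ ⬝ᵥ f = 0 → φ ⬝ᵥ g = 0 → slot a (vecMulVec ε φ) * W = 0 := by
    intro φ h1 h2
    have h3 : slot a (vecMulVec ε φ) * (W * Z) = 0 := by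
      rw [← mul_assoc, hZ, hWe, vecMulVec_mul_vecMulVec, h1, zero_smul, vecMulVec_mul, vecMulVec_mul_vecMulVec,
        show φ ᵥ* A₀ a ⬝ᵥ f = 0 by rw [← dotProduct_mulVec]; exact h2, zero_smul,
        show vecMulVec ε (0 : Fin m → F) = 0 by ext; simp [vecMulVec_apply], slot_zero, sub_zero]
      ext x y
      rw [pure_apply, Matrix.zero_apply]
      exact Finset.prod_eq_zero (Finset.mem_univ a) (by simp)
    refine Matrix.ext_iff_mulVec.2 fun v => ?_
    obtain ⟨v', hv'⟩ := hrange v
    rw [← mulVec_mulVec, hv', mulVec_mulVec, h3, zero_mulVec, zero_mulVec]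
  obtain ⟨x, hx⟩ := exists_not_mem_pair hm f g
  obtain ⟨φ, hφx, hφ1, hφ2⟩ := exists_functional hx
  -- the other factors are scalar
  have hεφ : vecMulVec ε φ ≠ (0 : Matrix (Fin m) (Fin m) F) := fun e => by
    have := congrArg (fun M : Matrix (Fin m) (Fin m) F => (M *ᵥ x) 0) e
    simp [vecMulVec_mulVec, hφx, ε] at this
  have hsc : ∀ l, l ≠ a → ∃ c : F, A₀ l = c • (1 : Matrix (Fin m) (Fin m) F) := by
    intro l hl
    have h1 := hkill φ hφ1 hφ2
    rw [hW, mul_sub, mul_one, sub_eq_zero, pureGL_coe, slot_mul_pure, slot] at h1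
    obtain ⟨c, -, hc⟩ := pure_prop h1 (fun k => by
      rcases eq_or_ne k a with rfl | hk
      · rw [Function.update_self]
        intro e
        apply hεφ
        have := congrArg (· * ((A k)⁻¹ : GL (Fin m) F).val) e
        rwa [zero_mul, mul_assoc, gl_mul_inv, mul_one] at this
      · rw [Function.update_of_ne hk]
        exact fun e => one_ne_zero_mat (F := F) (m := m) (by
          rw [← gl_mul_inv (A k)]; show A₀ k * _ = 0; rw [show A₀ k = 0 from e, zero_mul]))
      (fun k => by
        rcases eq_or_ne k a with rfl | hk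
        · rwa [Pi.mulSingle_eq_same]
        · rw [Pi.mulSingle_eq_of_ne hk]; exact one_ne_zero_mat) l
    rw [Function.update_of_ne hl, Pi.mulSingle_eq_of_ne hl] at hc
    exact ⟨c, hc⟩
  choose! c hc using hsc
  set c' : F := ∏ l, Function.update c a 1 l with hc'
  set D := c' • A₀ a - 1 with hD
  have hWD : W = slot a D := by
    rw [hW, hD, slot_sub, slot_one, slot_smul, pureGL_coe, slot, hc', ← pure_smul]
    congr 2
    funext l
    rcases eq_or_ne l a with rfl | hl
    · simp [hA₀]
    · simpa [hl, Pi.mulSingle_eq_of_ne hl] using hc l hl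
  have hDD : D * D = 0 := slot_injective a (by rw [← slot_mul, ← hWD, hsq, slot_zero])
  have hDφ : ∀ φ : Fin m → F, φ ⬝ᵥ f = 0 → φ ⬝ᵥ g = 0 → φ ᵥ* D = 0 := by
    intro ψ h1 h2
    have h3 := hkill ψ h1 h2
    rw [hWD, slot_mul, ← slot_zero a] at h3
    have h4 := slot_injective a h3
    rw [vecMulVec_mul] at h4
    funext k
    have := congrFun (congrFun h4 0) k
    simpa [vecMulVec_apply, ε] using this
  set u := D *ᵥ f with hu
  have hu' : u = c' • g - f := by rw [hu, hD, sub_mulVec, Matrix.smul_mulVec, one_mulVec]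
  have hc0 : c' ≠ 0 := fun e => by
    rw [hD, e, zero_smul, zero_sub, neg_mul, mul_neg, neg_neg, one_mul] at hDD
    exact one_ne_zero_mat hDD
  have hu0 : u ≠ 0 := fun e => hf c'⁻¹ (by
    rw [hu', sub_eq_zero] at e
    conv_rhs => rw [← e, smul_smul, inv_mul_cancel₀ hc0, one_smul])
  have hline : ∀ y, D *ᵥ y ∈ Submodule.span F {u} := by
    intro y
    have hmem : D *ᵥ y ∈ Submodule.span F ({f, g} : Set (Fin m → F)) := by
      by_contra h
      obtain ⟨ψ, h1, h2, h3⟩ := exists_functional h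
      rw [dotProduct_mulVec, hDφ ψ h2 h3, zero_dotProduct] at h1
      exact zero_ne_one h1
    obtain ⟨α, β, hαβ⟩ := Submodule.mem_span_pair.1 hmem
    have hy : D *ᵥ y = (α + β * c'⁻¹) • f + (β * c'⁻¹) • u := by
      rw [← hαβ, hu', smul_sub, smul_smul, mul_assoc, inv_mul_cancel₀ hc0, mul_one, add_smul]; abel
    have h2 : D *ᵥ u = 0 := by rw [hu, mulVec_mulVec, hDD, zero_mulVec]
    have h3 : D *ᵥ (D *ᵥ y) = 0 := by rw [mulVec_mulVec, hDD, zero_mulVec]
    rw [hy, mulVec_add, mulVec_smul, mulVec_smul, h2, smul_zero, add_zero, ← hu] at h3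
    rw [hy, (smul_eq_zero.1 h3).resolve_right hu0, zero_smul, zero_add]
    exact Submodule.smul_mem _ _ (Submodule.mem_span_singleton_self u)
  obtain ⟨γ, hγ⟩ := TensorMax.exists_dot_one hu0
  refine ⟨a, u, γ ᵥ* D, hu0, fun e => ?_, ?_, ?_⟩
  · have : γ ⬝ᵥ u = 0 := by rw [hu, dotProduct_mulVec, e, zero_dotProduct]
    rw [hγ] at this
    exact one_ne_zero this
  · rw [← dotProduct_mulVec, hu, mulVec_mulVec, hDD, zero_mulVec, dotProduct_zero]
  · have hDv : D = vecMulVec u (γ ᵥ* D) := Matrix.ext_iff_mulVec.2 fun y => by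
      obtain ⟨k, hk⟩ := Submodule.mem_span_singleton.1 (hline y)
      rw [vecMulVec_mulVec, op_smul_eq_smul, ← dotProduct_mulVec, ← hk, dotProduct_smul, hγ, smul_eq_mul, mul_one]
    rw [← hDv, ← hWD, hW, add_sub_cancel]

/-- a quadratic wreath element induces an involution of the factors -/
theorem perm_sq (hm : 3 ≤ m) (σ : Equiv.Perm (Fin t)) (A : Fin t → GL (Fin m) F)
    (hsq : (((permGL σ * pureGL A : GL _ F) : Matrix (Fin t → Fin m) (Fin t → Fin m) F) - 1) *
      (((permGL σ * pureGL A : GL _ F) : Matrix (Fin t → Fin m) (Fin t → Fin m) F) - 1) = 0) : σ * σ = 1 := by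
  haveI : NeZero m := ⟨by omega⟩
  by_contra hne
  obtain ⟨a', ha'⟩ : ∃ a', σ (σ a') ≠ a' := by
    by_contra hcon
    push Not at hcon
    exact hne (Equiv.ext hcon)
  set a := σ (σ a') with ha
  set b := σ.symm a with hb
  set c := σ.symm b with hc
  have hca : c = a' := by simp [hc, hb, ha]
  have hac : a ≠ c := by rw [hca]; exact ha'
  have hab : a ≠ b := fun e => hac (by rw [hc, ← e, ← hb, ← e])
  set w := ((permGL σ * pureGL A : GL _ F) : Matrix (Fin t → Fin m) (Fin t → Fin m) F) with hw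
  have hkey : w * w + 1 = w + w := by
    rw [sub_mul, mul_sub, mul_sub, mul_one, one_mul, mul_one, sub_eq_zero] at hsq
    rw [eq_add_of_sub_eq hsq]; abel
  let ε : Fin m → F := Pi.single 0 1
  let p : Fin m → F := (A b : Matrix (Fin m) (Fin m) F) *ᵥ ε
  let q : Fin m → F := (A b : Matrix (Fin m) (Fin m) F) *ᵥ ((A c : Matrix (Fin m) (Fin m) F) *ᵥ ε)
  obtain ⟨x, hx⟩ := exists_not_mem_pair hm p q
  obtain ⟨φ, hφx, hφp, hφq⟩ := exists_functional hx
  let v : Fin t → Fin m → F := Function.update (fun _ => ε) a x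
  let ψ : Fin t → Fin m → F := Function.update (fun _ => ε) a φ
  have hvb : v b = ε := by simp [v, hab.symm]
  have hvc : v c = ε := by simp [v, hac.symm]
  have h1 : pv ψ ⬝ᵥ pv v = 1 := by
    rw [pv_dot, Finset.prod_eq_one]
    intro l _
    rcases eq_or_ne l a with rfl | hl
    · simp [v, ψ, hφx]
    · simp [v, ψ, hl, ε]
  have h2 : w *ᵥ pv v = pv fun l => (A (σ.symm l) : Matrix (Fin m) (Fin m) F) *ᵥ v (σ.symm l) := wreath_pv σ A v
  have h3 : pv ψ ⬝ᵥ (w *ᵥ pv v) = 0 := by
    rw [h2, pv_dot]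
    refine Finset.prod_eq_zero (Finset.mem_univ a) ?_
    simp only [ψ, Function.update_self, ← hb, hvb]
    exact hφp
  have h4 : pv ψ ⬝ᵥ ((w * w) *ᵥ pv v) = 0 := by
    rw [← mulVec_mulVec, h2, hw, wreath_pv, pv_dot]
    refine Finset.prod_eq_zero (Finset.mem_univ a) ?_
    simp only [ψ, Function.update_self, ← hb, ← hc, hvc]
    exact hφq
  have h5 := congrArg (fun X => pv ψ ⬝ᵥ (X *ᵥ pv v)) hkey
  simp only [add_mulVec, one_mulVec, dotProduct_add, h1, h3, h4, add_zero, zero_add] at h5
  exact one_ne_zero h5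

theorem card_le_rank' {ι κ : Type} [Fintype ι] [DecidableEq ι] [Fintype κ] [DecidableEq κ] (X : Matrix ι ι F)
    (r c : κ → ι) (d : κ → F) (hd : ∀ k, d k ≠ 0) (h : X.submatrix r c = Matrix.diagonal d) :
    Fintype.card κ ≤ X.rank := by
  have h2 : (Matrix.diagonal d).rank = Fintype.card κ := Matrix.rank_of_isUnit _
    ((Matrix.isUnit_iff_isUnit_det _).2 (by rw [Matrix.det_diagonal]; exact (Finset.prod_ne_zero_iff.2 fun k _ => hd k).isUnit))
  rw [← h2, ← h]
  exact Matrix.rank_submatrix_le _ _ _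

/-- the quadratic wreath elements of root rank are roots, or transpositions of two factors in dimension three -/
theorem root_or_swap (hm : 3 ≤ m) (ht : 0 < t) (σ : Equiv.Perm (Fin t)) (A : Fin t → GL (Fin m) F)
    (hsq : (((permGL σ * pureGL A : GL _ F) : Matrix (Fin t → Fin m) (Fin t → Fin m) F) - 1) *
      (((permGL σ * pureGL A : GL _ F) : Matrix (Fin t → Fin m) (Fin t → Fin m) F) - 1) = 0)
    (hrk : (((permGL σ * pureGL A : GL _ F) : Matrix (Fin t → Fin m) (Fin t → Fin m) F) - 1).rank = m ^ (t - 1)) :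
    (∃ (i : Fin t) (u φ : Fin m → F), u ≠ 0 ∧ φ ≠ 0 ∧ φ ⬝ᵥ u = 0 ∧
      ((permGL σ * pureGL A : GL _ F) : Matrix (Fin t → Fin m) (Fin t → Fin m) F) = 1 + slot i (vecMulVec u φ)) ∨
    ((2 : F) = 0 ∧ m = 3 ∧ ∃ a b : Fin t, a ≠ b ∧ σ = Equiv.swap a b ∧
      (∃ c : F, c ≠ 0 ∧ (A b : Matrix (Fin m) (Fin m) F) * (A a : Matrix (Fin m) (Fin m) F) = c • 1) ∧
      ∀ l, l ≠ a → l ≠ b → ∃ c : F, (A l : Matrix (Fin m) (Fin m) F) = c • 1) := by
  classical
  haveI : NeZero m := ⟨by omega⟩
  set w := permGL σ * pureGL A with hw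
  set W := (w : Matrix (Fin t → Fin m) (Fin t → Fin m) F) - 1 with hW
  have hσ2 := perm_sq hm σ A hsq
  have hw2 : w * w = pureGL ((A ∘ σ) * A) := by
    rw [hw, mul_assoc, ← mul_assoc (pureGL A), pureGL_perm, ← mul_assoc, ← mul_assoc, permGL_mul, hσ2, permGL_one,
      one_mul, pureGL_mul]
  have hw2m : (pureGL ((A ∘ σ) * A) : Matrix (Fin t → Fin m) (Fin t → Fin m) F) - 1 = (2 : F) • W := by
    rw [← hw2, Units.val_mul, show (w : Matrix (Fin t → Fin m) (Fin t → Fin m) F) = 1 + W by rw [hW]; abel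
      ]
    simp only [mul_add, add_mul, one_mul, mul_one, hsq, two_smul]
    abel
  by_cases h2 : (2 : F) = 0
  swap
  · left
    obtain ⟨i, u, φ, hu, hφ, hφu, he⟩ := root_of_pure hm ht ((A ∘ σ) * A)
      (by rw [hw2m, Matrix.smul_mul, Matrix.mul_smul, hsq, smul_zero, smul_zero])
      (by rw [hw2m, ← hrk, ← smul_one_mul (2 : F) W]
          exact Matrix.rank_mul_eq_right_of_isUnit_det _ _ (by simp [h2]))
    refine ⟨i, (2 : F)⁻¹ • u, φ, smul_ne_zero (inv_ne_zero h2) hu, hφ,
      by rw [dotProduct_smul, hφu, smul_zero], ?_⟩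
    have h3 : W = (2 : F)⁻¹ • slot i (vecMulVec u φ) := by
      rw [eq_inv_smul_iff₀ h2, ← hw2m, he, add_sub_cancel_left]
    rw [smul_vecMulVec, slot_smul, ← h3, hW]
    abel
  by_cases hσ : σ = 1
  · left
    have hwA : w = pureGL A := by rw [hw, hσ, permGL_one, one_mul]
    rw [hwA]
    exact root_of_pure hm ht A (by rw [← hwA]; exact hsq) (by rw [← hwA]; exact hrk)
  right
  obtain ⟨a, ha⟩ : ∃ a, σ a ≠ a := by
    by_contra hcon
    push Not at hcon
    exact hσ (Equiv.ext hcon)
  set b := σ a with hb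
  have hba : σ b = a := by rw [hb, ← Equiv.Perm.mul_apply, hσ2, Equiv.Perm.one_apply]
  have hab : a ≠ b := fun e => ha e.symm
  -- the product of the two moved factors is scalar
  have hw21 : pureGL ((A ∘ σ) * A) = 1 := Units.ext (by
    rw [Units.val_one, ← sub_eq_zero, hw2m, h2, zero_smul])
  obtain ⟨c, hc0, hc⟩ : ∃ c : F, c ≠ 0 ∧ (A b : Matrix (Fin m) (Fin m) F) * (A a : Matrix (Fin m) (Fin m) F) = c • 1 := by
    have h1 : CfsgLib.Perm.Asch.pure (fun l => ((((A ∘ σ) * A) l : GL (Fin m) F) : Matrix (Fin m) (Fin m) F)) =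
        CfsgLib.Perm.Asch.pure (1 : Fin t → Matrix (Fin m) (Fin m) F) := by
      rw [← pureGL_coe, hw21, pure_one, Units.val_one]
    obtain ⟨c, hc0, hc⟩ := pure_prop h1 (fun l e => one_ne_zero_mat (F := F) (m := m) (by
      rw [← gl_mul_inv (((A ∘ σ) * A) l), e, zero_mul])) (fun l => one_ne_zero_mat) a
    exact ⟨c, hc0, hc⟩
  -- normalise
  set Qf : Fin t → GL (Fin m) F := Pi.mulSingle b (A a) with hQf
  set A' : Fin t → GL (Fin m) F := (fun l => (Qf (σ l))⁻¹) * A * Qf with hA'
  set w' := permGL σ * pureGL A' with hw'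
  have hconj : pureGL Qf * w' = w * pureGL Qf := by
    rw [hw', hw, ← mul_assoc, pureGL_perm, mul_assoc, mul_assoc, pureGL_mul, pureGL_mul, hA']
    congr 2
    funext l
    simp [Function.comp_apply, mul_assoc]
  have hA'a : (A' a : Matrix (Fin m) (Fin m) F) = 1 := by
    simp [hA', hQf, ← hb, Pi.mulSingle_eq_of_ne hab]
  have hA'b : (A' b : Matrix (Fin m) (Fin m) F) = c • 1 := by
    simp [hA', hQf, hba, Pi.mulSingle_eq_of_ne hab, hc]
  have hA'o : ∀ l, l ≠ a → l ≠ b → (A' l : Matrix (Fin m) (Fin m) F) = A l := fun l hla hlb => by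
    have h1 : σ l ≠ b := fun e => hla (σ.injective e)
    simp [hA', hQf, Pi.mulSingle_eq_of_ne h1, Pi.mulSingle_eq_of_ne hlb]
  set W' := (w' : Matrix (Fin t → Fin m) (Fin t → Fin m) F) - 1 with hW'
  have hWW' : W' = cj (pureGL Qf)⁻¹ W := by
    rw [hW', hW, cj_sub, cj_one, cj_coe, inv_inv, mul_assoc, ← hconj, inv_mul_cancel_left]
  have hrk' : W'.rank = m ^ (t - 1) := by rw [hWW', rank_cj]; exact hrk
  have hentry : ∀ x y, (w' : Matrix (Fin t → Fin m) (Fin t → Fin m) F) x y =
      ∏ l, (A' l : Matrix (Fin m) (Fin m) F) (x (σ l)) (y l) := by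
    intro x y
    rw [hw', Units.val_mul, permGL_coe, permMat_mul, pureGL_coe]
    rfl
  have hzero : ∀ x y : Fin t → Fin m, (x b ≠ y a ∨ x a ≠ y b) → (w' : Matrix (Fin t → Fin m) (Fin t → Fin m) F) x y = 0 := by
    intro x y h
    rw [hentry]
    rcases h with h | h
    · exact Finset.prod_eq_zero (Finset.mem_univ a) (by rw [hA'a, ← hb, Matrix.one_apply_ne h])
    · exact Finset.prod_eq_zero (Finset.mem_univ b) (by
        rw [hA'b, hba, Matrix.smul_apply, Matrix.one_apply_ne h, smul_zero])
  set S := Finset.univ.filter fun x : Fin t → Fin m => x a < x b with hS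
  set D := Finset.univ.filter fun x : Fin t → Fin m => x a = x b with hD
  have hDcard : D.card = m ^ (t - 1) := by
    rw [← card_slice a (0 : Fin m)]
    refine Finset.card_bij' (fun x _ => Function.update x a 0) (fun x _ => Function.update x a (x b))
      (fun x _ => by simp) (fun x _ => by simp [hD, hab.symm]) (fun x hx => ?_) fun x hx => ?_
    · simp [hD] at hx; simp [hab.symm, ← hx]
    · simp at hx; simp [hab.symm, ← hx]
  let P1 : Fin m → Fin m := fun k => if k.1 + 1 < m then k else 0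
  let P2 : Fin m → Fin m := fun k => if h : k.1 + 1 < m then ⟨k.1 + 1, h⟩ else k
  have hP : ∀ k, P1 k < P2 k := fun k => by
    simp only [P1, P2]
    split_ifs with h
    · exact Fin.lt_def.2 (Nat.lt_succ_self _)
    · refine Fin.lt_def.2 ?_
      rw [Fin.val_zero]
      have := k.2
      omega
  have hPinj : ∀ k k', P1 k = P1 k' → P2 k = P2 k' → k = k' := fun k k' h1 h2 => by
    simp only [P1, P2] at h1 h2
    have := k.2; have := k'.2
    have h1' := congrArg Fin.val h1
    have h2' := congrArg Fin.val h2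
    refine Fin.ext ?_
    by_cases e : k.1 + 1 < m <;> by_cases e' : k'.1 + 1 < m
    all_goals
      simp only [e, e', if_true, if_false, dite_true, dite_false, Fin.val_zero] at h1' h2'
      omega
  have hSD : D.card ≤ S.card ∧ (4 ≤ m → D.card < S.card) := by
    let f : (Fin t → Fin m) → (Fin t → Fin m) := fun x => Function.update (Function.update x a (P1 (x a))) b (P2 (x a))
    have hf : ∀ x, f x a = P1 (x a) ∧ f x b = P2 (x a) := fun x => by simp [f, hab]
    have hinj : Set.InjOn f (D : Set (Fin t → Fin m)) := fun x hx y hy e => by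
      simp [hD] at hx hy
      have hk : x a = y a := hPinj _ _ (by rw [← (hf x).1, ← (hf y).1, e]) (by rw [← (hf x).2, ← (hf y).2, e])
      funext l
      by_cases hla : l = a
      · rw [hla, hk]
      by_cases hlb : l = b
      · rw [hlb, ← hx, ← hy, hk]
      · simpa [f, hla, hlb] using congrFun e l
    have hsub : D.image f ⊆ S := fun y hy => by
      obtain ⟨x, -, rfl⟩ := Finset.mem_image.1 hy
      simp [hS, (hf x).1, (hf x).2, hP]
    rw [← Finset.card_image_of_injOn hinj]
    refine ⟨Finset.card_le_card hsub, fun h4 => Finset.card_lt_card ((Finset.ssubset_iff_of_subset hsub).2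
      ⟨fun l => if l = a then ⟨1, by omega⟩ else if l = b then ⟨3, by omega⟩ else 0, ?_, ?_⟩)⟩
    · simp only [hS, Finset.mem_filter, Finset.mem_univ, true_and, if_true, if_neg hab.symm]
      exact Fin.lt_def.2 (by decide : (1 : ℕ) < 3)
    · intro h
      obtain ⟨x, -, hx⟩ := Finset.mem_image.1 h
      have e1 := congrFun hx a
      have e2 := congrFun hx b
      rw [(hf x).1] at e1
      rw [(hf x).2] at e2
      simp only [if_true, if_neg hab.symm] at e1 e2
      have e1' := congrArg Fin.val e1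
      have e2' := congrArg Fin.val e2
      by_cases e : (x a).1 + 1 < m
      all_goals
        simp only [P1, P2, e, if_true, if_false, dite_true, dite_false, Fin.val_zero] at e1' e2'
        omega
  have hblock : W'.submatrix (fun x : S => (x : Fin t → Fin m)) (fun x : S => (x : Fin t → Fin m)) =
      Matrix.diagonal fun _ => -1 := by
    ext ⟨x, hx⟩ ⟨y, hy⟩
    simp [hS] at hx hy
    rw [Matrix.submatrix_apply, hW', Matrix.sub_apply, hzero x y (by
      by_contra h; push Not at h; rw [h.1, h.2] at hx; exact absurd (hx.trans hy) (lt_irrefl _))]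
    by_cases e : x = y
    · subst e
      simp
    · simp [Matrix.one_apply_ne e, e]
  have hSR := (card_le_rank' W' _ _ (fun _ => (-1 : F)) (fun _ => neg_ne_zero.2 one_ne_zero) hblock)
  rw [hrk', Fintype.card_coe] at hSR
  have hm3 : m = 3 := by
    by_contra h
    have := hSD.2 (by omega)
    omega
  have hDD : ∀ x y : Fin t → Fin m, x a = x b → y a = y b → W' x y = 0 := by
    intro x y hx hy
    by_contra h
    have := card_le_rank' W' (fun o : Option S => o.elim x (fun s => s.1)) (fun o : Option S => o.elim y (fun s => s.1))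
      (fun o => o.elim (W' x y) fun _ => -1) (by rintro (_ | _) <;> simp [h]) (by
        ext o o'
        rcases o with _ | ⟨s, hs⟩ <;> rcases o' with _ | ⟨s', hs'⟩
        · simp
        · simp [hS] at hs'
          rw [Matrix.submatrix_apply, Matrix.diagonal_apply_ne _ (by simp)]
          show W' x s' = 0
          rw [hW', Matrix.sub_apply, hzero x s' (by
            by_contra hc; push Not at hc; rw [← hc.1, ← hc.2, hx] at hs'; exact lt_irrefl _ hs'),
            Matrix.one_apply_ne (fun e => by rw [← e, hx] at hs'; exact lt_irrefl _ hs'), sub_zero]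
        · simp [hS] at hs
          rw [Matrix.submatrix_apply, Matrix.diagonal_apply_ne _ (by simp)]
          show W' s y = 0
          rw [hW', Matrix.sub_apply, hzero s y (by
            by_contra hc; push Not at hc; rw [hc.1, hc.2, hy] at hs; exact lt_irrefl _ hs),
            Matrix.one_apply_ne (fun e => by rw [e, hy] at hs; exact lt_irrefl _ hs), sub_zero]
        · have := congrFun (congrFun hblock ⟨s, hs⟩) ⟨s', hs'⟩
          simpa [Matrix.diagonal_apply] using this)
    rw [Fintype.card_option, Fintype.card_coe, hrk'] at this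
    have := hSD.1
    omega
  -- the other factors are scalar
  set τ := Equiv.swap a b * σ with hτ
  have hτa : τ a = a := by simp [hτ, ← hb, Equiv.Perm.mul_apply]
  have hτb : τ b = b := by simp [hτ, hba, Equiv.Perm.mul_apply]
  have hτo : ∀ l, l ≠ a → l ≠ b → τ l = σ l := fun l hla hlb => by
    rw [hτ, Equiv.Perm.mul_apply, Equiv.swap_apply_of_ne_of_ne (fun e => hlb (σ.injective (e.trans hba.symm)))
      (fun e => hla (σ.injective e))]
  let A'' : Fin t → GL (Fin m) F := A'
  have hid : permGL τ * pureGL A'' = 1 := by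
    refine Units.ext (Matrix.ext fun x y => ?_)
    rw [Units.val_one, Units.val_mul, permGL_coe, permMat_mul, pureGL_coe]
    show ∏ l, (A' l : Matrix (Fin m) (Fin m) F) (x (τ l)) (y l) = (1 : Matrix (Fin t → Fin m) (Fin t → Fin m) F) x y
    have hsplit : ∀ f : Fin t → F, ∏ l, f l = f a * f b * ∏ l ∈ Finset.univ \ {a, b}, f l := fun f => by
      rw [← Finset.prod_sdiff (Finset.subset_univ {a, b}), Finset.prod_pair hab, mul_comm]
    set x' := Function.update (Function.update x a 0) b 0 with hx'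
    set y' := Function.update (Function.update y a 0) b 0 with hy'
    have h0 := hDD x' y' (by simp [hx', hab]) (by simp [hy', hab])
    rw [hW', Matrix.sub_apply, sub_eq_zero, hentry, hsplit, hA'a, hA'b, hba, ← hb] at h0
    rw [show x' b = 0 by simp [hx'], show y' a = 0 by simp [hy', hab], show x' a = 0 by simp [hx', hab],
      show y' b = 0 by simp [hy'], Matrix.one_apply_eq, Matrix.smul_apply, Matrix.one_apply_eq, smul_eq_mul, mul_one,
      one_mul] at h0
    have hp : ∏ l ∈ Finset.univ \ {a, b}, (A' l : Matrix (Fin m) (Fin m) F)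
        (Function.update (Function.update x a 0) b 0 (σ l)) (Function.update (Function.update y a 0) b 0 l) =
        ∏ l ∈ Finset.univ \ {a, b}, (A' l : Matrix (Fin m) (Fin m) F) (x (τ l)) (y l) := by
      refine Finset.prod_congr rfl fun l hl => ?_
      simp only [Finset.mem_sdiff, Finset.mem_univ, true_and, Finset.mem_insert, Finset.mem_singleton, not_or] at hl
      rw [hτo l hl.1 hl.2, Function.update_of_ne hl.2, Function.update_of_ne hl.1,
        Function.update_of_ne (fun e => hl.1 (σ.injective e)),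
        Function.update_of_ne (fun e => hl.2 (σ.injective (e.trans hba.symm)))]
    rw [hp] at h0
    rw [hsplit, hA'a, hA'b, hτa, hτb, Matrix.smul_apply, smul_eq_mul]
    by_cases e1 : x a = y a
    · by_cases e2 : x b = y b
      · rw [e1, e2, Matrix.one_apply_eq, Matrix.one_apply_eq, one_mul, mul_one, h0]
        refine if_congr ⟨fun h => funext fun l => ?_, fun h => by rw [hx', hy', h]⟩ rfl rfl
        by_cases hla : l = a
        · rw [hla, e1]
        by_cases hlb : l = b
        · rw [hlb, e2]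
        · simpa [hx', hy', hla, hlb] using congrFun h l
      · rw [Matrix.one_apply_ne e2, mul_zero, mul_zero, zero_mul, Matrix.one_apply_ne fun e => e2 (by rw [e])]
    · rw [Matrix.one_apply_ne e1, zero_mul, zero_mul, Matrix.one_apply_ne fun e => e1 (by rw [e])]
  have hτ1 : τ = 1 := perm_eq_one (B := 1) (by omega) (hid.trans pureGL_one.symm)
  have hσswap : σ = Equiv.swap a b := by
    have h1 := congrArg (Equiv.swap a b * ·) hτ1
    simpa [hτ, ← mul_assoc] using h1
  refine ⟨h2, hm3, a, b, hab, hσswap, ⟨c, hc0, hc⟩, fun l hla hlb => ?_⟩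
  rw [hτ1, permGL_one, one_mul] at hid
  have h1 : CfsgLib.Perm.Asch.pure (fun l => (A'' l : Matrix (Fin m) (Fin m) F)) =
      CfsgLib.Perm.Asch.pure (1 : Fin t → Matrix (Fin m) (Fin m) F) := by
    rw [← pureGL_coe, hid, pure_one, Units.val_one]
  obtain ⟨d, -, hd⟩ := pure_prop h1 (fun l e => one_ne_zero_mat (F := F) (m := m) (by
    rw [← gl_mul_inv (A'' l), e, zero_mul])) (fun l => one_ne_zero_mat) l
  exact ⟨d, by rw [← hA'o l hla hlb]; exact hd⟩

end CfsgLib.Perm.Trans.TensorPower
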