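import Cfsg.Agent.Lib.Perm.Asch.Power

/-!
# Square-zero elements of a matrix group and the difference lemma
-/

set_option autoImplicit false
set_option linter.all false

namespace CfsgLib.Perm.Trans.TensorPower

open scoped Matrix
open Matrix Cfsg.Geo CfsgLib.Perm.Asch

variable {ι : Type} [Fintype ι] [DecidableEq ι] {F : Type*} [Field F]

/-- `1 + X` lies in `M` -/
def Mem1 (M : Subgroup (GL ι F)) (X : Matrix ι ι F) : Prop := ∃ g ∈ M, (g : Matrix ι ι F) = 1 + X

variable {M : Subgroup (GL ι F)} {X Y : Matrix ι ι F}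

theorem Mem1.zero : Mem1 M 0 := ⟨1, M.one_mem, by simp⟩

theorem inv_one_add {g : GL ι F} (hg : (g : Matrix ι ι F) = 1 + X) (hX : X * X = 0) :
    ((g⁻¹ : GL ι F) : Matrix ι ι F) = 1 - X := by
  have h1 : (g : Matrix ι ι F) * (1 - X) = 1 := by
    rw [hg, add_mul, one_mul, mul_sub, mul_one, hX, sub_zero, sub_add_cancel]
  calc ((g⁻¹ : GL ι F) : Matrix ι ι F) = ((g⁻¹ : GL ι F) : Matrix ι ι F) * ((g : Matrix ι ι F) * (1 - X)) := by
        rw [h1, mul_one]
    _ = 1 - X := by rw [← mul_assoc, gl_inv_mul, one_mul]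

theorem Mem1.sub (hX : Mem1 M X) (hY : Mem1 M Y) (hXY : X * Y = 0) (hYY : Y * Y = 0) : Mem1 M (X - Y) := by
  obtain ⟨g, hg, hgX⟩ := hX
  obtain ⟨h, hh, hhY⟩ := hY
  refine ⟨g * h⁻¹, M.mul_mem hg (M.inv_mem hh), ?_⟩
  rw [Units.val_mul, hgX, inv_one_add hhY hYY, add_mul, one_mul, mul_sub, mul_one, hXY, sub_zero]
  abel

theorem Mem1.neg (hY : Mem1 M Y) (hYY : Y * Y = 0) : Mem1 M (-Y) := by
  simpa using Mem1.zero.sub hY (zero_mul Y) hYY

theorem cj_sub (g : GL ι F) (a b : Matrix ι ι F) : cj g (a - b) = cj g a - cj g b := by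
  simp [cj, mul_sub, sub_mul]

theorem cj_zero (g : GL ι F) : cj g (0 : Matrix ι ι F) = 0 := by simp [cj]

theorem Mem1.conj (hX : Mem1 M X) {g : GL ι F} (hg : g ∈ M) : Mem1 M (cj g X) := by
  obtain ⟨h, hh, hhX⟩ := hX
  refine ⟨g * h * g⁻¹, M.mul_mem (M.mul_mem hg hh) (M.inv_mem hg), ?_⟩
  rw [← cj_coe, hhX, cj_add, cj_one]

/-- the commutator of two square-zero elements -/
theorem Mem1.comm (hX : Mem1 M X) (hY : Mem1 M Y) (hXX : X * X = 0) (hYY : Y * Y = 0) (hYX : Y * X = 0) :
    Mem1 M (X * Y) := by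
  obtain ⟨g, hg, hgX⟩ := hX
  obtain ⟨h, hh, hhY⟩ := hY
  refine ⟨g * h * g⁻¹ * h⁻¹, M.mul_mem (M.mul_mem (M.mul_mem hg hh) (M.inv_mem hg)) (M.inv_mem hh), ?_⟩
  rw [Units.val_mul, Units.val_mul, Units.val_mul, hgX, hhY, inv_one_add hgX hXX, inv_one_add hhY hYY]
  have h1 : X * (Y * X) = 0 := by rw [hYX, mul_zero]
  have h2 : X * (Y * Y) = 0 := by rw [hYY, mul_zero]
  simp only [mul_sub, sub_mul, mul_add, add_mul, mul_one, one_mul, mul_assoc, hXX, hYY, hYX, h1, h2, mul_zero,
    sub_zero, add_zero, zero_add]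
  abel

/-! ### the difference lemma -/

section
variable {R : Type*} [Ring R] {m : ℕ} (e : Fin m → Fin m → R)

/-- the change of `X` under conjugation by the root element `1 + e` -/
def dlt (e X : R) : R := (1 + e) * X * (1 - e) - X

theorem dlt_eq (e X : R) : dlt e X = e * X - X * e - e * X * e := by
  simp only [dlt, add_mul, one_mul, mul_sub, mul_one]; abel

variable (hm : 3 ≤ m) (he : ∀ a b c d, e a b * e c d = if b = c then e a d else 0) (hsum : ∑ a, e a a = 1)
  (S : Set R) (hS : ∀ a b, a ≠ b → ∀ X ∈ S, dlt (e a b) X ∈ S)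
include hm he hS

/-- three differences isolate one block -/
theorem neg_block_mem {X : R} (hX : X ∈ S) {a b : Fin m} (hab : a ≠ b) : -(e a b * X * e a b) ∈ S := by
  classical
  obtain ⟨c, hca, hcb⟩ : ∃ c, c ≠ a ∧ c ≠ b := by
    have : ({a, b} : Finset (Fin m)).card < Fintype.card (Fin m) := by
      have := Finset.card_le_two (a := a) (b := b)
      simp at this ⊢; omega
    obtain ⟨c, -, hc⟩ := Finset.exists_mem_notMem_of_card_lt_card this
    exact ⟨c, fun h => hc (by simp [h]), fun h => hc (by simp [h])⟩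
  have h3 := hS a c hca.symm _ (hS c b hcb _ (hS a b hab _ hX))
  have k1 : ∀ Z, e a b * (e c b * Z) = 0 := fun Z => by rw [← mul_assoc, he, if_neg hcb.symm, zero_mul]
  have k2 : ∀ Z, e c b * (e a b * Z) = 0 := fun Z => by rw [← mul_assoc, he, if_neg hab.symm, zero_mul]
  have k3 : ∀ Z, e a c * (e c b * Z) = e a b * Z := fun Z => by rw [← mul_assoc, he, if_pos rfl]
  have k4 : ∀ Z, e a c * (e a b * Z) = 0 := fun Z => by rw [← mul_assoc, he, if_neg hca, zero_mul]
  have k5 : ∀ Z, e a b * (e a c * Z) = 0 := fun Z => by rw [← mul_assoc, he, if_neg hab.symm, zero_mul]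
  have k6 : ∀ Z, e c b * (e a c * Z) = 0 := fun Z => by rw [← mul_assoc, he, if_neg hab.symm, zero_mul]
  have k1' : e a b * e c b = 0 := by rw [he, if_neg hcb.symm]
  have k2' : e c b * e a b = 0 := by rw [he, if_neg hab.symm]
  have k3' : e a c * e c b = e a b := by rw [he, if_pos rfl]
  have k4' : e a c * e a b = 0 := by rw [he, if_neg hca]
  have k5' : e a b * e a c = 0 := by rw [he, if_neg hab.symm]
  have k6' : e c b * e a c = 0 := by rw [he, if_neg hab.symm]
  convert h3 using 1
  simp only [dlt_eq, mul_sub, sub_mul, mul_assoc, k1, k2, k3, k4, k5, k6, k1', k2', k3', k4', k5', k6', mul_zero,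
    zero_mul, sub_zero, zero_sub, mul_neg, neg_mul, sub_self, neg_zero]

include hsum in
/-- a set closed under differences contains a single block of every element not commuting with the units -/
theorem exists_block {X : R} (hX : X ∈ S) (hnc : ∃ a b, e a b * X ≠ X * e a b) :
    ∃ a b, a ≠ b ∧ ∃ Y ∈ S, Y ≠ 0 ∧ e a a * Y = Y ∧ Y * e b b = Y := by
  classical
  by_cases hblk : ∃ a b, a ≠ b ∧ e a b * X * e a b ≠ 0
  · obtain ⟨a, b, hab, hne⟩ := hblk
    refine ⟨a, b, hab, _, neg_block_mem e hm he S hS hX hab, neg_ne_zero.2 hne, ?_, ?_⟩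
    · rw [mul_neg, ← mul_assoc, ← mul_assoc, he, if_pos rfl]
    · rw [neg_mul, mul_assoc, he, if_pos rfl]
  · push Not at hblk
    have hoff : ∀ c d, c ≠ d → e c c * X * e d d = 0 := fun c d hcd => by
      have h1 := hblk d c hcd.symm
      calc e c c * X * e d d = e c d * (e d c * X * e d c) * e c d := by
            simp only [← mul_assoc, he, if_true]
            rw [mul_assoc (e c c * X) (e d c) (e c d), he, if_pos rfl]
        _ = 0 := by rw [h1, mul_zero, zero_mul]
    have hl : ∀ c, e c c * X = e c c * X * e c c := fun c => by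
      conv_lhs => rw [← mul_one (e c c * X), ← hsum, Finset.mul_sum,
        Finset.sum_eq_single c (fun d _ hd => hoff c d hd.symm) (by simp)]
    have hr : ∀ c, X * e c c = e c c * X * e c c := fun c => by
      conv_lhs => rw [← one_mul (X * e c c), ← hsum, Finset.sum_mul,
        Finset.sum_eq_single c (fun d _ hd => by rw [← mul_assoc]; exact hoff d c hd) (by simp)]
      rw [mul_assoc]
    obtain ⟨a, b, hab, hne⟩ : ∃ a b, a ≠ b ∧ e a b * X ≠ X * e a b := by
      by_contra hcon
      push Not at hcon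
      obtain ⟨a, b, h⟩ := hnc
      rcases eq_or_ne a b with rfl | hab
      · exact h (by rw [hl, hr])
      · exact h (hcon a b hab)
    have heXe : e a b * X * e a b = 0 := hblk a b hab
    have hXe : e a a * (X * e a b) = X * e a b := by
      calc e a a * (X * e a b) = e a a * X * e a a * e a b := by
            rw [mul_assoc (e a a * X), he, if_pos rfl, mul_assoc]
        _ = X * e a b := by rw [← hr, mul_assoc, he, if_pos rfl]
    have heX : e a b * X * e b b = e a b * X := by
      calc e a b * X * e b b = e a b * (e b b * X * e b b) := by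
            rw [← mul_assoc, ← mul_assoc, he, if_pos rfl]
        _ = e a b * X := by rw [← hl, ← mul_assoc, he, if_pos rfl]
    refine ⟨a, b, hab, _, hS a b hab X hX, ?_, ?_, ?_⟩
    · rw [dlt_eq, heXe, sub_zero]; exact sub_ne_zero.2 hne
    · rw [dlt_eq, heXe, sub_zero, mul_sub, ← mul_assoc, he, if_pos rfl, hXe]
    · rw [dlt_eq, heXe, sub_zero, sub_mul, heX, mul_assoc X, he, if_pos rfl]

end

end CfsgLib.Perm.Trans.TensorPower
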