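import Cfsg.Agent.Lib.Perm.Trans.TensorPower.Odd

/-!
# Characteristic two: involutions of the wreath subgroup
-/

set_option autoImplicit false
set_option linter.all false

namespace CfsgLib.Perm.Trans.TensorPower

open scoped Matrix
open Matrix Cfsg.Geo CfsgLib.Perm.Asch CfsgLib.Perm.Trans

variable {m t : ℕ} {F : Type*} [Field F]

local notation "Mat" => Matrix (Fin t → Fin m) (Fin t → Fin m) F

/-- twice the rank of a permutation involution less one, plus the number of fixed points, is the degree -/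
theorem rank_perm_involution {ι : Type} [Fintype ι] [DecidableEq ι] (h2 : (2 : F) = 0) (f : ι → ι)
    (hf : ∀ x, f (f x) = x) :
    2 * (Matrix.of (fun x y => if y = f x then (1 : F) else 0) - 1).rank +
      (Finset.univ.filter fun x => f x = x).card = Fintype.card ι := by
  classical
  letI : LinearOrder ι := LinearOrder.lift' (Fintype.equivFin ι) (Fintype.equivFin ι).injective
  set X : Matrix ι ι F := Matrix.of (fun x y => if y = f x then (1 : F) else 0) - 1 with hX
  set S := Finset.univ.filter fun x => x < f x with hS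
  have hneg : ∀ a : F, -a = a := fun a => by
    rw [neg_eq_iff_add_eq_zero, ← two_mul, h2, zero_mul]
  have hS' : ∀ s ∈ S, f s ∉ S := fun s hs hfs => by
    simp only [hS, Finset.mem_filter, Finset.mem_univ, true_and] at hs hfs
    rw [hf] at hfs
    exact lt_asymm hs hfs
  have hlow : S.card ≤ X.rank := card_le_rank X S (-1) (neg_ne_zero.2 one_ne_zero) fun x hx y hy => by
    have hne : ¬ y = f x := fun e => hS' x hx (by rw [← e]; exact hy)
    simp only [hX, Matrix.sub_apply, Matrix.of_apply, if_neg hne, Matrix.one_apply]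
    split_ifs <;> simp
  have hup : X.rank ≤ S.card := by
    let A : Matrix ι S F := Matrix.of fun x s => X x s.1
    let B : Matrix S ι F := Matrix.of fun s y => if y = s.1 ∨ y = f s.1 then 1 else 0
    have hXAB : X = A * B := by
      ext x y
      rw [Matrix.mul_apply]
      rcases lt_trichotomy y (f y) with hy | hy | hy
      · rw [Finset.sum_eq_single (⟨y, by simp [hS, hy]⟩ : S)]
        · simp [A, B]
        · intro s _ hs
          have h1 : y ≠ s.1 := fun e => hs (Subtype.ext e.symm)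
          have h2' : y ≠ f s.1 := fun e => hS' s.1 s.2 (e ▸ (by simp [hS, hy]))
          simp [B, h1, h2']
        · simp
      · rw [Finset.sum_eq_zero]
        · rw [hX, Matrix.sub_apply, Matrix.of_apply, Matrix.one_apply]
          by_cases hxy : x = y
          · subst hxy; simp [← hy]
          · rw [if_neg hxy, if_neg fun e => hxy (by rw [← hf x, ← e, ← hy])]; simp
        · intro s _
          have hs := s.2
          simp only [hS, Finset.mem_filter, Finset.mem_univ, true_and] at hs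
          have h1 : y ≠ s.1 := fun e => by rw [← e, ← hy] at hs; exact lt_irrefl _ hs
          have h2' : y ≠ f s.1 := fun e => by
            have e' : s.1 = f y := by rw [e, hf]
            rw [← e, e', ← hy] at hs
            exact lt_irrefl _ hs
          simp [B, h1, h2']
      · rw [Finset.sum_eq_single (⟨f y, by simp [hS, hf, hy]⟩ : S)]
        · simp only [A, B, Matrix.of_apply, hf, eq_self_iff_true, or_true, if_true, mul_one, hX, Matrix.sub_apply,
            Matrix.one_apply]
          have e1 : (y = f x) ↔ (x = f y) := ⟨fun e => by rw [e, hf], fun e => by rw [e, hf]⟩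
          have e2 : (f y = f x) ↔ (x = y) := ⟨fun e => by rw [← hf x, ← e, hf], fun e => by rw [e]⟩
          simp only [e1, e2]
          have hyf : ¬ y = f y := fun e => (ne_of_lt hy) e.symm
          by_cases h3 : x = y <;> by_cases h4 : x = f y
          · exact absurd (h3.symm.trans h4) hyf
          · simp [h3, h4, hneg, hyf]
          · simp [h3, h4, hneg, hyf, Ne.symm hyf]
          · simp [h3, h4]
        · intro s _ hs
          have h1 : y ≠ s.1 := fun e => by
            have h3 := s.2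
            simp only [hS, Finset.mem_filter, Finset.mem_univ, true_and] at h3
            rw [← e] at h3
            exact lt_asymm hy h3
          have h2' : y ≠ f s.1 := fun e => hs (Subtype.ext (show s.1 = f y by rw [e, hf]))
          simp [B, h1, h2']
        · simp
    rw [hXAB]
    exact (Matrix.rank_mul_le_left _ _).trans ((Matrix.rank_le_card_width _).trans_eq (Fintype.card_coe S))
  have hcard : Fintype.card ι = S.card + (Finset.univ.filter fun x => f x < x).card +
      (Finset.univ.filter fun x => f x = x).card := by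
    rw [← Finset.card_union_of_disjoint (Finset.disjoint_filter.2 fun x _ h h' => lt_asymm h h'),
      ← Finset.card_union_of_disjoint (Finset.disjoint_left.2 fun x hx hx' => by
        simp only [hS, Finset.mem_union, Finset.mem_filter, Finset.mem_univ, true_and] at hx hx'
        rcases hx with h | h
        · exact absurd hx' (ne_of_gt h)
        · exact absurd hx' (ne_of_lt h))]
    rw [← Finset.card_univ]
    congr 1
    ext x
    simp only [hS, Finset.mem_univ, Finset.mem_union, Finset.mem_filter, true_and, true_iff]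
    rcases lt_trichotomy x (f x) with h | h | h
    · exact Or.inl (Or.inl h)
    · exact Or.inr h.symm
    · exact Or.inl (Or.inr h)
  have hbij : (Finset.univ.filter fun x => f x < x).card = S.card := by
    refine Finset.card_bij' (fun x _ => f x) (fun x _ => f x) ?_ ?_ (fun x _ => hf x) (fun x _ => hf x)
    · intro x hx
      simp only [hS, Finset.mem_filter, Finset.mem_univ, true_and] at hx ⊢
      rwa [hf]
    · intro x hx
      simp only [hS, Finset.mem_filter, Finset.mem_univ, true_and] at hx ⊢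
      rwa [hf]
  omega

/-- scalars of order two in characteristic two -/
theorem eq_one_of_mul_self {c : F} (h2 : (2 : F) = 0) (h : c * c = 1) : c = 1 := by
  have : (c - 1) * (c - 1) = 0 := by linear_combination h - (c - 1) * h2
  exact sub_eq_zero.1 ((mul_self_eq_zero).1 this)

theorem gl_ne_zero [NeZero m] (A : GL (Fin m) F) : (A : Matrix (Fin m) (Fin m) F) ≠ 0 := fun e =>
  one_ne_zero_mat (F := F) (m := m) (by rw [← gl_mul_inv A, e, zero_mul])

/-- proportional involutions are equal -/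
theorem inv_eq_of_smul (hm : 0 < m) (h2 : (2 : F) = 0) {A B : GL (Fin m) F} (hA : A * A = 1) (hB : B * B = 1) {c : F}
    (h : (A : Matrix (Fin m) (Fin m) F) = c • (B : Matrix (Fin m) (Fin m) F)) : A = B := by
  have h1 : (c * c) • (1 : Matrix (Fin m) (Fin m) F) = 1 := by
    calc (c * c) • (1 : Matrix (Fin m) (Fin m) F) = (c • (B : Matrix (Fin m) (Fin m) F)) * (c • (B : Matrix (Fin m) (Fin m) F)) := by
          rw [Matrix.smul_mul, Matrix.mul_smul, smul_smul, ← Units.val_mul, hB, Units.val_one]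
      _ = 1 := by rw [← h, ← Units.val_mul, hA, Units.val_one]
  have h3 := congrFun (congrFun h1 ⟨0, hm⟩) ⟨0, hm⟩
  simp at h3
  rw [eq_one_of_mul_self h2 h3, one_smul] at h
  exact Units.ext h

/-- pure tensors of involutions determine their factors -/
theorem pureGL_inj (hm : 0 < m) (h2 : (2 : F) = 0) {A B : Fin t → GL (Fin m) F} (hA : ∀ l, A l * A l = 1)
    (hB : ∀ l, B l * B l = 1) (h : pureGL A = pureGL B) (l : Fin t) : A l = B l := by
  haveI : NeZero m := ⟨by omega⟩
  have h1 := congrArg Units.val h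
  rw [pureGL_coe, pureGL_coe] at h1
  obtain ⟨c, -, hc⟩ := pure_prop h1 (fun k => gl_ne_zero (A k)) (fun k => gl_ne_zero (B k)) l
  exact inv_eq_of_smul hm h2 (hA l) (hB l) hc

theorem pureGL_mul_sl (A : Fin t → GL (Fin m) F) (k : Fin t) (b : GL (Fin m) F) :
    pureGL A * sl k b = pureGL (Function.update A k (A k * b)) := by
  rw [sl, pureGL_mul]
  congr 1
  funext l
  rcases eq_or_ne l k with rfl | hl
  · simp
  · simp [hl, Pi.mulSingle_eq_of_ne hl]

theorem sl_eq_pureGL (k : Fin t) (b : GL (Fin m) F) : sl k b = pureGL (Pi.mulSingle k b) := rfl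

theorem sl_inj (hm : 0 < m) {k : Fin t} {a b : GL (Fin m) F} (h : sl k a = sl k b) : a = b := by
  haveI : Nonempty (Fin m) := ⟨⟨0, hm⟩⟩
  have h1 := congrArg Units.val h
  rw [sl_coe, sl_coe] at h1
  exact Units.ext (slot_injective k h1)

theorem tv_ne_one {u φ : Fin m → F} (h : φ ⬝ᵥ u = 0) (hu : u ≠ 0) (hφ : φ ≠ 0) : tv u φ h ≠ 1 := fun e => by
  have h1 := congrArg Units.val e
  rw [tv_coe, Units.val_one, add_eq_left] at h1
  exact vmv_ne_zero hu hφ h1

theorem tv_sq (h2 : (2 : F) = 0) (u φ : Fin m → F) (h : φ ⬝ᵥ u = 0) : tv u φ h * tv u φ h = 1 := Units.ext (by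
  have e : vecMulVec u φ * vecMulVec u φ = 0 := by
    rw [vecMulVec_mul_vecMulVec, h, zero_smul]; ext; simp [vecMulVec_apply]
  rw [Units.val_mul, tv_coe, Units.val_one]
  simp only [add_mul, mul_add, one_mul, mul_one, e, add_zero]
  rw [add_assoc, ← two_smul F (vecMulVec u φ), h2, zero_smul, add_zero])

/-- a root commuting with an involution of one factor, other than it -/
theorem exists_commuting_root (hm : 3 ≤ m) (h2 : (2 : F) = 0) {A : GL (Fin m) F} (hA : A * A = 1) :
    ∃ (u φ : Fin m → F) (h : φ ⬝ᵥ u = 0), u ≠ 0 ∧ φ ≠ 0 ∧ A * tv u φ h = tv u φ h * A ∧ A * tv u φ h ≠ 1 := by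
  classical
  let e0 : Fin m → F := Pi.single ⟨0, by omega⟩ 1
  let e1 : Fin m → F := Pi.single ⟨1, by omega⟩ 1
  by_cases hA1 : A = 1
  · have h : e1 ⬝ᵥ e0 = 0 := by simp [e0, e1]
    exact ⟨e0, e1, h, by simp [e0], by simp [e1], by rw [hA1, one_mul, mul_one], by
      rw [hA1, one_mul]; exact tv_ne_one h (by simp [e0]) (by simp [e1])⟩
  set D := (A : Matrix (Fin m) (Fin m) F) - 1 with hD
  have hDD : D * D = 0 := by
    rw [hD, sub_mul, mul_sub, one_mul, mul_one, ← Units.val_mul, hA, Units.val_one]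
    rw [show (1 : Matrix (Fin m) (Fin m) F) - A - (A - 1) = (2 : F) • (1 - (A : Matrix (Fin m) (Fin m) F)) by
      rw [two_smul]; abel, h2, zero_smul]
  obtain ⟨f, hf⟩ : ∃ f, D *ᵥ f ≠ 0 := by
    by_contra hcon
    push Not at hcon
    refine hA1 (Units.ext (sub_eq_zero.1 (Matrix.ext_iff_mulVec.2 fun v => ?_)))
    rw [zero_mulVec]; exact hcon v
  obtain ⟨γ, hγ⟩ := TensorMax.exists_dot_one hf
  set u := D *ᵥ f with hu
  set φ := γ ᵥ* D with hφdef
  have hφu : φ ⬝ᵥ u = 0 := by rw [hφdef, ← dotProduct_mulVec, hu, mulVec_mulVec, hDD, zero_mulVec, dotProduct_zero]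
  have hφ : φ ≠ 0 := fun e => by
    rw [hu, dotProduct_mulVec, ← hφdef, e, zero_dotProduct] at hγ
    exact zero_ne_one hγ
  have hDu : D *ᵥ u = 0 := by rw [hu, mulVec_mulVec, hDD, zero_mulVec]
  have hφD : φ ᵥ* D = 0 := by rw [hφdef, vecMul_vecMul, hDD, vecMul_zero]
  have hAm : (A : Matrix (Fin m) (Fin m) F) = 1 + D := by rw [hD]; abel
  have hcomm : ∀ (ψ : Fin m → F) (h : ψ ⬝ᵥ u = 0), ψ ᵥ* D = 0 → A * tv u ψ h = tv u ψ h * A := fun ψ h hψ =>
    Units.ext (by
      rw [Units.val_mul, Units.val_mul, tv_coe, hAm]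
      have e1 : D * vecMulVec u ψ = 0 := by rw [mul_vecMulVec, hDu]; ext; simp [vecMulVec_apply]
      have e2 : vecMulVec u ψ * D = 0 := by rw [vecMulVec_mul, hψ]; ext; simp [vecMulVec_apply]
      simp only [add_mul, mul_add, one_mul, mul_one, e1, e2, add_zero]
      abel)
  by_cases hne : A * tv u φ hφu ≠ 1
  · exact ⟨u, φ, hφu, hf, hφ, hcomm φ hφu hφD, hne⟩
  push Not at hne
  have hAeq : A = tv u φ hφu := by
    calc A = A * (tv u φ hφu * tv u φ hφu) := by rw [tv_sq h2, mul_one]
      _ = tv u φ hφu := by rw [← mul_assoc, hne, one_mul]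
  have hDeq : D = vecMulVec u φ := by rw [hD, hAeq, tv_coe, add_sub_cancel_left]
  obtain ⟨ψ, hψu, hψφ⟩ : ∃ ψ : Fin m → F, ψ ⬝ᵥ u = 0 ∧ ψ ∉ Submodule.span F {φ} := by
    by_contra hcon
    push Not at hcon
    obtain ⟨k, hk⟩ := exists_not_mem_pair hm φ γ
    refine hk ?_
    have := hcon (k - (k ⬝ᵥ u) • γ) (by rw [sub_dotProduct, smul_dotProduct, hγ, smul_eq_mul, mul_one, sub_self])
    obtain ⟨e, he⟩ := Submodule.mem_span_singleton.1 this
    exact Submodule.mem_span_pair.2 ⟨e, k ⬝ᵥ u, by rw [he, sub_add_cancel]⟩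
  have hψ0 : ψ ≠ 0 := fun e => hψφ (by rw [e]; exact Submodule.zero_mem _)
  refine ⟨u, ψ, hψu, hf, hψ0, hcomm ψ hψu ?_, fun e => hψφ ?_⟩
  · rw [hDeq, vecMul_vecMulVec, hψu, zero_smul]
  · have h1 : tv u φ hφu = tv u ψ hψu := by
      calc tv u φ hφu = A * (tv u ψ hψu * tv u ψ hψu) := by rw [tv_sq h2, mul_one, hAeq]
        _ = tv u ψ hψu := by rw [← mul_assoc, e, one_mul]
    have h3 := congrArg Units.val h1
    rw [tv_coe, tv_coe, add_right_inj] at h3
    have h4 := congrArg (γ ᵥ* ·) h3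
    simp only [vecMul_vecMulVec, hγ, one_smul] at h4
    rw [← h4]; exact Submodule.mem_span_singleton_self φ

/-- dihedral groups generated by two involutions that are not conjugate -/
theorem dihedral_data {G : Type*} [Group G] [Finite G] (M : Subgroup G) {a b : G} (ha : a * a = 1) (hb : b * b = 1)
    (haM : a ∈ M) (hbM : b ∈ M) (hnc : ∀ g ∈ M, g * b * g⁻¹ ≠ a) :
    ∃ (e : ℕ) (g0 c : G), 1 ≤ e ∧ g0 ∈ M ∧ c ∈ M ∧ orderOf g0 = 2 ^ e ∧
      c * (a * g0) * c⁻¹ = b ∧ (∀ w, w * a = a * w → w * b = b * w → w * c = c * w ∧ w * g0 = g0 * w) ∧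
      a * g0 * a⁻¹ = g0⁻¹ ∧ g0 ^ 2 ^ (e - 1) * b = b * g0 ^ 2 ^ (e - 1) := by
  have hai : a⁻¹ = a := inv_eq_of_mul_eq_one_right ha
  have hbi : b⁻¹ = b := inv_eq_of_mul_eq_one_right hb
  set x := a * b with hx
  have hxM : x ∈ M := M.mul_mem haM hbM
  have hax : a * x * a⁻¹ = x⁻¹ := by
    rw [hx, _root_.mul_inv_rev, hai, hbi, ← mul_assoc, ha, one_mul]
  have hbx : b * x * b⁻¹ = x⁻¹ := by
    rw [hx, _root_.mul_inv_rev, hai, hbi, mul_assoc b (a * b) b, mul_assoc a b b, hb, mul_one]
  obtain ⟨e, o, ho, hord⟩ := Nat.exists_eq_pow_mul_and_not_dvd (isOfFinOrder_of_finite x).orderOf_pos.ne' 2 (by norm_num)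
  obtain ⟨j, hj⟩ : ∃ j, o = 2 * j + 1 := ⟨o / 2, by omega⟩
  have hconj : x ^ j * (a * x ^ o) * (x ^ j)⁻¹ = b := by
    have h1 : x ^ j * a = a * (x ^ j)⁻¹ := by
      have h2 : a * x ^ j * a⁻¹ = (x ^ j)⁻¹ := by rw [← conj_pow, hax, inv_pow]
      rw [← h2, ← mul_assoc, ← mul_assoc, ha, one_mul, hai]
    rw [← mul_assoc, h1, mul_assoc, mul_assoc, hj, pow_succ, show 2 * j = j + j by omega, pow_add]
    rw [show (x ^ j)⁻¹ * (x ^ j * x ^ j * x * (x ^ j)⁻¹) = x ^ j * x * (x ^ j)⁻¹ by group]
    rw [show x ^ j * x * (x ^ j)⁻¹ = x by rw [← pow_succ, pow_succ', mul_inv_cancel_right]]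
    rw [hx, ← mul_assoc, ha, one_mul]
  have he : 1 ≤ e := by
    rcases Nat.eq_zero_or_pos e with rfl | he
    · exfalso
      rw [pow_zero, one_mul] at hord
      refine hnc (x ^ j)⁻¹ (M.inv_mem (M.pow_mem hxM j)) ?_
      rw [← hord, pow_orderOf_eq_one, mul_one] at hconj
      rw [← hconj]; group
    · exact he
  refine ⟨e, x ^ o, x ^ j, he, M.pow_mem hxM o, M.pow_mem hxM j, ?_, hconj, fun w hwa hwb => ?_, ?_, ?_⟩
  · rw [orderOf_pow' x (by omega : o ≠ 0), hord, Nat.gcd_eq_right (Dvd.intro_left _ rfl)]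
    exact Nat.mul_div_cancel _ (by omega)
  · have h1 : Commute w x := Commute.mul_right hwa hwb
    exact ⟨(h1.pow_right j).eq, (h1.pow_right o).eq⟩
  · rw [← conj_pow, hax, inv_pow]
  · set z := (x ^ o) ^ 2 ^ (e - 1) with hz
    have hzz : z⁻¹ = z := by
      refine inv_eq_of_mul_eq_one_right ?_
      rw [hz, ← pow_add, ← two_mul, ← pow_succ', Nat.sub_add_cancel he, ← pow_mul, mul_comm, ← hord, pow_orderOf_eq_one]
    have h1 : b * z * b⁻¹ = z := by
      conv_rhs => rw [← hzz]
      rw [hz, ← conj_pow, ← conj_pow, hbx, inv_pow, inv_pow]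
    conv_lhs => rw [← h1]
    rw [inv_mul_cancel_right]

theorem isPGroup_zpowers {G : Type*} [Group G] {g : G} {p k : ℕ} (h : g ^ p ^ k = 1) : IsPGroup p (Subgroup.zpowers g) := by
  rintro ⟨x, hx⟩
  obtain ⟨n, rfl⟩ := Subgroup.mem_zpowers_iff.1 hx
  refine ⟨k, Subtype.ext ?_⟩
  show (g ^ n) ^ p ^ k = 1
  rw [← zpow_natCast, ← _root_.zpow_mul, mul_comm, _root_.zpow_mul, zpow_natCast, h, _root_.one_zpow]

/-- the 2-group of a dihedral pair -/
theorem dihedral_pgroup {G : Type*} [Group G] {a g0 : G} {e : ℕ} (ha : a * a = 1) (hg : orderOf g0 = 2 ^ e)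
    (hinv : a * g0 * a⁻¹ = g0⁻¹) : IsPGroup 2 (Subgroup.zpowers g0 ⊔ Subgroup.zpowers a : Subgroup G) := by
  refine IsPGroup.to_sup_of_normal_left' (isPGroup_zpowers (k := e) (by rw [← hg]; exact pow_orderOf_eq_one g0))
    (isPGroup_zpowers (k := 1) (by rw [pow_one, pow_two]; exact ha)) ?_
  intro x hx
  obtain ⟨n, rfl⟩ := Subgroup.mem_zpowers_iff.1 hx
  have haN : a ∈ Subgroup.normalizer (Subgroup.zpowers g0 : Set G) := by
    rw [Subgroup.mem_normalizer_iff]
    have key : ∀ y ∈ Subgroup.zpowers g0, a * y * a⁻¹ ∈ Subgroup.zpowers g0 := by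
      intro y hy
      obtain ⟨k, rfl⟩ := Subgroup.mem_zpowers_iff.1 hy
      rw [← conj_zpow, hinv, _root_.inv_zpow]
      exact inv_mem (Subgroup.zpow_mem _ (Subgroup.mem_zpowers g0) k)
    intro y
    refine ⟨key y, fun hy => ?_⟩
    have := key _ hy
    rw [inv_eq_of_mul_eq_one_right ha] at this
    rwa [← mul_assoc, ← mul_assoc, ha, one_mul, mul_assoc, ha, mul_one] at this
  exact Subgroup.zpow_mem _ haN n

end CfsgLib.Perm.Trans.TensorPower
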