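import Cfsg.Agent.Lib.Perm.Trans.TensorPower.TwoBasic

/-!
# Characteristic two: a conjugate of a root in the wreath subgroup is a root
-/

set_option autoImplicit false
set_option linter.all false

namespace CfsgLib.Perm.Trans.TensorPower

open scoped Matrix
open Matrix Cfsg.Geo CfsgLib.Perm.Asch CfsgLib.Perm.Trans

variable {m t : ℕ} {F : Type*} [Field F]

local notation "Mat" => Matrix (Fin t → Fin m) (Fin t → Fin m) F

theorem hasPerm_pure (A : Fin t → GL (Fin m) F) : HasPerm (pureGL A) 1 := ⟨A, by rw [permGL_one, one_mul]⟩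

/-- commuting wreath and pure elements -/
theorem wreath_comm {σ : Equiv.Perm (Fin t)} {A B : Fin t → GL (Fin m) F} (h : ∀ l, A l * B l = B (σ l) * A l) :
    permGL σ * pureGL A * pureGL B = pureGL B * (permGL σ * pureGL A) := by
  rw [← mul_assoc (pureGL B), pureGL_perm, mul_assoc, mul_assoc, pureGL_mul, pureGL_mul]
  congr 2
  funext l
  exact h l

theorem vmv_rank_one {u φ : Fin m → F} (hu : u ≠ 0) (hφ : φ ≠ 0) : (vecMulVec u φ).rank = 1 := by
  have h1 : (vecMulVec u φ).rank ≤ 1 := Matrix.rank_vecMulVec_le u φ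
  have h0 : 0 < (vecMulVec u φ).rank := Nat.pos_of_ne_zero fun e => vmv_ne_zero hu hφ (by
    have hbot : LinearMap.range (vecMulVec u φ).mulVecLin = ⊥ := Submodule.finrank_eq_zero.1 e
    refine Matrix.ext_iff_mulVec.2 fun v => ?_
    rw [zero_mulVec]
    exact (Submodule.mem_bot F).1 (hbot ▸ LinearMap.mem_range_self (vecMulVec u φ).mulVecLin v))
  omega

/-- a conjugate of a root in the wreath subgroup is a root or a transposition of two factors -/
theorem conj_root_cases (hm : 3 ≤ m) {r g : GL (Fin t → Fin m) F} (hr : IsRoot r) {σ : Equiv.Perm (Fin t)}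
    {A : Fin t → GL (Fin m) F} (hA : g * r * g⁻¹ = permGL σ * pureGL A) :
    IsRoot (g * r * g⁻¹) ∨ ((2 : F) = 0 ∧ m = 3 ∧ ∃ a b : Fin t, a ≠ b ∧ σ = Equiv.swap a b ∧
      (∃ c : F, c ≠ 0 ∧ (A b : Matrix (Fin m) (Fin m) F) * (A a : Matrix (Fin m) (Fin m) F) = c • 1) ∧
      ∀ l, l ≠ a → l ≠ b → ∃ c : F, (A l : Matrix (Fin m) (Fin m) F) = c • 1) := by
  obtain ⟨i, u, φ, hu, hφ, hφu, he⟩ := hr
  have hN : (slot i (vecMulVec u φ) : Mat) * slot i (vecMulVec u φ) = 0 := by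
    rw [slot_mul, vecMulVec_mul_vecMulVec, hφu, zero_smul, show vecMulVec u (0 : Fin m → F) = 0 by
      ext; simp [vecMulVec_apply], slot_zero]
  have hW : ((permGL σ * pureGL A : GL _ F) : Mat) - 1 = cj g (slot i (vecMulVec u φ)) := by
    rw [← hA, ← cj_coe, he, cj_add, cj_one, add_sub_cancel_left]
  have hsq : (((permGL σ * pureGL A : GL _ F) : Mat) - 1) * (((permGL σ * pureGL A : GL _ F) : Mat) - 1) = 0 := by
    rw [hW, ← cj_mul, hN, cj_zero]
  have hrk : (((permGL σ * pureGL A : GL _ F) : Mat) - 1).rank = m ^ (t - 1) := by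
    rw [hW, rank_cj, rank_slot (by omega), vmv_rank_one hu hφ, one_mul]
  rcases root_or_swap hm (show 0 < t by have := i.2; omega) σ A hsq hrk with ⟨j, u', φ', hu', hφ', hφu', he'⟩ | h
  · exact Or.inl ⟨j, u', φ', hu', hφ', hφu', by rw [hA]; exact he'⟩
  · exact Or.inr h

theorem IsRoot.hasPerm {r : GL (Fin t → Fin m) F} (hr : IsRoot r) : HasPerm r 1 := by
  obtain ⟨i, u, φ, hφu, -, -, rfl⟩ := hr.sl_form
  exact hasPerm_pure _

/-- the factors of an involutive pure tensor square to scalars -/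
theorem sq_scalar_of_pure_sq [NeZero m] {B : Fin t → GL (Fin m) F} (h : pureGL B * pureGL B = 1) (l : Fin t) :
    ∃ c : F, c ≠ 0 ∧ (B l : Matrix (Fin m) (Fin m) F) * (B l : Matrix (Fin m) (Fin m) F) = c • 1 := by
  have h1 : CfsgLib.Perm.Asch.pure (fun k => ((B * B) k : Matrix (Fin m) (Fin m) F)) =
      CfsgLib.Perm.Asch.pure (1 : Fin t → Matrix (Fin m) (Fin m) F) := by
    rw [← pureGL_coe, ← pureGL_mul, h, pure_one, Units.val_one]
  obtain ⟨c, hc0, hc⟩ := pure_prop h1 (fun k => gl_ne_zero _) (fun k => one_ne_zero_mat) l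
  exact ⟨c, hc0, hc⟩

/-- in a finite field of characteristic two a projective involution is proportional to an involution -/
theorem exists_involutive [Fintype F] (h2 : (2 : F) = 0) {A : GL (Fin m) F} {c : F} (hc0 : c ≠ 0)
    (hc : (A : Matrix (Fin m) (Fin m) F) * (A : Matrix (Fin m) (Fin m) F) = c • 1) :
    ∃ (s : F) (A' : GL (Fin m) F), s ≠ 0 ∧ A' * A' = 1 ∧
      (A : Matrix (Fin m) (Fin m) F) = s • (A' : Matrix (Fin m) (Fin m) F) := by
  have hch : ringChar F = 2 :=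
    ringChar.eq_iff.2 (CharTwo.of_one_ne_zero_of_two_eq_zero one_ne_zero h2)
  obtain ⟨s, hs⟩ := FiniteField.isSquare_of_char_two hch c
  have hs0 : s ≠ 0 := fun e => hc0 (by rw [hs, e, zero_mul])
  have h1 : (s⁻¹ • (A : Matrix (Fin m) (Fin m) F)) * (s⁻¹ • (A : Matrix (Fin m) (Fin m) F)) = 1 := by
    rw [Matrix.smul_mul, Matrix.mul_smul, hc, smul_smul, smul_smul, hs,
      show s⁻¹ * s⁻¹ * (s * s) = 1 by field_simp, one_smul]
  exact ⟨s, ⟨_, _, h1, h1⟩, hs0, Units.ext h1, by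
    show _ = s • (s⁻¹ • (A : Matrix (Fin m) (Fin m) F))
    rw [smul_smul, mul_inv_cancel₀ hs0, one_smul]⟩

/-! ### dimension three -/

/-- square-zero matrices in dimension three -/
theorem sq_zero_three {N : Matrix (Fin 3) (Fin 3) F} (hN : N * N = 0) :
    ∃ v ψ : Fin 3 → F, N = vecMulVec v ψ ∧ ψ ⬝ᵥ v = 0 := by
  by_cases hN0 : N = 0
  · exact ⟨0, 0, by rw [hN0]; ext; simp [vecMulVec_apply], zero_dotProduct _⟩
  obtain ⟨f, hf⟩ : ∃ f, N *ᵥ f ≠ 0 := by
    by_contra hcon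
    push Not at hcon
    exact hN0 (Matrix.ext_iff_mulVec.2 fun v => by rw [zero_mulVec]; exact hcon v)
  have hle : LinearMap.range N.mulVecLin ≤ LinearMap.ker N.mulVecLin := by
    rintro _ ⟨y, rfl⟩
    rw [LinearMap.mem_ker, Matrix.mulVecLin_apply, Matrix.mulVecLin_apply, mulVec_mulVec, hN, zero_mulVec]
  have h1 := LinearMap.finrank_range_add_finrank_ker N.mulVecLin
  rw [Module.finrank_fintype_fun_eq_card, Fintype.card_fin] at h1
  have h2 := Submodule.finrank_mono hle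
  have hspan : Submodule.span F {N *ᵥ f} = LinearMap.range N.mulVecLin := by
    refine Submodule.eq_of_le_of_finrank_le
      ((Submodule.span_singleton_le_iff_mem _ _).2 ⟨f, rfl⟩) ?_
    rw [finrank_span_singleton hf]
    omega
  obtain ⟨γ, hγ⟩ := TensorMax.exists_dot_one hf
  refine ⟨N *ᵥ f, γ ᵥ* N, Matrix.ext_iff_mulVec.2 fun y => ?_, by
    rw [← dotProduct_mulVec, mulVec_mulVec, hN, zero_mulVec, dotProduct_zero]⟩
  have hy : N *ᵥ y ∈ Submodule.span F {N *ᵥ f} := hspan ▸ LinearMap.mem_range_self N.mulVecLin y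
  obtain ⟨k, hk⟩ := Submodule.mem_span_singleton.1 hy
  rw [vecMulVec_mulVec, op_smul_eq_smul, ← dotProduct_mulVec, ← hk, dotProduct_smul, hγ, smul_eq_mul, mul_one]

/-- two square-zero matrices commuting with one elation multiply into its line -/
theorem mul_mem_line {D N N' : Matrix (Fin 3) (Fin 3) F} (hD : D * D = 0) (hD0 : D ≠ 0) (hN : N * N = 0)
    (hN' : N' * N' = 0) (hc : N * D = D * N) (hc' : N' * D = D * N') :
    (∃ c : F, N * N' = c • D) ∧ N * D = 0 ∧ D * N = 0 := by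
  obtain ⟨u, φ, rfl, hφu⟩ := sq_zero_three hD
  obtain ⟨v, ψ, rfl, hψv⟩ := sq_zero_three hN
  obtain ⟨v', ψ', rfl, hψv'⟩ := sq_zero_three hN'
  have hu : u ≠ 0 := fun e => hD0 (by rw [e]; ext; simp [vecMulVec_apply])
  have hφ : φ ≠ 0 := fun e => hD0 (by rw [e]; ext; simp [vecMulVec_apply])
  have orth : ∀ v ψ : Fin 3 → F, ψ ⬝ᵥ v = 0 → vecMulVec v ψ * vecMulVec u φ = vecMulVec u φ * vecMulVec v ψ →
      vecMulVec v ψ ≠ 0 → ψ ⬝ᵥ u = 0 ∧ φ ⬝ᵥ v = 0 := by
    intro v ψ hvv hcom hne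
    have hv : v ≠ 0 := fun e => hne (by rw [e]; ext; simp [vecMulVec_apply])
    have hψ : ψ ≠ 0 := fun e => hne (by rw [e]; ext; simp [vecMulVec_apply])
    rw [vecMulVec_mul_vecMulVec, vecMulVec_mul_vecMulVec, vecMulVec_smul, vecMulVec_smul] at hcom
    have hu0 : ψ ⬝ᵥ u = 0 := by
      by_contra hne0
      obtain ⟨δ, hδ⟩ := TensorMax.exists_dot_one hφ
      have h1 := congrArg (· *ᵥ δ) hcom
      simp only [Matrix.smul_mulVec, vecMulVec_mulVec, op_smul_eq_smul, show φ ⬝ᵥ δ = 1 by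
        rw [dotProduct_comm]; exact hδ, one_smul, smul_smul] at h1
      have h2 := congrArg (ψ ⬝ᵥ ·) h1
      simp only [dotProduct_smul, hvv, smul_zero, smul_eq_mul, mul_zero] at h2
      rcases mul_eq_zero.1 h2.symm with h3 | h3
      · rw [h3, zero_smul, smul_eq_zero] at h1
        exact h1.elim hne0 hv
      · exact hne0 h3
    refine ⟨hu0, ?_⟩
    rw [hu0, zero_smul] at hcom
    exact (smul_eq_zero.1 hcom.symm).resolve_right (vmv_ne_zero hu hψ)
  have hz : ∀ w : Fin 3 → F, vecMulVec w (0 : Fin 3 → F) = 0 := fun w => by ext; simp [vecMulVec_apply]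
  by_cases hN0 : vecMulVec v ψ = 0
  · exact ⟨⟨0, by rw [hN0, zero_mul, zero_smul]⟩, by rw [hN0, zero_mul], by rw [hN0, mul_zero]⟩
  obtain ⟨hψu, hφv⟩ := orth v ψ hψv hc hN0
  refine ⟨?_, by rw [vecMulVec_mul_vecMulVec, hψu, zero_smul, hz], by
    rw [vecMulVec_mul_vecMulVec, hφv, zero_smul, hz]⟩
  by_cases hk : ψ ⬝ᵥ v' = 0
  · exact ⟨0, by rw [vecMulVec_mul_vecMulVec, hk, zero_smul, hz, zero_smul]⟩
  by_cases hN0' : vecMulVec v' ψ' = 0
  · exact ⟨0, by rw [hN0', mul_zero, zero_smul]⟩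
  obtain ⟨hψ'u, hφv'⟩ := orth v' ψ' hψv' hc' hN0'
  obtain ⟨γ, hγ⟩ := TensorMax.exists_dot_one hφ
  have hφγ : φ ⬝ᵥ γ = 1 := by rw [dotProduct_comm]; exact hγ
  let L : (Fin 3 → F) →ₗ[F] (Fin 3 → F) :=
    (LinearMap.proj 0).smulRight u + (LinearMap.proj 1).smulRight v' + (LinearMap.proj 2).smulRight γ
  have hL : ∀ s : Fin 3 → F, L s = s 0 • u + s 1 • v' + s 2 • γ := fun s => rfl
  have hLs : Function.Surjective L := LinearMap.surjective_of_injective (LinearMap.ker_eq_bot.1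
    ((Submodule.eq_bot_iff _).2 fun s hs => by
      rw [LinearMap.mem_ker, hL] at hs
      have h1 : s 2 = 0 := by
        have h := congrArg (φ ⬝ᵥ ·) hs
        simpa [dotProduct_add, dotProduct_smul, hφu, hφv', hφγ] using h
      rw [h1, zero_smul, add_zero] at hs
      have h2 : s 1 = 0 := by
        have h := congrArg (ψ ⬝ᵥ ·) hs
        simpa [dotProduct_add, dotProduct_smul, hψu, hk] using h
      rw [h2, zero_smul, add_zero] at hs
      have h3 : s 0 = 0 := (smul_eq_zero.1 hs).resolve_right hu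
      funext l
      fin_cases l <;> simp [h1, h2, h3]))
  obtain ⟨s, hs⟩ := hLs v
  rw [hL] at hs
  have hs2 : s 2 = 0 := by
    have h := congrArg (φ ⬝ᵥ ·) hs
    simpa [dotProduct_add, dotProduct_smul, hφu, hφv', hφγ, hφv] using h
  rw [hs2, zero_smul, add_zero] at hs
  have hs1 : s 1 = 0 := by
    have h := congrArg (ψ ⬝ᵥ ·) hs
    simpa [dotProduct_add, dotProduct_smul, hψu, hψv, hk] using h
  rw [hs1, zero_smul, add_zero] at hs
  have hψ'φ : ψ' = (ψ' ⬝ᵥ γ) • φ := by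
    refine sub_eq_zero.1 (dotProduct_eq_zero _ fun y => ?_)
    obtain ⟨w, rfl⟩ := hLs y
    rw [hL, sub_dotProduct, smul_dotProduct]
    simp only [dotProduct_add, dotProduct_smul, hφu, hφv', hφγ, hψ'u, hψv', smul_eq_mul, mul_zero, zero_add, mul_one]
    ring
  refine ⟨(ψ ⬝ᵥ v') * (s 0 * (ψ' ⬝ᵥ γ)), ?_⟩
  rw [vecMulVec_mul_vecMulVec, vecMulVec_smul, ← hs, hψ'φ, smul_vecMulVec, vecMulVec_smul, smul_smul, smul_smul]
  congr 1
  rw [← hψ'φ]
  ring

/-- the square of a product of two involutions commuting with an elation -/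
theorem heis_sq {D N N' : Matrix (Fin 3) (Fin 3) F} (h2 : (2 : F) = 0) (hD : D * D = 0) (hD0 : D ≠ 0) (hN : N * N = 0)
    (hN' : N' * N' = 0) (hc : N * D = D * N) (hc' : N' * D = D * N') :
    ∃ c : F, (1 + N) * (1 + N') * ((1 + N) * (1 + N')) = 1 + c • D := by
  obtain ⟨⟨d, hd⟩, hND, hDN⟩ := mul_mem_line hD hD0 hN hN' hc hc'
  obtain ⟨⟨d', hd'⟩, hN'D, hDN'⟩ := mul_mem_line hD hD0 hN' hN hc' hc
  refine ⟨d + d', ?_⟩
  have h1 : (1 + N) * (1 + N') = 1 + (N + N' + d • D) := by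
    simp only [add_mul, mul_add, one_mul, mul_one, hd]; abel
  have h3 : (N + N' + d • D) * (N + N' + d • D) = (d + d') • D := by
    simp only [add_mul, mul_add, hN, hN', hd, hd', Matrix.mul_smul, Matrix.smul_mul, hND, hDN, hN'D, hDN', hD,
      smul_zero, add_zero, zero_add, add_smul]
    abel
  rw [h1, add_mul, one_mul, mul_add, mul_one, h3,
    show 1 + (N + N' + d • D) + ((N + N' + d • D) + (d + d') • D) =
      1 + (d + d') • D + (2 : F) • (N + N' + d • D) by rw [two_smul]; abel, h2, zero_smul, add_zero]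

/-- the second derived product of projective involutions commuting with an elation is scalar -/
theorem heis_scalar [Fintype F] {D : Matrix (Fin 3) (Fin 3) F} (h2 : (2 : F) = 0) (hD : D * D = 0) (hD0 : D ≠ 0)
    (B : Fin 3 → GL (Fin 3) F)
    (hsq : ∀ x, ∃ c : F, c ≠ 0 ∧ (B x : Matrix (Fin 3) (Fin 3) F) * (B x : Matrix (Fin 3) (Fin 3) F) = c • 1)
    (hcom : ∀ x, (B x : Matrix (Fin 3) (Fin 3) F) * D = D * (B x : Matrix (Fin 3) (Fin 3) F)) :
    ∃ c : F, ((B 0 * B 1 * (B 0 * B 1) * B 2 * (B 0 * B 1 * (B 0 * B 1) * B 2) : GL (Fin 3) F) :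
      Matrix (Fin 3) (Fin 3) F) = c • 1 := by
  have hB : ∀ x, ∃ (s : F) (N : Matrix (Fin 3) (Fin 3) F), s ≠ 0 ∧ N * N = 0 ∧ N * D = D * N ∧
      (B x : Matrix (Fin 3) (Fin 3) F) = s • (1 + N) := by
    intro x
    obtain ⟨c, hc0, hc⟩ := hsq x
    obtain ⟨s, A', hs, hA', hAB⟩ := exists_involutive h2 hc0 hc
    have e := congrArg Units.val hA'
    rw [Units.val_mul, Units.val_one] at e
    refine ⟨s, (A' : Matrix (Fin 3) (Fin 3) F) - 1, hs, ?_, ?_, by rw [add_sub_cancel, hAB]⟩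
    · rw [sub_mul, mul_sub, one_mul, mul_one, e, show (1 : Matrix (Fin 3) (Fin 3) F) - A' - (A' - 1) =
        (2 : F) • (1 - (A' : Matrix (Fin 3) (Fin 3) F)) by rw [two_smul]; abel, h2, zero_smul]
    · have h := hcom x
      rw [hAB, Matrix.smul_mul, Matrix.mul_smul] at h
      rw [sub_mul, mul_sub, one_mul, mul_one, smul_right_injective _ hs h]
  choose s N hs hNN hND hBN using hB
  obtain ⟨c, hc⟩ := heis_sq h2 hD hD0 (hNN 0) (hNN 1) (hND 0) (hND 1)
  obtain ⟨-, hN2D, hDN2⟩ := mul_mem_line hD hD0 (hNN 2) (hNN 2) (hND 2) (hND 2)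
  refine ⟨(s 0 * s 1 * (s 0 * s 1) * s 2) * (s 0 * s 1 * (s 0 * s 1) * s 2), ?_⟩
  simp only [Units.val_mul, hBN, Matrix.smul_mul, Matrix.mul_smul, smul_smul]
  rw [show (1 + N 0) * (1 + N 1) * ((1 + N 0) * (1 + N 1)) = 1 + c • D from hc]
  have h1 : (1 + c • D) * (1 + N 2) = 1 + (c • D + N 2) := by
    simp only [add_mul, mul_add, one_mul, mul_one, Matrix.smul_mul, hDN2, smul_zero, add_zero]; abel
  have h3 : (c • D + N 2) * (c • D + N 2) = 0 := by
    simp only [add_mul, mul_add, Matrix.smul_mul, Matrix.mul_smul, hD, hN2D, hDN2, hNN 2, smul_zero, add_zero]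
  rw [h1, show (1 + (c • D + N 2)) * (1 + (c • D + N 2)) = 1 by
    rw [add_mul, one_mul, mul_add, mul_one, h3, add_zero, add_assoc, ← two_smul F, h2, zero_smul, add_zero]]
  congr 1
  ring

/-! ### the roots of one factor -/

/-- an elementary root -/
def er (p q : Fin m) (h : p ≠ q) : GL (Fin m) F :=
  tv (Pi.single p 1) (Pi.single q 1) (by simp [dotProduct_single, h, h.symm])

theorem er_coe {p q : Fin m} (h : p ≠ q) :
    (er (F := F) p q h : Matrix (Fin m) (Fin m) F) = 1 + Matrix.single p q 1 := by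
  rw [er, tv_coe, single_eq_vecMulVec]

theorem er_det {p q : Fin m} (h : p ≠ q) : (er (F := F) p q h : Matrix (Fin m) (Fin m) F).det = 1 :=
  congrArg Units.val (tv_mem_SL _ _ _)

theorem er_sq (h2 : (2 : F) = 0) {p q : Fin m} (h : p ≠ q) : er (F := F) p q h * er p q h = 1 := tv_sq h2 _ _ _

theorem er_comm (h2 : (2 : F) = 0) {p q r : Fin m} (hpq : p ≠ q) (hqr : q ≠ r) (hpr : p ≠ r) :
    er (F := F) p q hpq * er q r hqr * (er p q hpq * er q r hqr) = er p r hpr := Units.ext (by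
  simp only [Units.val_mul, er_coe]
  have hs : ∀ a b c d : Fin m, b ≠ c → Matrix.single a b (1 : F) * Matrix.single c d 1 = 0 := fun a b c d h => by
    simp [h]
  have e1 := hs q r p q hpr.symm
  have e2 := hs p q p q hpq.symm
  have e3 := hs q r q r hqr.symm
  have e4 : Matrix.single p q (1 : F) * Matrix.single q r 1 = Matrix.single p r 1 := by
    rw [Matrix.single_mul_single_same, one_mul]
  have e5 := hs p q p r hpq.symm
  have e6 := hs q r p r hpr.symm
  have e7 := hs p r p q hpr.symm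
  have e8 := hs p r q r hqr.symm
  have e9 := hs p r p r hpr.symm
  have hz : ∀ X : Matrix (Fin m) (Fin m) F, X + X = 0 := fun X => by rw [← two_smul F, h2, zero_smul]
  simp only [mul_add, add_mul, one_mul, mul_one, e1, e2, e3, e4, e5, e6, e7, e8, e9, add_zero]
  calc _ = 1 + Matrix.single p r 1 + (Matrix.single p q 1 + Matrix.single p q 1) +
        (Matrix.single q r 1 + Matrix.single q r 1) + (Matrix.single p r 1 + Matrix.single p r 1 : Matrix (Fin m) (Fin m) F) := by abel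
    _ = _ := by rw [hz, hz, hz, add_zero, add_zero, add_zero])

theorem er_ne_smul {p q : Fin m} (h : p ≠ q) (c : F) : (er (F := F) p q h : Matrix (Fin m) (Fin m) F) ≠ c • 1 := fun e => by
  have := congrFun (congrFun e p) q
  rw [er_coe] at this
  simp [Matrix.one_apply_ne h] at this

/-! ### the class -/

variable [Fintype F] {M : Subgroup (GL (Fin t → Fin m) F)}

/-- no transposition of two factors among at least three is conjugate to a root -/
theorem Ctx.no_swap_three (h : Ctx M) (h2 : (2 : F) = 0) {r g : GL (Fin t → Fin m) F} (hr : IsRoot r) (hg : g ∈ M)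
    {a b : Fin t} (hab : a ≠ b) {A : Fin t → GL (Fin m) F} (hA : g * r * g⁻¹ = permGL (Equiv.swap a b) * pureGL A)
    {k : Fin t} (hka : k ≠ a) (hkb : k ≠ b) {c : F} (hk : (A k : Matrix (Fin m) (Fin m) F) = c • 1) : False := by
  classical
  have hm := h.three
  have hconj : ∀ x : GL (Fin m) F, (x : Matrix (Fin m) (Fin m) F).det = 1 → IsRoot (sl k x) →
      ∃ τ : Equiv.Perm (Fin t), HasPerm (g⁻¹ * sl k x * g) τ ∧ Equiv.Perm.sign τ = -1 := by
    intro x hx hxr
    have hcom : permGL (Equiv.swap a b) * pureGL A * sl k x = sl k x * (permGL (Equiv.swap a b) * pureGL A) := by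
      refine wreath_comm fun l => ?_
      rcases eq_or_ne l k with rfl | hl
      · rw [Equiv.swap_apply_of_ne_of_ne hka hkb, Pi.mulSingle_eq_same]
        exact Units.ext (by rw [Units.val_mul, Units.val_mul, hk, Matrix.smul_mul, Matrix.mul_smul, one_mul, mul_one])
      · have h1 : Equiv.swap a b l ≠ k := fun e => hl (by
          rw [← Equiv.swap_apply_of_ne_of_ne hka hkb] at e; exact (Equiv.swap a b).injective e)
        rw [Pi.mulSingle_eq_of_ne hl, Pi.mulSingle_eq_of_ne h1, one_mul, mul_one]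
    rw [← hA] at hcom
    have hc : g⁻¹ * sl k x * g * r = r * (g⁻¹ * sl k x * g) := by
      calc g⁻¹ * sl k x * g * r = g⁻¹ * (sl k x * (g * r * g⁻¹)) * g := by group
        _ = g⁻¹ * (g * r * g⁻¹ * sl k x) * g := by rw [hcom]
        _ = r * (g⁻¹ * sl k x * g) := by group
    have hmem : g⁻¹ * sl k x * g ∈ M := M.mul_mem (M.mul_mem (M.inv_mem hg) (h.base k x hx)) hg
    have htw := h.root_centraliser hr hmem hc
    obtain ⟨τ, B, hB⟩ := tw_shape htw
    refine ⟨τ, ⟨B, hB⟩, ?_⟩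
    rcases conj_root_cases hm (g := g⁻¹) hxr (by rw [inv_inv]; exact hB) with hroot | ⟨-, -, a', b', hab', hτ, -⟩
    · exfalso
      have hgw : g ∈ tensorWreathStandard m t F := by
        rw [← Subgroup.inv_mem_iff]
        exact h.fusion hxr (M.inv_mem hg) hroot
      have h1 : HasPerm (g * r * g⁻¹) (Equiv.swap a b) := ⟨A, hA⟩
      exact hab (Equiv.swap_eq_refl_iff.1 (h1.unique (by omega) (hr.conj_tw hgw).hasPerm))
    · rw [hτ]; exact Equiv.Perm.sign_swap hab'
  have h01 : (⟨0, by omega⟩ : Fin m) ≠ ⟨1, by omega⟩ := by simp [Fin.ext_iff]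
  have h12 : (⟨1, by omega⟩ : Fin m) ≠ ⟨2, by omega⟩ := by simp [Fin.ext_iff]
  have h02 : (⟨0, by omega⟩ : Fin m) ≠ ⟨2, by omega⟩ := by simp [Fin.ext_iff]
  obtain ⟨τ₁, hp₁, -⟩ := hconj _ (er_det h01) (isRoot_sl k _ (by simp) (by simp))
  obtain ⟨τ₂, hp₂, -⟩ := hconj _ (er_det h12) (isRoot_sl k _ (by simp) (by simp))
  obtain ⟨τ, hp, hs⟩ := hconj _ (er_det h02) (isRoot_sl k _ (by simp) (by simp))
  have hprod : g⁻¹ * sl k (er (F := F) _ _ h02) * g = g⁻¹ * sl k (er _ _ h01) * g * (g⁻¹ * sl k (er _ _ h12) * g) *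
      (g⁻¹ * sl k (er _ _ h01) * g * (g⁻¹ * sl k (er _ _ h12) * g)) := by
    rw [← er_comm h2 h01 h12 h02, ← sl_mul, ← sl_mul]
    group
  rw [hprod] at hp
  rw [HasPerm.unique (by omega) hp ((hp₁.mul hp₂).mul (hp₁.mul hp₂)), map_mul, Int.units_mul_self] at hs
  exact absurd hs (by decide)

/-- the transposition of two factors of dimension three is not conjugate to a root -/
theorem Ctx.no_swap_two {M : Subgroup (GL (Fin 2 → Fin 3) F)} (h : Ctx M) (h2 : (2 : F) = 0)
    {r g : GL (Fin 2 → Fin 3) F} (hr : IsRoot r) (hg : g ∈ M) {a b : Fin 2} (hab : a ≠ b)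
    {A : Fin 2 → GL (Fin 3) F} (hA : g * r * g⁻¹ = permGL (Equiv.swap a b) * pureGL A) {c : F} (hc0 : c ≠ 0)
    (hc : (A b : Matrix (Fin 3) (Fin 3) F) * (A a : Matrix (Fin 3) (Fin 3) F) = c • 1) : False := by
  classical
  obtain ⟨i, u, φ, hu, hφ, hφu, he⟩ := hr
  have hr : IsRoot r := ⟨i, u, φ, hu, hφ, hφu, he⟩
  have htwo : ∀ l, l = a ∨ l = b := by
    intro l
    clear * - hab
    revert hab
    revert a b l
    decide
  let Δ : GL (Fin 3) F → Fin 2 → GL (Fin 3) F := fun x l => if l = a then x else A a * x * (A a)⁻¹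
  have hΔmul : ∀ x y, Δ (x * y) = Δ x * Δ y := fun x y => funext fun l => by
    simp only [Δ, Pi.mul_apply]
    split_ifs <;> group
  let ψ : GL (Fin 3) F → GL (Fin 2 → Fin 3) F := fun x => g⁻¹ * pureGL (Δ x) * g
  have hψmul : ∀ x y, ψ (x * y) = ψ x * ψ y := fun x y => by
    simp only [ψ, hΔmul, ← pureGL_mul]; group
  have hψ1 : ψ 1 = 1 := by
    have : Δ 1 = 1 := funext fun l => by simp [Δ]
    simp [ψ, this, pureGL_one]
  have hψtw : ∀ x : GL (Fin 3) F, (x : Matrix (Fin 3) (Fin 3) F).det = 1 →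
      ψ x ∈ tensorWreathStandard 3 2 F ∧ ψ x * r = r * ψ x := by
    intro x hx
    have hcom : permGL (Equiv.swap a b) * pureGL A * pureGL (Δ x) =
        pureGL (Δ x) * (permGL (Equiv.swap a b) * pureGL A) := by
      refine wreath_comm fun l => ?_
      rcases htwo l with hl | hl <;> rw [hl]
      · simp [Δ, hab.symm]
      · simp only [Δ, Equiv.swap_apply_right, if_neg hab.symm, if_true]
        refine Units.ext ?_
        simp only [Units.val_mul, ← mul_assoc, hc]
        rw [Matrix.smul_mul, one_mul]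
        have hb : (A b : Matrix (Fin 3) (Fin 3) F) = c • (((A a)⁻¹ : GL (Fin 3) F) : Matrix (Fin 3) (Fin 3) F) := by
          rw [← mul_one (A b : Matrix (Fin 3) (Fin 3) F), ← gl_mul_inv (A a), ← mul_assoc, hc, Matrix.smul_mul, one_mul]
        rw [hb, Matrix.mul_smul, Matrix.smul_mul]
    rw [← hA] at hcom
    have hc' : ψ x * r = r * ψ x := by
      calc g⁻¹ * pureGL (Δ x) * g * r = g⁻¹ * (pureGL (Δ x) * (g * r * g⁻¹)) * g := by group
        _ = g⁻¹ * (g * r * g⁻¹ * pureGL (Δ x)) * g := by rw [hcom]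
        _ = r * (g⁻¹ * pureGL (Δ x) * g) := by group
    have hdet : pureGL (Δ x) ∈ M := h.base.pure_mem _ fun l => by
      simp only [Δ]
      split_ifs
      · exact hx
      · exact det_conj hx
    exact ⟨h.root_centraliser hr (M.mul_mem (M.mul_mem (M.inv_mem hg) hdet) hg) hc', hc'⟩
  have hcomm2 : ∀ σ τ : Equiv.Perm (Fin 2), σ * τ * (σ * τ) = 1 := by decide
  have hpure : ∀ p q (hpq : p ≠ q), ∃ B, ψ (er p q hpq) = pureGL B := by
    intro p q hpq
    obtain ⟨s, hsp, hsq⟩ : ∃ s : Fin 3, p ≠ s ∧ s ≠ q := by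
      revert hpq
      revert p q
      decide
    obtain ⟨σ, B, hB⟩ := tw_shape (hψtw _ (er_det hsp)).1
    obtain ⟨τ, B', hB'⟩ := tw_shape (hψtw _ (er_det hsq)).1
    have h1 : HasPerm (ψ (er p q hpq)) (σ * τ * (σ * τ)) := by
      rw [← er_comm h2 hsp hsq hpq, hψmul, hψmul]
      exact (HasPerm.mul ⟨B, hB⟩ ⟨B', hB'⟩).mul (HasPerm.mul ⟨B, hB⟩ ⟨B', hB'⟩)
    rw [hcomm2] at h1
    obtain ⟨B₀, hB₀⟩ := h1
    exact ⟨B₀, by rw [hB₀, permGL_one, one_mul]⟩
  have h02 : (0 : Fin 3) ≠ 2 := by decide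
  have h21 : (2 : Fin 3) ≠ 1 := by decide
  have h12 : (1 : Fin 3) ≠ 2 := by decide
  have h01 : (0 : Fin 3) ≠ 1 := by decide
  obtain ⟨B0, hB0⟩ := hpure 0 2 h02
  obtain ⟨B1, hB1⟩ := hpure 2 1 h21
  obtain ⟨B2, hB2⟩ := hpure 1 2 h12
  haveI : Nonempty (Fin 3) := ⟨0⟩
  set D := vecMulVec u φ with hDdef
  have hD : D * D = 0 := by
    rw [hDdef, vecMulVec_mul_vecMulVec, hφu, zero_smul]; ext; simp [vecMulVec_apply]
  have hBprop : ∀ (p q : Fin 3) (hpq : p ≠ q) (B : Fin 2 → GL (Fin 3) F), ψ (er p q hpq) = pureGL B →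
      (∃ c : F, c ≠ 0 ∧ (B i : Matrix (Fin 3) (Fin 3) F) * (B i : Matrix (Fin 3) (Fin 3) F) = c • 1) ∧
      (B i : Matrix (Fin 3) (Fin 3) F) * D = D * (B i : Matrix (Fin 3) (Fin 3) F) := by
    intro p q hpq B hB
    refine ⟨sq_scalar_of_pure_sq (by rw [← hB, ← hψmul, er_sq h2, hψ1]) i, ?_⟩
    have h1 := (hψtw _ (er_det hpq)).2
    rw [hB] at h1
    have h3 := congrArg Units.val h1
    rw [Units.val_mul, Units.val_mul, he, mul_add, add_mul, mul_one, one_mul, add_right_inj] at h3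
    have h4 : cj (pureGL B) (slot i D : Matrix (Fin 2 → Fin 3) (Fin 2 → Fin 3) F) = slot i D := cj_eq_self h3
    rw [cj_pureGL_slot] at h4
    have h5 := slot_injective i h4
    conv_rhs => rw [← h5]
    rw [cj, mul_assoc _ _ (B i : Matrix (Fin 3) (Fin 3) F), gl_inv_mul, mul_one]
  obtain ⟨c', hc'⟩ := heis_scalar h2 hD (vmv_ne_zero hu hφ) ![B0 i, B1 i, B2 i]
    (by intro x; fin_cases x
        exacts [(hBprop _ _ _ _ hB0).1, (hBprop _ _ _ _ hB1).1, (hBprop _ _ _ _ hB2).1])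
    (by intro x; fin_cases x
        exacts [(hBprop _ _ _ _ hB0).2, (hBprop _ _ _ _ hB1).2, (hBprop _ _ _ _ hB2).2])
  set B : Fin 2 → GL (Fin 3) F := B0 * B1 * (B0 * B1) * B2 * (B0 * B1 * (B0 * B1) * B2) with hBdef
  have ha0 : ψ (er 0 2 h02) = pureGL B := by
    rw [← er_comm h2 h01 h12 h02, ← er_comm h2 h02 h21 h01]
    simp only [hψmul, hB0, hB1, hB2, pureGL_mul, hBdef]
  have hBi : (B i : Matrix (Fin 3) (Fin 3) F) = c' • 1 := by rw [← hc']; rfl
  obtain ⟨j, hji⟩ : ∃ j : Fin 2, j ≠ i := by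
    clear * -
    revert i
    decide
  have hij : ∀ l, l = i ∨ l = j := by
    intro l
    clear * - hji
    revert hji
    revert i j l
    decide
  set Y := c' • (B j : Matrix (Fin 3) (Fin 3) F) with hY
  have hmat : (ψ (er 0 2 h02) : Matrix (Fin 2 → Fin 3) (Fin 2 → Fin 3) F) = slot j Y := by
    ext x y
    rw [ha0, pureGL_coe, slot_apply, pure_apply]
    have hsplit : ∀ f : Fin 2 → F, ∏ l, f l = f i * f j := fun f => by
      rw [← Finset.prod_pair hji.symm]
      refine (Finset.prod_congr (Finset.ext fun l => ?_) fun _ _ => rfl)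
      simpa using hij l
    rw [hsplit, hBi]
    by_cases hxy : x i = y i
    · rw [if_pos (fun k hk => by rw [(hij k).resolve_right hk]; exact hxy)]
      simp [hY, hxy, Matrix.one_apply]
    · rw [if_neg (fun hh => hxy (hh i hji.symm))]
      simp [Matrix.one_apply_ne hxy]
  have hYY : (Y - 1) * (Y - 1) = 0 := by
    have h1 : Y * Y = 1 := slot_injective j (by
      rw [← slot_mul, ← hmat, ← Units.val_mul, ← hψmul, er_sq h2, hψ1, Units.val_one, slot_one])
    rw [sub_mul, mul_sub, one_mul, mul_one, h1, show (1 : Matrix (Fin 3) (Fin 3) F) - Y - (Y - 1) =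
      (2 : F) • (1 - Y) by rw [two_smul]; abel, h2, zero_smul]
  obtain ⟨v, χ, hv, hχv⟩ := sq_zero_three hYY
  have hne : vecMulVec v χ ≠ 0 := fun e => by
    rw [e, sub_eq_zero] at hv
    have h1 : ψ (er 0 2 h02) = 1 := Units.ext (by rw [hmat, hv, slot_one, Units.val_one])
    have h3 : pureGL (Δ (er 0 2 h02)) = (1 : GL (Fin 2 → Fin 3) F) := by
      rw [show pureGL (Δ (er 0 2 h02)) = g * ψ (er 0 2 h02) * g⁻¹ by simp only [ψ]; group, h1]; group
    have h4 := congrArg Units.val (h3.trans pureGL_one.symm)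
    rw [pureGL_coe, pureGL_coe] at h4
    obtain ⟨d, -, hd⟩ := pure_prop h4 (fun l => gl_ne_zero _) (fun l => gl_ne_zero _) a
    simp only [Δ, if_true, Pi.one_apply, Units.val_one] at hd
    exact er_ne_smul h02 d hd
  have hroot : IsRoot (ψ (er 0 2 h02)) := ⟨j, v, χ, fun e => hne (by rw [e]; ext; simp [vecMulVec_apply]),
    fun e => hne (by rw [e]; ext; simp [vecMulVec_apply]), hχv, by
      rw [hmat, ← hv, slot_sub, slot_one, add_sub_cancel]⟩
  have hconj : g * ψ (er 0 2 h02) * g⁻¹ = permGL 1 * pureGL (Δ (er 0 2 h02)) := by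
    rw [permGL_one, one_mul]; simp only [ψ]; group
  rcases conj_root_cases le_rfl hroot hconj with hR | ⟨-, -, a', b', hab', h1, -⟩
  · rw [hconj, permGL_one, one_mul] at hR
    obtain ⟨k, u', φ', hφu', -, -, hk⟩ := hR.sl_form
    rw [sl_eq_pureGL] at hk
    have h4 := congrArg Units.val hk
    rw [pureGL_coe, pureGL_coe] at h4
    obtain ⟨l, hl⟩ : ∃ l : Fin 2, l ≠ k := by
      clear * -
      revert k
      decide
    obtain ⟨d, -, hd⟩ := pure_prop h4 (fun l => gl_ne_zero _) (fun l => gl_ne_zero _) l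
    rw [Pi.mulSingle_eq_of_ne hl, Units.val_one] at hd
    rcases htwo l with hla | hla <;> rw [hla] at hd
    · simp only [Δ, if_true] at hd
      exact er_ne_smul h02 d hd
    · simp only [Δ, if_neg hab.symm] at hd
      refine er_ne_smul h02 d ?_
      apply cj_injective (A a)
      rw [cj_coe, hd, cj_smul, cj_one]
  · exact hab' (Equiv.swap_eq_refl_iff.1 h1.symm)

/-- a conjugate of a root lying in the wreath subgroup is a root -/
theorem Ctx.class_two (h : Ctx M) (h2 : (2 : F) = 0) {r g : GL (Fin t → Fin m) F} (hr : IsRoot r) (hg : g ∈ M)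
    (hw : g * r * g⁻¹ ∈ tensorWreathStandard m t F) : IsRoot (g * r * g⁻¹) := by
  classical
  obtain ⟨σ, A, hA⟩ := tw_shape hw
  rcases conj_root_cases h.three hr hA with hR | ⟨-, hm3, a, b, hab, rfl, ⟨c, hc0, hc⟩, hsc⟩
  · exact hR
  exfalso
  by_cases hk : ∃ k, k ≠ a ∧ k ≠ b
  · obtain ⟨k, hka, hkb⟩ := hk
    obtain ⟨d, hd⟩ := hsc k hka hkb
    exact h.no_swap_three h2 hr hg hab hA hka hkb hd
  push Not at hk
  have ht : t = 2 := by
    have h1 : (Finset.univ : Finset (Fin t)) = {a, b} := (Finset.ext fun l => by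
      by_cases hla : l = a
      · simp [hla]
      · simp [hla, hk l hla])
    have h3 := congrArg Finset.card h1
    rw [Finset.card_pair hab, Finset.card_univ, Fintype.card_fin] at h3
    exact h3
  subst hm3 ht
  exact h.no_swap_two h2 hr hg hab hA hc0 hc

end CfsgLib.Perm.Trans.TensorPower
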