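import Cfsg.Agent.Lib.Perm.Trans.TensorPower.TwoClass

/-!
# Characteristic two: centralisers of involutive pure tensors
-/

set_option autoImplicit false
set_option linter.all false

namespace CfsgLib.Perm.Trans.TensorPower

open scoped Matrix
open Matrix Cfsg.Geo CfsgLib.Perm.Asch CfsgLib.Perm.Trans

variable {m t : ℕ} {F : Type*} [Field F]

local notation "Mat" => Matrix (Fin t → Fin m) (Fin t → Fin m) F

/-- a transvection of one factor -/
def IsTv (a : GL (Fin m) F) : Prop :=
  ∃ (u φ : Fin m → F) (h : φ ⬝ᵥ u = 0), u ≠ 0 ∧ φ ≠ 0 ∧ a = tv u φ h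

theorem IsTv.sq (h2 : (2 : F) = 0) {a : GL (Fin m) F} (ha : IsTv a) : a * a = 1 := by
  obtain ⟨u, φ, h, -, -, rfl⟩ := ha
  exact tv_sq h2 u φ h

theorem IsTv.ne_one {a : GL (Fin m) F} (ha : IsTv a) : a ≠ 1 := by
  obtain ⟨u, φ, h, hu, hφ, rfl⟩ := ha
  exact tv_ne_one h hu hφ

theorem IsTv.det {a : GL (Fin m) F} (ha : IsTv a) : (a : Matrix (Fin m) (Fin m) F).det = 1 := by
  obtain ⟨u, φ, h, -, -, rfl⟩ := ha
  exact congrArg Units.val (tv_mem_SL u φ h)

theorem IsTv.root (i : Fin t) {a : GL (Fin m) F} (ha : IsTv a) : IsRoot (sl i a) := by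
  obtain ⟨u, φ, h, hu, hφ, rfl⟩ := ha
  exact isRoot_sl i h hu hφ

theorem IsTv.rank {a : GL (Fin m) F} (ha : IsTv a) : ((a : Matrix (Fin m) (Fin m) F) - 1).rank = 1 := by
  obtain ⟨u, φ, h, hu, hφ, rfl⟩ := ha
  rw [tv_coe, add_sub_cancel_left]
  exact vmv_rank_one hu hφ

theorem IsTv.conj {a : GL (Fin m) F} (ha : IsTv a) (H : GL (Fin m) F) : IsTv (H * a * H⁻¹) := by
  obtain ⟨u, φ, h, hu, hφ, rfl⟩ := ha
  refine ⟨(H : Matrix (Fin m) (Fin m) F) *ᵥ u, φ ᵥ* ((H⁻¹ : GL (Fin m) F) : Matrix (Fin m) (Fin m) F),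
    by rw [dotProduct_mulVec, vecMul_vecMul, gl_inv_mul, vecMul_one, h], fun e => hu (gl_mulVec_eq_zero.1 e),
    fun e => hφ ?_, Units.ext ?_⟩
  · have := congrArg (· ᵥ* (H : Matrix (Fin m) (Fin m) F)) e
    simpa [vecMul_vecMul] using this
  · rw [tv_coe, ← cj_coe, tv_coe, cj_add, cj_one, cj, mul_vecMulVec, vecMulVec_mul]

theorem IsRoot.exists_tv {r : GL (Fin t → Fin m) F} (hr : IsRoot r) : ∃ i a, IsTv a ∧ r = sl i a := by
  obtain ⟨i, u, φ, h, hu, hφ, rfl⟩ := hr.sl_form
  exact ⟨i, _, ⟨u, φ, h, hu, hφ, rfl⟩, rfl⟩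

theorem IsRoot.sq (h2 : (2 : F) = 0) {r : GL (Fin t → Fin m) F} (hr : IsRoot r) : r * r = 1 := by
  obtain ⟨i, a, ha, rfl⟩ := hr.exists_tv
  rw [sl_mul, ha.sq h2, sl_one]

theorem neg_one_eq {ι : Type} [Fintype ι] [DecidableEq ι] (h2 : (2 : F) = 0) : (-1 : Matrix ι ι F) = 1 := by
  rw [neg_eq_iff_add_eq_zero, ← two_smul F, h2, zero_smul]

theorem pureGL_pow (A : Fin t → GL (Fin m) F) (n : ℕ) : pureGL A ^ n = pureGL (A ^ n) := by
  induction n with
  | zero => rw [pow_zero, pow_zero, pureGL_one]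
  | succ n ih => rw [pow_succ, pow_succ, ih, pureGL_mul]

theorem pure_sq_one {A : Fin t → GL (Fin m) F} (hA : ∀ l, A l * A l = 1) : pureGL A * pureGL A = 1 := by
  rw [pureGL_mul, show A * A = 1 from funext hA, pureGL_one]

/-- conjugation of one factor -/
theorem conj_sl (π : Equiv.Perm (Fin t)) (H : Fin t → GL (Fin m) F) (i : Fin t) (a : GL (Fin m) F) :
    permGL π * pureGL H * sl i a * (permGL π * pureGL H)⁻¹ = sl (π i) (H i * a * (H i)⁻¹) :=
  Units.ext (by rw [← cj_coe, sl_coe, sl_coe, cj_wreath_slot, cj_coe])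

/-- a wreath element commuting with an involutive pure tensor permutes its factors -/
theorem comm_pure (hm : 0 < m) (h2 : (2 : F) = 0) {A H : Fin t → GL (Fin m) F} {π : Equiv.Perm (Fin t)}
    (hA : ∀ l, A l * A l = 1) (h : permGL π * pureGL H * pureGL A = pureGL A * (permGL π * pureGL H)) (l : Fin t) :
    A (π l) = H l * A l * (H l)⁻¹ := by
  let B : Fin t → GL (Fin m) F := fun k => H (π.symm k) * A (π.symm k) * (H (π.symm k))⁻¹
  have hB : ∀ k, B k * B k = 1 := fun k => by
    show H (π.symm k) * A (π.symm k) * (H (π.symm k))⁻¹ * (H (π.symm k) * A (π.symm k) * (H (π.symm k))⁻¹) = 1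
    rw [show H (π.symm k) * A (π.symm k) * (H (π.symm k))⁻¹ * (H (π.symm k) * A (π.symm k) * (H (π.symm k))⁻¹) =
      H (π.symm k) * (A (π.symm k) * A (π.symm k)) * (H (π.symm k))⁻¹ by group, hA]
    group
  have h1 : permGL π * pureGL H * pureGL A = pureGL B * (permGL π * pureGL H) := by
    rw [← mul_assoc (pureGL B), pureGL_perm, mul_assoc, mul_assoc, pureGL_mul, pureGL_mul]
    congr 2
    funext k
    simp [B]
  have h3 := pureGL_inj hm h2 hB hA (mul_right_cancel (h1.symm.trans h)) (π l)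
  rw [← h3]
  simp [B]

theorem sl_ne {i k : Fin t} (hik : i ≠ k) {a b : GL (Fin m) F} (hm : 0 < m) (h2 : (2 : F) = 0) (ha : a * a = 1)
    (hb : b * b = 1) (ha1 : a ≠ 1) : sl i a ≠ sl k b := fun e => ha1 (by
  have hsq : ∀ {c : GL (Fin m) F} (p : Fin t), c * c = 1 → ∀ l, (Pi.mulSingle p c : Fin t → GL (Fin m) F) l *
      (Pi.mulSingle p c : Fin t → GL (Fin m) F) l = 1 := fun p hc l => by
    rcases eq_or_ne l p with rfl | hl
    · simpa using hc
    · simp [Pi.mulSingle_eq_of_ne hl]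
  have h1 := pureGL_inj hm h2 (hsq i ha) (hsq k hb) e i
  rwa [Pi.mulSingle_eq_same, Pi.mulSingle_eq_of_ne hik] at h1)

theorem sub_one_ne {a : GL (Fin m) F} (h : a ≠ 1) : ((a : Matrix (Fin m) (Fin m) F) - 1).rank ≠ 0 := fun e => by
  refine h (Units.ext (sub_eq_zero.1 ?_))
  have hbot : LinearMap.range ((a : Matrix (Fin m) (Fin m) F) - 1).mulVecLin = ⊥ := Submodule.finrank_eq_zero.1 e
  refine Matrix.ext_iff_mulVec.2 fun v => ?_
  rw [zero_mulVec]
  exact (Submodule.mem_bot F).1 (hbot ▸ LinearMap.mem_range_self ((a : Matrix (Fin m) (Fin m) F) - 1).mulVecLin v)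

variable [Fintype F] {M : Subgroup (GL (Fin t → Fin m) F)}

/-- a two-subgroup of `M` containing a root lies in the wreath subgroup -/
theorem Ctx.two_group_le (h : Ctx M) (h2 : (2 : F) = 0) {Q : Subgroup (GL (Fin t → Fin m) F)} (hQ : IsPGroup 2 Q)
    (hQM : Q ≤ M) {r : GL (Fin t → Fin m) F} (hr : IsRoot r) (hrQ : r ∈ Q) : Q ≤ tensorWreathStandard m t F :=
  haveI : Fact (Nat.Prime 2) := ⟨Nat.prime_two⟩
  h.p_group_le (fun r g hr hg hw => h.class_two h2 hr hg hw) hQ hQM hr hrQ

/-- the centraliser of a single involution -/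
theorem Ctx.single_two (h : Ctx M) (h2 : (2 : F) = 0) {g : GL (Fin t → Fin m) F} (hg : g ∈ M) {i : Fin t}
    {C : GL (Fin m) F} (hC : C * C = 1) (hC1 : C ≠ 1) (hc : g * sl i C = sl i C * g) :
    g ∈ tensorWreathStandard m t F := by
  have h1 : (C : Matrix (Fin m) (Fin m) F) ≠ 1 := fun e => hC1 (Units.ext e)
  exact h.single_centraliser hg (by rw [← Units.val_mul, hC, Units.val_one]) h1 (by rwa [neg_one_eq h2]) hc

/-- the dihedral argument -/
theorem Ctx.key (h : Ctx M) (h2 : (2 : F) = 0) {z x x'' : GL (Fin t → Fin m) F} (hz : z * z = 1) (hzM : z ∈ M)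
    (hztw : z ∈ tensorWreathStandard m t F) (hx : IsRoot x) (hx'' : IsRoot x'') (hzx : z * x = x * z)
    (hzx'' : z * x'' = x'' * z) (hnr : ¬ IsRoot (z * x''))
    (hcase : ∀ hh ∈ M, hh ∈ tensorWreathStandard m t F → hh * z = z * hh → hh * x * hh⁻¹ ≠ x'' ∧
      ∀ n : ℕ, (x'' * (hh * x * hh⁻¹)) ^ n * (x'' * (hh * x * hh⁻¹)) ^ n = 1 → (x'' * (hh * x * hh⁻¹)) ^ n ≠ 1 →
        ∀ e ∈ M, e * z = z * e → e * (x'' * (hh * x * hh⁻¹)) ^ n = (x'' * (hh * x * hh⁻¹)) ^ n * e →
          e ∈ tensorWreathStandard m t F)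
    {k : GL (Fin t → Fin m) F} (hk : k ∈ M) (hkz : k * z = z * k) : k ∈ tensorWreathStandard m t F := by
  suffices hy : k * x * k⁻¹ ∈ tensorWreathStandard m t F from h.fusion hx hk (h.class_two h2 hx hk hy)
  set y := k * x * k⁻¹ with hydef
  have hxx := hx.sq h2
  have hx''x'' := hx''.sq h2
  have hyy : y * y = 1 := by
    rw [hydef, show k * x * k⁻¹ * (k * x * k⁻¹) = k * (x * x) * k⁻¹ by group, hxx]; group
  have hyM : y ∈ M := M.mul_mem (M.mul_mem hk (hx.mem h)) (M.inv_mem hk)
  have hzy : z * y = y * z := by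
    have h1 : Commute z k := (show Commute k z from hkz).symm
    exact ((h1.mul_right hzx).mul_right h1.inv_right).eq
  set v := z * x'' with hv
  have hvv : v * v = 1 := by
    rw [hv, show z * x'' * (z * x'') = z * (x'' * z) * x'' by group, ← hzx'',
      show z * (z * x'') * x'' = z * z * (x'' * x'') by group, hz, hx''x'', one_mul]
  have hvM : v ∈ M := M.mul_mem hzM (hx''.mem h)
  have hvtw : v ∈ tensorWreathStandard m t F := mul_mem hztw hx''.mem_tw
  have hnc : ∀ g ∈ M, g * y * g⁻¹ ≠ v := fun g hg e => hnr (by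
    have e' : g * k * x * (g * k)⁻¹ = v := by rw [← e, hydef]; group
    rw [← e'] at hvtw ⊢
    exact h.class_two h2 hx (M.mul_mem hg hk) hvtw)
  obtain ⟨e, g0, c, he, hg0, hcM, hord, hconj, hwc, hinv, hcomm⟩ := dihedral_data M hvv hyy hvM hyM hnc
  have hzv : z * v = v * z := by rw [hv, mul_assoc z x'', ← hzx'', ← mul_assoc]
  obtain ⟨hzc, hzg0⟩ := hwc z hzv hzy
  set P := (Subgroup.zpowers g0 ⊔ Subgroup.zpowers v : Subgroup (GL (Fin t → Fin m) F)) with hPdef
  have hP : IsPGroup 2 P := dihedral_pgroup hvv hord hinv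
  have hPc : P ≤ Subgroup.centralizer {z} := by
    refine sup_le (Subgroup.zpowers_le.2 ?_) (Subgroup.zpowers_le.2 ?_) <;>
      rw [Subgroup.mem_centralizer_singleton_iff]
    · exact hzg0.symm
    · exact hzv.symm
  have hQ : IsPGroup 2 (P ⊔ Subgroup.zpowers z : Subgroup (GL (Fin t → Fin m) F)) := by
    refine IsPGroup.to_sup_of_normal_left' hP (isPGroup_zpowers (k := 1) (by rw [pow_one, pow_two]; exact hz)) ?_
    refine Subgroup.zpowers_le.2 (Subgroup.mem_normalizer_iff.2 fun a => ?_)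
    have hfix : ∀ b ∈ P, z * b * z⁻¹ = b := fun b hb => by
      rw [← Subgroup.mem_centralizer_singleton_iff.1 (hPc hb), mul_inv_cancel_right]
    refine ⟨fun ha => by rw [hfix a ha]; exact ha, fun ha => ?_⟩
    have h1 := hfix _ ha
    have : z * a * z⁻¹ = a := by
      calc z * a * z⁻¹ = z⁻¹ * (z * (z * a * z⁻¹) * z⁻¹) * z := by group
        _ = z⁻¹ * (z * a * z⁻¹) * z := by rw [h1]
        _ = a := by group
    rwa [this] at ha
  have hQM : P ⊔ Subgroup.zpowers z ≤ M := sup_le (sup_le (Subgroup.zpowers_le.2 hg0) (Subgroup.zpowers_le.2 hvM))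
    (Subgroup.zpowers_le.2 hzM)
  have hQtw := h.two_group_le h2 hQ hQM hx'' (by
    rw [show x'' = z * v by rw [hv, ← mul_assoc, hz, one_mul]]
    exact Subgroup.mul_mem _ (Subgroup.mem_sup_right (Subgroup.mem_zpowers z))
      (Subgroup.mem_sup_left (Subgroup.mem_sup_right (Subgroup.mem_zpowers v))))
  have hg0tw : g0 ∈ tensorWreathStandard m t F :=
    hQtw (Subgroup.mem_sup_left (Subgroup.mem_sup_left (Subgroup.mem_zpowers g0)))
  set hh := c⁻¹ * k with hhdef
  have hr : v * g0 = hh * x * hh⁻¹ := by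
    rw [hhdef, show c⁻¹ * k * x * (c⁻¹ * k)⁻¹ = c⁻¹ * y * c by rw [hydef]; group, ← hconj]; group
  have hhM : hh ∈ M := M.mul_mem (M.inv_mem hcM) hk
  have hrroot := h.class_two h2 hx hhM (hr ▸ mul_mem hvtw hg0tw)
  have hhz : hh * z = z * hh :=
    ((show Commute z c from hzc).inv_right.symm.mul_left (show Commute k z from hkz)).eq
  obtain ⟨hne, hC⟩ := hcase hh hhM (h.fusion hx hhM hrroot) hhz
  set r := hh * x * hh⁻¹ with hrdef
  set n := 2 ^ (e - 1) with hn
  have h1 : Commute z r := ((show Commute z hh from hhz.symm).mul_right hzx).mul_right (show Commute z hh from hhz.symm).inv_right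
  have hcm : Commute z (x'' * r) := (show Commute z x'' from hzx'').mul_right h1
  have hg0eq : g0 = z * (x'' * r) := by
    rw [← mul_assoc, ← hv, ← hr, ← mul_assoc, hvv, one_mul]
  have hpow : g0 ^ n = z ^ n * (x'' * r) ^ n := by rw [hg0eq, hcm.mul_pow]
  have hgn : g0 ^ n * g0 ^ n = 1 := by
    rw [← pow_add, hn, ← two_mul, ← pow_succ', Nat.sub_add_cancel he, ← hord, pow_orderOf_eq_one]
  have hgn1 : g0 ^ n ≠ 1 := fun hcon => by
    have := orderOf_dvd_of_pow_eq_one hcon
    rw [hord, hn, Nat.pow_dvd_pow_iff_le_right (by norm_num)] at this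
    omega
  have hzn : z ^ n * z ^ n = 1 := by rw [← (Commute.refl z).mul_pow, hz, one_pow]
  have hcsq : (x'' * r) ^ n * (x'' * r) ^ n = 1 := by
    rw [hpow, (hcm.pow_pow n n).symm.mul_mul_mul_comm, hzn, one_mul] at hgn
    exact hgn
  have hcne : (x'' * r) ^ n ≠ 1 := fun hcon => by
    rcases Nat.eq_or_lt_of_le he with he1 | he1
    · subst he1
      rw [hn, Nat.sub_self, pow_zero, pow_one] at hcon
      exact hne (by
        calc r = x'' * x'' * r := by rw [hx''x'', one_mul]
          _ = x'' * (x'' * r) := by rw [mul_assoc]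
          _ = x'' := by rw [hcon, mul_one])
    · refine hgn1 ?_
      rw [hpow, hcon, mul_one, hn, show e - 1 = (e - 2) + 1 by omega, pow_succ', pow_mul, pow_two, hz, one_pow]
  refine hC n hcsq hcne y hyM hzy.symm ?_
  have hyg : Commute y (g0 ^ n) := (show Commute (g0 ^ n) y from hcomm).symm
  have hyz : Commute y (z ^ n) := (show Commute y z from hzy.symm).pow_right n
  have := hyz.inv_right.mul_right hyg
  rw [hpow, inv_mul_cancel_left] at this
  exact this.eq

/-- the general argument, given the pairs of roots it needs -/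
theorem Ctx.gen_aux (h : Ctx M) (h2 : (2 : F) = 0) {A : Fin t → GL (Fin m) F} (hA : ∀ l, A l * A l = 1)
    (hzM : pureGL A ∈ M) {i j : Fin t} (hij : i ≠ j) {b'' b : GL (Fin m) F} (hb'' : IsTv b'') (hb : IsTv b)
    (hci : A i * b'' = b'' * A i) (hcj : A j * b = b * A j) (hne : A i * b'' ≠ 1)
    (hrk : (((A i * b'' : GL (Fin m) F) : Matrix (Fin m) (Fin m) F) - 1).rank ≠
      (((A j * b : GL (Fin m) F) : Matrix (Fin m) (Fin m) F) - 1).rank)
    (htwo : ∀ (π : Equiv.Perm (Fin t)) (H : Fin t → GL (Fin m) F), (∀ l, A (π l) = H l * A l * (H l)⁻¹) → π j ≠ i →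
      ∀ e ∈ M, e * pureGL A = pureGL A * e →
        e * (sl i b'' * sl (π j) (H j * b * (H j)⁻¹)) = sl i b'' * sl (π j) (H j * b * (H j)⁻¹) * e →
          e ∈ tensorWreathStandard m t F)
    {k : GL (Fin t → Fin m) F} (hk : k ∈ M) (hkz : k * pureGL A = pureGL A * k) : k ∈ tensorWreathStandard m t F := by
  classical
  have hm : 0 < m := by have := h.three; omega
  have hcomm : ∀ (l : Fin t) (a : GL (Fin m) F), A l * a = a * A l → pureGL A * sl l a = sl l a * pureGL A := by
    intro l a ha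
    rw [sl_eq_pureGL, pureGL_mul, pureGL_mul]
    congr 1
    funext p
    rcases eq_or_ne p l with rfl | hp
    · simpa using ha
    · simp [Pi.mulSingle_eq_of_ne hp]
  refine h.key h2 (pure_sq_one hA) hzM (pure_mem_tw A) (hb.root j) (hb''.root i) (hcomm j b hcj) (hcomm i b'' hci)
    ?_ ?_ hk hkz
  · intro hroot
    obtain ⟨l, C, hC, hl⟩ := hroot.exists_tv
    rw [pureGL_mul_sl] at hl
    have hi' : ∀ p, Function.update A i (A i * b'') p * Function.update A i (A i * b'') p = 1 := fun p => by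
      rcases eq_or_ne p i with rfl | hp
      · rw [Function.update_self]
        calc A p * b'' * (A p * b'') = A p * (b'' * A p) * b'' := by group
          _ = A p * (A p * b'') * b'' := by rw [hci]
          _ = (A p * A p) * (b'' * b'') := by group
          _ = 1 := by rw [hA, hb''.sq h2, one_mul]
      · rw [Function.update_of_ne hp]; exact hA p
    have hC' : ∀ p, (Pi.mulSingle l C : Fin t → GL (Fin m) F) p * (Pi.mulSingle l C : Fin t → GL (Fin m) F) p = 1 := fun p => by
      rcases eq_or_ne p l with rfl | hp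
      · simpa using hC.sq h2
      · simp [Pi.mulSingle_eq_of_ne hp]
    have he := pureGL_inj hm h2 hi' hC' hl
    have hli : i = l := by
      by_contra hil
      have h1 := he i
      rw [Function.update_self, Pi.mulSingle_eq_of_ne hil] at h1
      exact hne h1
    subst hli
    have h1 := he i
    have h3 := he j
    rw [Function.update_self, Pi.mulSingle_eq_same] at h1
    rw [Function.update_of_ne hij.symm, Pi.mulSingle_eq_of_ne hij.symm] at h3
    apply hrk
    rw [h1, h3, one_mul, hC.rank, hb.rank]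
  · intro hh hhM hhtw hhz
    obtain ⟨π, H, rfl⟩ := tw_shape hhtw
    have hπ := comm_pure hm h2 hA hhz
    rw [conj_sl]
    set b' := H j * b * (H j)⁻¹ with hb'
    have hb't : IsTv b' := hb.conj _
    have hrne : sl (π j) b' ≠ sl i b'' := by
      intro e
      by_cases hji : π j = i
      · rw [hji] at e
        have e' := sl_inj hm e
        apply hrk
        have h1 : A i * b'' = H j * (A j * b) * (H j)⁻¹ := by
          rw [← hji, hπ j, ← e', hb']; group
        rw [h1, ← cj_coe, ← cj_one (H j), ← cj_sub, rank_cj, cj_one]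
      · exact sl_ne hji hm h2 (hb't.sq h2) (hb''.sq h2) hb't.ne_one e
    refine ⟨hrne, fun n hsq hn e heM hez hec => ?_⟩
    by_cases hji : π j = i
    · rw [hji, sl_mul, ← sl_pow] at hsq hn hec
      rw [sl_mul, ← sl_one i] at hsq
      exact h.single_two h2 heM (sl_inj hm hsq) (fun e' => hn (by rw [e', sl_one])) hec
    · have hx2 : (sl i b'' * sl (π j) b') * (sl i b'' * sl (π j) b') = 1 := by
        calc sl i b'' * sl (π j) b' * (sl i b'' * sl (π j) b')
            = sl i b'' * (sl (π j) b' * sl i b'') * sl (π j) b' := by group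
          _ = sl i b'' * (sl i b'' * sl (π j) b') * sl (π j) b' := by rw [sl_comm hji]
          _ = (sl i b'' * sl i b'') * (sl (π j) b' * sl (π j) b') := by group
          _ = 1 := by rw [sl_mul, sl_mul, hb''.sq h2, hb't.sq h2, sl_one, sl_one, one_mul]
      rcases Nat.even_or_odd n with ⟨q, rfl⟩ | ⟨q, rfl⟩
      · exact absurd (by rw [← two_mul, pow_mul, pow_two, hx2, one_pow]) hn
      · rw [pow_succ, pow_mul, pow_two, hx2, one_pow, one_mul] at hec
        exact htwo π H hπ hji e heM hez hec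

/-- the centraliser of a product of roots in two factors -/
theorem Ctx.pair_two (h : Ctx M) (h2 : (2 : F) = 0) {i j : Fin t} (hij : i ≠ j) {a b : GL (Fin m) F} (ha : IsTv a)
    (hb : IsTv b) {k : GL (Fin t → Fin m) F} (hk : k ∈ M) (hkz : k * (sl i a * sl j b) = sl i a * sl j b * k) :
    k ∈ tensorWreathStandard m t F := by
  classical
  set A : Fin t → GL (Fin m) F := Pi.mulSingle i a * Pi.mulSingle j b with hAdef
  have hz : sl i a * sl j b = pureGL A := by rw [sl_eq_pureGL, sl_eq_pureGL, pureGL_mul]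
  have hAi : A i = a := by simp [hAdef, Pi.mulSingle_eq_of_ne hij]
  have hAj : A j = b := by simp [hAdef, Pi.mulSingle_eq_of_ne hij.symm]
  have hAo : ∀ l, l ≠ i → l ≠ j → A l = 1 := fun l hi hj => by
    simp [hAdef, Pi.mulSingle_eq_of_ne hi, Pi.mulSingle_eq_of_ne hj]
  have hA : ∀ l, A l * A l = 1 := fun l => by
    by_cases hi : l = i
    · rw [hi, hAi, ha.sq h2]
    · by_cases hj : l = j
      · rw [hj, hAj, hb.sq h2]
      · rw [hAo l hi hj, one_mul]
  obtain ⟨u, φ, hφu, hu, hφ, hcom, hne⟩ := exists_commuting_root h.three h2 (A := a) (ha.sq h2)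
  have hb'' : IsTv (tv u φ hφu) := ⟨u, φ, hφu, hu, hφ, rfl⟩
  rw [hz] at hkz
  refine h.gen_aux h2 hA (hz ▸ M.mul_mem (h.base i a ha.det) (h.base j b hb.det)) hij hb'' hb (by rw [hAi]; exact hcom)
    (by rw [hAj]) (by rw [hAi]; exact hne) ?_ ?_ hk hkz
  · rw [hAi, hAj, hb.sq h2, Units.val_one, sub_self, Matrix.rank_zero]
    exact sub_one_ne hne
  · intro π H hπ hji e heM hez hec
    have hj : π j = j := by
      by_contra hjj
      have h1 := hπ j
      rw [hAo _ hji hjj, hAj] at h1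
      exact (hb.conj (H j)).ne_one h1.symm
    have hb' : H j * b * (H j)⁻¹ = b := by
      have h1 := hπ j
      rwa [hj, hAj, eq_comm] at h1
    rw [hj, hb'] at hec
    have hzc : pureGL A * (sl i (tv u φ hφu) * sl j b) = sl i (a * tv u φ hφu) := by
      rw [← hz, ← sl_mul]
      calc sl i a * sl j b * (sl i (tv u φ hφu) * sl j b)
          = sl i a * (sl j b * sl i (tv u φ hφu)) * sl j b := by group
        _ = sl i a * (sl i (tv u φ hφu) * sl j b) * sl j b := by rw [sl_comm hij.symm]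
        _ = sl i a * sl i (tv u φ hφu) * (sl j b * sl j b) := by group
        _ = sl i a * sl i (tv u φ hφu) := by rw [sl_mul j, hb.sq h2, sl_one, mul_one]
    refine h.single_two h2 heM (i := i) (C := a * tv u φ hφu) ?_ hne ?_
    · calc a * tv u φ hφu * (a * tv u φ hφu) = a * (tv u φ hφu * a) * tv u φ hφu := by group
        _ = a * (a * tv u φ hφu) * tv u φ hφu := by rw [hcom]
        _ = (a * a) * (tv u φ hφu * tv u φ hφu) := by group
        _ = 1 := by rw [ha.sq h2, tv_sq h2, one_mul]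
    · rw [← hzc]
      exact ((show Commute e (pureGL A) from hez).mul_right hec).eq

/-- the centraliser of an involutive pure tensor with two suitable factors -/
theorem Ctx.gen_two (h : Ctx M) (h2 : (2 : F) = 0) {A : Fin t → GL (Fin m) F} (hA : ∀ l, A l * A l = 1)
    (hzM : pureGL A ∈ M) {i j : Fin t} (hij : i ≠ j) {b'' b : GL (Fin m) F} (hb'' : IsTv b'') (hb : IsTv b)
    (hci : A i * b'' = b'' * A i) (hcj : A j * b = b * A j) (hne : A i * b'' ≠ 1)
    (hrk : (((A i * b'' : GL (Fin m) F) : Matrix (Fin m) (Fin m) F) - 1).rank ≠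
      (((A j * b : GL (Fin m) F) : Matrix (Fin m) (Fin m) F) - 1).rank)
    {k : GL (Fin t → Fin m) F} (hk : k ∈ M) (hkz : k * pureGL A = pureGL A * k) : k ∈ tensorWreathStandard m t F :=
  h.gen_aux h2 hA hzM hij hb'' hb hci hcj hne hrk
    (fun π H hπ hji e heM _ hec => h.pair_two h2 (Ne.symm hji) hb'' (hb.conj _) heM hec) hk hkz

end CfsgLib.Perm.Trans.TensorPower
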