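import Cfsg.Agent.Lib.Perm.Trans.TensorPower.TwoPV

/-!
# Characteristic two: the overgroup lies in the wreath subgroup
-/

set_option autoImplicit false
set_option linter.all false

namespace CfsgLib.Perm.Trans.TensorPower

open scoped Matrix
open Matrix Cfsg.Geo CfsgLib.Perm.Asch CfsgLib.Perm.Trans

variable {m t : ℕ} {F : Type*} [Field F] [Fintype F]

local notation "Mat" => Matrix (Fin t → Fin m) (Fin t → Fin m) F

variable {M : Subgroup (GL (Fin t → Fin m) F)}

/-- the involution attached to a root of one factor and the chosen element has centraliser in the wreath subgroup -/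
theorem Ctx.twist_centraliser (h : Ctx M) (h2 : (2 : F) = 0) (ht : 2 ≤ t) {k : Fin t} {b' : GL (Fin m) F}
    (hb' : IsTv b') (hc : vc h.three h2 k * b' = b' * vc h.three h2 k) {y : GL (Fin t → Fin m) F} (hy : y ∈ M)
    (hyz : y * (pureGL (fun l => vc h.three h2 l) * sl k b') = pureGL (fun l => vc h.three h2 l) * sl k b' * y) :
    y ∈ tensorWreathStandard m t F := by
  classical
  have hm := h.three
  set A := Function.update (fun l => vc hm h2 l) k (vc hm h2 k * b') with hAdef
  rw [pureGL_mul_sl] at hyz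
  have hA : ∀ l, A l * A l = 1 := fun l => by
    rcases eq_or_ne l k with rfl | hl
    · rw [hAdef, Function.update_self, show vc hm h2 l * b' * (vc hm h2 l * b') = vc hm h2 l * (b' * vc hm h2 l) * b' by
        group, ← hc, show vc hm h2 l * (vc hm h2 l * b') * b' = vc hm h2 l * vc hm h2 l * (b' * b') by group, vc_sq,
        hb'.sq h2, one_mul]
    · rw [hAdef, Function.update_of_ne hl]; exact vc_sq hm h2 l
  have hAM : pureGL A ∈ M := h.base.pure_mem A fun l => by
    rcases eq_or_ne l k with rfl | hl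
    · rw [hAdef, Function.update_self, Units.val_mul, Matrix.det_mul, vc_det, hb'.det, mul_one]
    · rw [hAdef, Function.update_of_ne hl]; exact vc_det hm h2 l
  by_cases hex : ∃ j : Fin t, j ≠ k ∧ ¬(m = 4 ∧ j.1 + 1 = t)
  · obtain ⟨j, hjk, hj⟩ := hex
    haveI : Nontrivial (Fin t) := Fin.nontrivial_iff_two_le.2 ht
    obtain ⟨i, hij⟩ := exists_ne j
    obtain ⟨u, φ, hφu, hu, hφ, hcom, hne⟩ := exists_commuting_root hm h2 (hA i)
    have hAj : A j = vc hm h2 j := by rw [hAdef, Function.update_of_ne hjk]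
    refine h.gen_two h2 hA hAM hij ⟨u, φ, hφu, hu, hφ, rfl⟩ (vc_tv hm h2 hj) hcom (by rw [hAj]) hne ?_ hy hyz
    rw [hAj, vc_sq, Units.val_one, sub_self, Matrix.rank_zero]
    exact sub_one_ne hne
  · push Not at hex
    let j : Fin t := if k.1 = 0 then ⟨1, by omega⟩ else ⟨0, by omega⟩
    have hjk : j ≠ k := by
      simp only [j]
      split_ifs with h0 <;> simp [Fin.ext_iff] <;> omega
    obtain ⟨hm4, hj⟩ := hex j hjk
    have hk : ¬(m = 4 ∧ k.1 + 1 = t) := by
      rintro ⟨-, hk⟩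
      exact hjk (Fin.ext (by omega))
    subst hm4
    have hu : (Pi.single 0 1 + Pi.single 1 1 : Fin 4 → F) ≠ 0 := fun e => by
      have := congrFun e 0
      simp [Pi.single_apply] at this
    have hφ : (Pi.single 2 1 + Pi.single 3 1 : Fin 4 → F) ≠ 0 := fun e => by
      have := congrFun e 2
      simp [Pi.single_apply] at this
    have hφu : (Pi.single 2 1 + Pi.single 3 1 : Fin 4 → F) ⬝ᵥ (Pi.single 0 1 + Pi.single 1 1) = 0 := by
      simp [dotProduct_add, add_dotProduct, Pi.single_apply]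
    set b := tv (Pi.single 0 1 + Pi.single 1 1 : Fin 4 → F) (Pi.single 2 1 + Pi.single 3 1) hφu with hbdef
    have hAj : A j = dsw h2 (le_refl 4) := by
      rw [hAdef, Function.update_of_ne hjk, vc, dif_pos ⟨rfl, hj⟩]
    have h11 : (1 : F) + 1 = 0 := by rw [one_add_one_eq_two, h2]
    set Q : Matrix (Fin 4) (Fin 4) F := !![0, 1, 0, 0; 1, 0, 0, 0; 0, 0, 0, 1; 0, 0, 1, 0] with hQdef
    set N : Matrix (Fin 4) (Fin 4) F := !![0, 0, 1, 1; 0, 0, 1, 1; 0, 0, 0, 0; 0, 0, 0, 0] with hNdef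
    have hQ : (A j : Matrix (Fin 4) (Fin 4) F) = Q := by
      rw [hAj, dsw, Units.val_mul, sw_coe, sw_coe, pm_mul, hQdef]
      rw [show ((Equiv.swap (⟨2, by omega⟩ : Fin 4) ⟨3, by omega⟩ : Fin 4 → Fin 4) ∘
        (Equiv.swap (⟨0, by omega⟩ : Fin 4) ⟨1, by omega⟩ : Fin 4 → Fin 4)) = ![1, 0, 3, 2] from by
          funext x; fin_cases x <;> rfl]
      ext x y
      fin_cases x <;> fin_cases y <;> simp [pm]
    have hb : (b : Matrix (Fin 4) (Fin 4) F) = 1 + N := by
      rw [hbdef, tv_coe, hNdef]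
      congr 1
      ext x y
      fin_cases x <;> fin_cases y <;> simp [vecMulVec_apply, Pi.single_apply, Fin.ext_iff]
    have hQN : Q * N = N := by
      rw [hQdef, hNdef]
      ext x y
      fin_cases x <;> fin_cases y <;> simp [Matrix.mul_apply, Fin.sum_univ_four]
    have hNQ : N * Q = N := by
      rw [hQdef, hNdef]
      ext x y
      fin_cases x <;> fin_cases y <;> simp [Matrix.mul_apply, Fin.sum_univ_four]
    have hQb : ((A j * b : GL (Fin 4) F) : Matrix (Fin 4) (Fin 4) F) =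
        !![0, 1, 1, 1; 1, 0, 1, 1; 0, 0, 0, 1; 0, 0, 1, 0] := by
      rw [Units.val_mul, hQ, hb, mul_add, mul_one, hQN, hQdef, hNdef]
      ext x y
      fin_cases x <;> fin_cases y <;> simp
    have hbQ : ((b * A j : GL (Fin 4) F) : Matrix (Fin 4) (Fin 4) F) =
        !![0, 1, 1, 1; 1, 0, 1, 1; 0, 0, 0, 1; 0, 0, 1, 0] := by
      rw [Units.val_mul, hQ, hb, add_mul, one_mul, hNQ, hQdef, hNdef]
      ext x y
      fin_cases x <;> fin_cases y <;> simp
    have hAk : A k = vc hm h2 k * b' := by rw [hAdef, Function.update_self]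
    have hprod : A k * vc hm h2 k = b' := by
      rw [hAk, mul_assoc, ← hc, ← mul_assoc, vc_sq, one_mul]
    refine h.gen_two h2 hA hAM (i := k) (j := j) hjk.symm (vc_tv hm h2 hk) ⟨_, _, hφu, hu, hφ, rfl⟩
      (by rw [hprod, hAk, ← mul_assoc, vc_sq, one_mul]) (Units.ext (hQb.trans hbQ.symm))
      (by rw [hprod]; exact hb'.ne_one) ?_ hy hyz
    rw [hprod, hb'.rank, hQb]
    intro hr
    have h1 := Matrix.rank_submatrix_le ((!![0, 1, 1, 1; 1, 0, 1, 1; 0, 0, 0, 1; 0, 0, 1, 0] :
      Matrix (Fin 4) (Fin 4) F) - 1) ![0, 2] ![0, 2]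
    have h3 : (((!![0, 1, 1, 1; 1, 0, 1, 1; 0, 0, 0, 1; 0, 0, 1, 0] :
      Matrix (Fin 4) (Fin 4) F) - 1).submatrix ![0, 2] ![0, 2]).rank = 2 := by
      rw [Matrix.rank_of_isUnit _ ((Matrix.isUnit_iff_isUnit_det _).2 ?_), Fintype.card_fin]
      rw [Matrix.det_fin_two]
      simp [Matrix.one_apply]
    omega

/-- characteristic two: the overgroup lies in the wreath subgroup -/
theorem Ctx.main_two (h : Ctx M) (h2 : (2 : F) = 0) (ht : 2 ≤ t) : M ≤ tensorWreathStandard m t F := by
  classical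
  intro g hg
  have hm := h.three
  have h01 : (⟨0, by omega⟩ : Fin m) ≠ ⟨1, by omega⟩ := by simp [Fin.ext_iff]
  set r : GL (Fin t → Fin m) F := sl ⟨0, by omega⟩ (er ⟨0, by omega⟩ ⟨1, by omega⟩ h01) with hrdef
  have hr : IsRoot r := isRoot_sl _ _ (by simp) (by simp)
  suffices hy : g * r * g⁻¹ ∈ tensorWreathStandard m t F from h.fusion hr hg (h.class_two h2 hr hg hy)
  by_contra hy
  set y := g * r * g⁻¹ with hydef
  have hyM : y ∈ M := M.mul_mem (M.mul_mem hg (hr.mem h)) (M.inv_mem hg)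
  have hyy : y * y = 1 := by
    rw [hydef, show g * r * g⁻¹ * (g * r * g⁻¹) = g * (r * r) * g⁻¹ by group, hr.sq h2]; group
  set v : GL (Fin t → Fin m) F := pureGL (fun l => vc hm h2 l) with hv
  have hvv : v * v = 1 := pure_sq_one fun l => vc_sq hm h2 l
  have hvM : v ∈ M := h.base.pure_mem _ fun l => vc_det hm h2 l
  have hvtw : v ∈ tensorWreathStandard m t F := pure_mem_tw _
  have hnr : ¬ IsRoot v := fun hroot => by
    obtain ⟨l, C, hC, hl⟩ := hroot.exists_tv
    rw [hv, sl_eq_pureGL] at hl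
    haveI : Nontrivial (Fin t) := Fin.nontrivial_iff_two_le.2 ht
    obtain ⟨p, hp⟩ := exists_ne l
    have := pureGL_inj (by omega) h2 (fun q => vc_sq hm h2 q) (fun q => by
      rcases eq_or_ne q l with rfl | hq
      · simpa using hC.sq h2
      · simp [Pi.mulSingle_eq_of_ne hq]) hl p
    rw [Pi.mulSingle_eq_of_ne hp] at this
    exact vc_ne_one hm h2 p this
  have hnc : ∀ a ∈ M, a * y * a⁻¹ ≠ v := fun a ha e => hnr (by
    have e' : a * g * r * (a * g)⁻¹ = v := by rw [← e, hydef]; group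
    rw [← e'] at hvtw ⊢
    exact h.class_two h2 hr (M.mul_mem ha hg) hvtw)
  obtain ⟨e, g0, c, he, hg0, hcM, hord, hconj, -, hinv, hcomm⟩ := dihedral_data M hvv hyy hvM hyM hnc
  have hP := h.pv_le hm h2 ht (dihedral_pgroup hvv hord hinv)
    (sup_le (Subgroup.zpowers_le.2 hg0) (Subgroup.zpowers_le.2 hvM))
    (Subgroup.mem_sup_right (Subgroup.mem_zpowers v))
  have hg0tw : g0 ∈ tensorWreathStandard m t F := hP (Subgroup.mem_sup_left (Subgroup.mem_zpowers g0))
  have hr' : v * g0 = c⁻¹ * g * r * (c⁻¹ * g)⁻¹ := by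
    rw [show c⁻¹ * g * r * (c⁻¹ * g)⁻¹ = c⁻¹ * y * c by rw [hydef]; group, ← hconj]; group
  have hroot : IsRoot (v * g0) := by
    have hmem : v * g0 ∈ tensorWreathStandard m t F := mul_mem hvtw hg0tw
    rw [hr'] at hmem ⊢
    exact h.class_two h2 hr (M.mul_mem (M.inv_mem hcM) hg) hmem
  obtain ⟨k, b', hb', hk⟩ := hroot.exists_tv
  have hg0eq : g0 = v * sl k b' := by rw [← hk, ← mul_assoc, hvv, one_mul]
  set n := 2 ^ (e - 1) with hn
  have hgn : g0 ^ n * g0 ^ n = 1 := by
    rw [← pow_add, hn, ← two_mul, ← pow_succ', Nat.sub_add_cancel he, ← hord, pow_orderOf_eq_one]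
  have hgn1 : g0 ^ n ≠ 1 := fun hcon => by
    have := orderOf_dvd_of_pow_eq_one hcon
    rw [hord, hn, Nat.pow_dvd_pow_iff_le_right (by norm_num)] at this
    omega
  rcases Nat.eq_or_lt_of_le he with he1 | he1
  · subst he1
    rw [hn, Nat.sub_self, pow_zero, pow_one] at hgn
    rw [hn, Nat.sub_self, pow_zero, pow_one] at hcomm
    refine hy (h.twist_centraliser h2 ht (k := k) hb' ?_ hyM ?_)
    · have hvr : v * sl k b' = sl k b' * v := by
        have h3 : (v * sl k b') * (v * sl k b') = 1 := by rw [← hg0eq]; exact hgn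
        have hb2 : sl (F := F) k b' * sl k b' = 1 := by rw [sl_mul, hb'.sq h2, sl_one]
        calc v * sl k b' = v * sl k b' * (v * sl k b') * (v * sl k b')⁻¹ := by group
          _ = (sl k b')⁻¹ * v⁻¹ := by rw [h3, one_mul, _root_.mul_inv_rev]
          _ = sl k b' * v := by rw [inv_eq_of_mul_eq_one_right hb2, inv_eq_of_mul_eq_one_right hvv]
      have h4 : sl (F := F) k (vc hm h2 k * b' * (vc hm h2 k)⁻¹) = sl k b' := by
        have h5 := conj_sl (1 : Equiv.Perm (Fin t)) (fun l => vc hm h2 l) k b'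
        rw [permGL_one, one_mul, Equiv.Perm.one_apply, ← hv, hvr, mul_inv_cancel_right] at h5
        exact h5.symm
      have h6 := sl_inj (by omega) h4
      conv_rhs => rw [← h6]
      rw [inv_mul_cancel_right]
    · rw [← hv, ← hg0eq]; exact hcomm.symm
  · have hpow : g0 ^ n = sl k ((vc hm h2 k * b') ^ n) := by
      rw [hg0eq, hv, pureGL_mul_sl, pureGL_pow, sl_eq_pureGL]
      congr 1
      funext l
      rcases eq_or_ne l k with rfl | hl
      · simp
      · rw [Pi.pow_apply, Function.update_of_ne hl, Pi.mulSingle_eq_of_ne hl, hn,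
          show e - 1 = (e - 2) + 1 by omega, pow_succ', pow_mul, pow_two, vc_sq, one_pow]
    rw [hpow, sl_mul, ← sl_one k] at hgn
    rw [hpow] at hgn1
    refine hy (h.single_two h2 hyM (i := k) (sl_inj (by omega) hgn) (fun e' => hgn1 (by rw [e', sl_one])) ?_)
    rw [← hpow]
    exact hcomm.symm

end CfsgLib.Perm.Trans.TensorPower
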