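import Cfsg.Agent.Lib.Perm.Trans.TensorPower.TwoInv

/-!
# Characteristic two: a permutation involution of all factors
-/

set_option autoImplicit false
set_option linter.all false

namespace CfsgLib.Perm.Trans.TensorPower

open scoped Matrix
open Matrix Cfsg.Geo CfsgLib.Perm.Asch CfsgLib.Perm.Trans

variable {m t : ℕ} {F : Type*} [Field F]

local notation "Mat" => Matrix (Fin t → Fin m) (Fin t → Fin m) F

/-- the matrix of a permutation of coordinates -/
def pm {ι : Type} [Fintype ι] [DecidableEq ι] (f : ι → ι) : Matrix ι ι F :=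
  Matrix.of fun x y => if y = f x then (1 : F) else 0

theorem pm_mul {ι : Type} [Fintype ι] [DecidableEq ι] (f g : ι → ι) : pm (F := F) f * pm g = pm (g ∘ f) := by
  ext x y
  rw [Matrix.mul_apply, Finset.sum_eq_single (f x)]
  · simp [pm]
  · intro z _ hz; simp [pm, hz]
  · simp

/-- the transposition of two coordinates, as a transvection -/
def sw (h2 : (2 : F) = 0) (a b : Fin m) (hab : a ≠ b) : GL (Fin m) F :=
  tv (Pi.single a 1 + Pi.single b 1) (Pi.single a 1 + Pi.single b 1) (by
    simp [dotProduct_add, add_dotProduct, hab, hab.symm]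
    rw [one_add_one_eq_two, h2])

theorem sw_tv (h2 : (2 : F) = 0) {a b : Fin m} (hab : a ≠ b) : IsTv (sw h2 a b hab) := by
  refine ⟨_, _, _, fun e => ?_, fun e => ?_, rfl⟩ <;>
  · have := congrFun e a
    simp [Pi.single_apply, hab] at this

theorem sw_coe (h2 : (2 : F) = 0) {a b : Fin m} (hab : a ≠ b) :
    (sw h2 a b hab : Matrix (Fin m) (Fin m) F) = pm (Equiv.swap a b) := by
  have h11 : (1 : F) + 1 = 0 := by rw [one_add_one_eq_two, h2]
  ext x y
  rw [sw, tv_coe, Matrix.add_apply, Matrix.one_apply, vecMulVec_apply, pm, Matrix.of_apply]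
  rcases eq_or_ne x a with rfl | hxa
  · rcases eq_or_ne y x with rfl | hya
    · simp [Pi.single_apply, hab, h11]
    · rcases eq_or_ne y b with rfl | hyb
      · simp [Pi.single_apply, hab, hab.symm]
      · simp [Pi.single_apply, hab, hya, hyb, Ne.symm hya]
  · rcases eq_or_ne x b with rfl | hxb
    · rcases eq_or_ne y a with rfl | hya
      · simp [Pi.single_apply, hab, hab.symm]
      · rcases eq_or_ne y x with rfl | hyb
        · simp [Pi.single_apply, hab, hab.symm, h11]
        · simp [Pi.single_apply, hab, hxa, hya, hyb, Ne.symm hyb]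
    · simp [Pi.single_apply, hxa, hxb, Equiv.swap_apply_of_ne_of_ne hxa hxb, eq_comm]

/-- the involution of the last factor in dimension four -/
def dsw (h2 : (2 : F) = 0) (h4 : 4 ≤ m) : GL (Fin m) F :=
  sw h2 ⟨0, by omega⟩ ⟨1, by omega⟩ (by simp [Fin.ext_iff]) *
    sw h2 ⟨2, by omega⟩ ⟨3, by omega⟩ (by simp [Fin.ext_iff])

/-- the chosen involution of the `l`-th factor -/
def vc (hm : 3 ≤ m) (h2 : (2 : F) = 0) (l : Fin t) : GL (Fin m) F :=
  if h : m = 4 ∧ l.1 + 1 = t then dsw h2 (by omega) else sw h2 ⟨0, by omega⟩ ⟨1, by omega⟩ (by simp [Fin.ext_iff])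

/-- its permutation -/
def vs (hm : 3 ≤ m) (l : Fin t) : Fin m → Fin m :=
  if h : m = 4 ∧ l.1 + 1 = t then fun x => Equiv.swap (⟨2, by omega⟩ : Fin m) ⟨3, by omega⟩
    (Equiv.swap (⟨0, by omega⟩ : Fin m) ⟨1, by omega⟩ x)
  else Equiv.swap (⟨0, by omega⟩ : Fin m) ⟨1, by omega⟩

variable (hm : 3 ≤ m) (h2 : (2 : F) = 0)

theorem vc_coe (l : Fin t) : (vc hm h2 l : Matrix (Fin m) (Fin m) F) = pm (vs hm l) := by
  unfold vc vs
  split_ifs with h
  · rw [dsw, Units.val_mul, sw_coe, sw_coe, pm_mul]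
    rfl
  · exact sw_coe h2 _

theorem vc_tv {l : Fin t} (h : ¬(m = 4 ∧ l.1 + 1 = t)) : IsTv (vc hm h2 l) := by
  rw [vc, dif_neg h]
  exact sw_tv h2 _

theorem vs_invol (l : Fin t) (x : Fin m) : vs hm l (vs hm l x) = x := by
  unfold vs
  split_ifs with h
  · obtain ⟨rfl, -⟩ := h
    fin_cases x <;> simp [Equiv.swap_apply_def, Fin.ext_iff]
  · exact Equiv.swap_apply_self _ _ x

theorem vc_sq (l : Fin t) : vc hm h2 l * vc hm h2 l = 1 := Units.ext (by
  rw [Units.val_mul, vc_coe, pm_mul, Units.val_one]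
  ext x y
  simp [pm, Matrix.one_apply, vs_invol, eq_comm])

theorem vc_det (l : Fin t) : (vc hm h2 l : Matrix (Fin m) (Fin m) F).det = 1 := by
  unfold vc
  split_ifs with h
  · rw [dsw, Units.val_mul, Matrix.det_mul, (sw_tv h2 _).det, (sw_tv h2 _).det, mul_one]
  · exact (sw_tv h2 _).det

theorem vc_ne_one (l : Fin t) : vc hm h2 l ≠ 1 := fun e => by
  have h0 : (vc hm h2 l : Matrix (Fin m) (Fin m) F) = 1 := by rw [e, Units.val_one]
  have hs : vs hm l ⟨0, by omega⟩ = ⟨1, by omega⟩ := by
    unfold vs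
    split_ifs with h <;> simp [Equiv.swap_apply_def, Fin.ext_iff]
  have h1 := congrFun (congrFun h0 ⟨0, by omega⟩) ⟨1, by omega⟩
  rw [vc_coe, pm, Matrix.of_apply, hs, if_pos rfl, Matrix.one_apply_ne (by simp [Fin.ext_iff])] at h1
  exact one_ne_zero h1

/-- the coordinate permutation of the chosen element -/
theorem pure_vc :
    ((pureGL (fun l => vc hm h2 l) : GL (Fin t → Fin m) F) : Mat) = pm (fun x l => vs hm l (x l)) := by
  ext x y
  rw [pureGL_coe, pure_apply]
  simp only [vc_coe, pm, Matrix.of_apply, Finset.prod_boole, funext_iff]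
  simp

/-- twice the rank plus the number of fixed points -/
theorem vc_rank : ∃ N : ℕ, 2 * (((pureGL (fun l => vc hm h2 l) : GL (Fin t → Fin m) F) : Mat) - 1).rank + N = m ^ t ∧
    (m = 3 → N = 1) ∧ (m = 4 → 0 < t → N = 0) ∧ (5 ≤ m → N = (m - 2) ^ t) := by
  classical
  refine ⟨(Finset.univ.filter fun x : Fin t → Fin m => (fun l => vs hm l (x l)) = x).card, ?_, ?_⟩
  · rw [pure_vc]
    have := rank_perm_involution (F := F) h2 (fun (x : Fin t → Fin m) l => vs hm l (x l))
      (fun x => funext fun l => vs_invol hm l (x l))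
    rwa [Fintype.card_fun, Fintype.card_fin, Fintype.card_fin] at this
  have hset : (Finset.univ.filter fun x : Fin t → Fin m => (fun l => vs hm l (x l)) = x) =
      Fintype.piFinset fun l => Finset.univ.filter fun a => vs hm l a = a := by
    ext x
    simp [funext_iff]
  rw [hset, Fintype.card_piFinset]
  have hlow : ∀ l : Fin t, ¬(m = 4 ∧ l.1 + 1 = t) → (Finset.univ.filter fun a => vs hm l a = a).card = m - 2 := by
    intro l hl
    have : (Finset.univ.filter fun a => vs hm l a = a) =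
        ({(⟨0, by omega⟩ : Fin m), ⟨1, by omega⟩} : Finset (Fin m))ᶜ := by
      ext a
      simp only [Finset.mem_filter, Finset.mem_univ, true_and, Finset.mem_compl, Finset.mem_insert,
        Finset.mem_singleton, vs, dif_neg hl, not_or]
      rw [Equiv.swap_apply_def]
      split_ifs with h1 h3 <;> simp_all [Fin.ext_iff]
    rw [this, Finset.card_compl, Fintype.card_fin, Finset.card_pair (by simp [Fin.ext_iff])]
  refine ⟨fun h3 => ?_, fun h4 ht => ?_, fun h5 => ?_⟩
  · exact Finset.prod_eq_one fun l _ => by rw [hlow l (by omega)]; omega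
  · refine Finset.prod_eq_zero (Finset.mem_univ (⟨t - 1, by omega⟩ : Fin t)) (Finset.card_eq_zero.2 ?_)
    subst h4
    rw [Finset.filter_eq_empty_iff]
    intro a _
    unfold vs
    rw [dif_pos ⟨rfl, by simp; omega⟩]
    fin_cases a <;> simp [Equiv.swap_apply_def, Fin.ext_iff]
  · rw [Finset.prod_congr rfl fun l _ => hlow l (by omega), Finset.prod_const, Finset.card_univ, Fintype.card_fin]

/-- twice the rank plus the number of fixed points, for a fixed point free permutation of the factors -/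
theorem perm_rank (hm0 : 0 < m) (ht : 0 < t) (h2 : (2 : F) = 0) {σ : Equiv.Perm (Fin t)} (hσ : σ * σ = 1) (hfree : ∀ l, σ l ≠ l) :
    ∃ N : ℕ, 2 * (((permGL σ : GL (Fin t → Fin m) F) : Mat) - 1).rank + N = m ^ t ∧
      N * N ≤ m ^ t ∧ m ≤ N := by
  classical
  have hσ2 : ∀ l, σ (σ l) = l := fun l => by rw [← Equiv.Perm.mul_apply, hσ, Equiv.Perm.one_apply]
  refine ⟨(Finset.univ.filter fun x : Fin t → Fin m => x ∘ σ = x).card, ?_, ?_, ?_⟩
  · have := rank_perm_involution (F := F) h2 (fun x : Fin t → Fin m => x ∘ σ)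
      (fun x => funext fun l => by simp [hσ2])
    rw [Fintype.card_fun, Fintype.card_fin, Fintype.card_fin] at this
    rw [permGL_coe]
    exact this
  · set R := Finset.univ.filter fun l : Fin t => l < σ l with hR
    set S := Finset.univ.filter fun x : Fin t → Fin m => x ∘ σ = x with hS
    have h1 : S.card ≤ m ^ R.card := by
      have := Finset.card_le_card_of_injOn (s := S) (t := (Finset.univ : Finset (R → Fin m)))
        (fun x (l : R) => x l.1) (fun _ _ => Finset.mem_univ _) (fun x hx y hy e => by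
          simp [hS] at hx hy
          funext l
          rcases lt_trichotomy l (σ l) with h | h | h
          · exact congrFun e ⟨l, by simp [hR, h]⟩
          · exact absurd h.symm (hfree l)
          · rw [← congrFun hx l, ← congrFun hy l]
            exact congrFun e ⟨σ l, by simp [hR, hσ2, h]⟩)
      simpa using this
    have h3 : R.card + R.card ≤ t := by
      have h4 : (R.image σ).card = R.card := Finset.card_image_of_injective _ σ.injective
      have hd : Disjoint R (R.image σ) := Finset.disjoint_left.2 fun l hl hl' => by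
        obtain ⟨p, hp, rfl⟩ := Finset.mem_image.1 hl'
        simp [hR, hσ2] at hl hp
        exact lt_asymm hl hp
      have := Finset.card_le_univ (R ∪ R.image σ)
      rw [Finset.card_union_of_disjoint hd, h4, Fintype.card_fin] at this
      exact this
    calc S.card * S.card ≤ m ^ R.card * m ^ R.card := Nat.mul_le_mul h1 h1
      _ = m ^ (R.card + R.card) := by rw [pow_add]
      _ ≤ m ^ t := Nat.pow_le_pow_right (by omega) h3
  ·
    have := Finset.card_le_card_of_injOn (s := (Finset.univ : Finset (Fin m)))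
      (t := Finset.univ.filter fun x : Fin t → Fin m => x ∘ σ = x) (fun a _ => a)
      (fun a _ => by simp [Function.comp_def]) (fun a _ b _ e => congrFun e ⟨0, ht⟩)
    simpa using this

/-- a fixed point free wreath involution is conjugate to a permutation of the factors -/
theorem rank_free (hm0 : 0 < m) (h2 : (2 : F) = 0) {σ : Equiv.Perm (Fin t)} (hσ : σ * σ = 1) (hfree : ∀ l, σ l ≠ l)
    {B : Fin t → GL (Fin m) F} (hw : permGL σ * pureGL B * (permGL σ * pureGL B) = 1) :
    (((permGL σ * pureGL B : GL (Fin t → Fin m) F) : Mat) - 1).rank =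
      (((permGL σ : GL (Fin t → Fin m) F) : Mat) - 1).rank := by
  classical
  haveI : NeZero m := ⟨by omega⟩
  haveI : Nonempty (Fin m) := ⟨⟨0, hm0⟩⟩
  have hσ2 : ∀ l, σ (σ l) = l := fun l => by rw [← Equiv.Perm.mul_apply, hσ, Equiv.Perm.one_apply]
  have hsq : pureGL ((B ∘ σ) * B) = (1 : GL (Fin t → Fin m) F) := by
    rwa [mul_assoc, ← mul_assoc (pureGL B), pureGL_perm, ← mul_assoc, ← mul_assoc, permGL_mul, hσ, permGL_one, one_mul,
      pureGL_mul] at hw
  have hsc : ∀ l, ∃ c : F, ((B (σ l) * B l : GL (Fin m) F) : Matrix (Fin m) (Fin m) F) = c • 1 := by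
    intro l
    have h1 := congrArg Units.val (hsq.trans pureGL_one.symm)
    rw [pureGL_coe, pureGL_coe] at h1
    obtain ⟨c, -, hc⟩ := pure_prop h1 (fun k => gl_ne_zero _) (fun k => gl_ne_zero _) l
    exact ⟨c, hc⟩
  let Q : Fin t → GL (Fin m) F := fun l => if l < σ l then 1 else B (σ l)
  let A' : Fin t → GL (Fin m) F := fun l => (Q (σ l))⁻¹ * B l * Q l
  have hA' : ∀ l, ∃ c : F, (A' l : Matrix (Fin m) (Fin m) F) = c • 1 := by
    intro l
    rcases lt_trichotomy l (σ l) with h | h | h
    · refine ⟨1, ?_⟩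
      simp [A', Q, h, hσ2, not_lt.2 h.le]
    · exact absurd h.symm (hfree l)
    · obtain ⟨c, hc⟩ := hsc (σ l)
      rw [hσ2] at hc
      refine ⟨c, ?_⟩
      simpa [A', Q, h, hσ2, not_lt.2 h.le] using hc
  choose c hc using hA'
  have hconj : pureGL Q * (permGL σ * pureGL A') = permGL σ * pureGL B * pureGL Q := by
    rw [← mul_assoc, pureGL_perm, mul_assoc, mul_assoc, pureGL_mul, pureGL_mul]
    congr 2
    funext l
    simp [A', mul_assoc]
  have hmat : ((permGL σ * pureGL A' : GL (Fin t → Fin m) F) : Mat) =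
      (∏ l, c l) • ((permGL σ : GL (Fin t → Fin m) F) : Mat) := by
    rw [Units.val_mul, pureGL_coe, show (fun l => (A' l : Matrix (Fin m) (Fin m) F)) =
      fun l => c l • (1 : Fin t → Matrix (Fin m) (Fin m) F) l from funext hc, pure_smul, pure_one, Matrix.mul_smul,
      mul_one]
  have hA'w : permGL σ * pureGL A' = (pureGL Q)⁻¹ * (permGL σ * pureGL B) * pureGL Q := by
    rw [mul_assoc (pureGL Q)⁻¹, ← hconj, inv_mul_cancel_left]
  have hone : permGL σ * pureGL A' * (permGL σ * pureGL A') = 1 := by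
    rw [hA'w, show (pureGL Q)⁻¹ * (permGL σ * pureGL B) * pureGL Q * ((pureGL Q)⁻¹ * (permGL σ * pureGL B) * pureGL Q) =
      (pureGL Q)⁻¹ * (permGL σ * pureGL B * (permGL σ * pureGL B)) * pureGL Q by group, hw]
    group
  have hC : (∏ l, c l) = 1 := by
    have h1 := congrArg Units.val hone
    rw [Units.val_mul, hmat, Matrix.smul_mul, Matrix.mul_smul, smul_smul, ← Units.val_mul, permGL_mul, hσ, permGL_one,
      Units.val_one] at h1
    have h3 := congrFun (congrFun h1 fun _ => ⟨0, hm0⟩) fun _ => ⟨0, hm0⟩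
    simp at h3
    exact eq_one_of_mul_self h2 h3
  rw [hC, one_smul] at hmat
  rw [← rank_cj (pureGL Q)⁻¹ (((permGL σ * pureGL B : GL (Fin t → Fin m) F) : Mat) - 1), cj_sub, cj_one, cj_coe,
    inv_inv, ← hA'w, hmat]

variable [Fintype F] {M : Subgroup (GL (Fin t → Fin m) F)}

include hm h2 in
/-- the centraliser of the chosen element -/
theorem Ctx.vc_centraliser (h : Ctx M) (ht : 2 ≤ t) {k : GL (Fin t → Fin m) F} (hk : k ∈ M)
    (hkz : k * pureGL (fun l => vc hm h2 l) = pureGL (fun l => vc hm h2 l) * k) :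
    k ∈ tensorWreathStandard m t F := by
  let i : Fin t := ⟨t - 1, by omega⟩
  let j : Fin t := ⟨0, by omega⟩
  have hj : ¬(m = 4 ∧ j.1 + 1 = t) := by simp [j]; omega
  obtain ⟨u, φ, hφu, hu, hφ, hcom, hne⟩ := exists_commuting_root hm h2 (A := vc hm h2 i) (vc_sq hm h2 i)
  refine h.gen_two h2 (fun l => vc_sq hm h2 l) (h.base.pure_mem _ fun l => vc_det hm h2 l) (i := i) (j := j)
    (by simp [i, j, Fin.ext_iff]; omega) ⟨u, φ, hφu, hu, hφ, rfl⟩ (vc_tv hm h2 hj) hcom rfl hne ?_ hk hkz
  rw [vc_sq, Units.val_one, sub_self, Matrix.rank_zero]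
  exact sub_one_ne hne

include hm h2 in
/-- a two-subgroup containing the chosen element lies in the wreath subgroup -/
theorem Ctx.pv_le (h : Ctx M) (ht : 2 ≤ t) {Q : Subgroup (GL (Fin t → Fin m) F)} (hQ : IsPGroup 2 Q) (hQM : Q ≤ M)
    (hvQ : pureGL (fun l => vc hm h2 l) ∈ Q) : Q ≤ tensorWreathStandard m t F := by
  classical
  haveI : Fact (Nat.Prime 2) := ⟨Nat.prime_two⟩
  haveI : NeZero m := ⟨by omega⟩
  haveI := hQ.isNilpotent
  set v := pureGL (fun l => vc hm h2 l) with hv
  set H : Subgroup Q := (tensorWreathStandard m t F).subgroupOf Q with hH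
  by_cases htop : H = ⊤
  · exact Subgroup.subgroupOf_eq_top.1 htop
  exfalso
  have hlt := Group.normalizerCondition_of_isNilpotent H (lt_top_iff_ne_top.2 htop)
  obtain ⟨n, hn, hnH⟩ := SetLike.exists_of_lt hlt
  have h1 : n * ⟨v, hvQ⟩ * n⁻¹ ∈ H :=
    (Subgroup.mem_normalizer_iff.1 hn ⟨v, hvQ⟩).1 (show v ∈ tensorWreathStandard m t F from pure_mem_tw _)
  obtain ⟨σ, B, hw⟩ := tw_shape (show (n : GL (Fin t → Fin m) F) * v * (n : GL (Fin t → Fin m) F)⁻¹ ∈ _ from h1)
  set g : GL (Fin t → Fin m) F := (n : GL (Fin t → Fin m) F) with hg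
  have hgM : g ∈ M := hQM n.2
  have hvv : v * v = 1 := pure_sq_one fun l => vc_sq hm h2 l
  have hww : permGL σ * pureGL B * (permGL σ * pureGL B) = 1 := by
    rw [← hw, show g * v * g⁻¹ * (g * v * g⁻¹) = g * (v * v) * g⁻¹ by group, hvv]; group
  have hσ : σ * σ = 1 := by
    have hp : HasPerm (permGL σ * pureGL B * (permGL σ * pureGL B)) (σ * σ) :=
      HasPerm.mul ⟨B, rfl⟩ ⟨B, rfl⟩
    rw [hww, ← pureGL_one] at hp
    exact hp.unique (by omega) (hasPerm_pure 1)
  by_cases hfix : ∃ f, σ f = f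
  · obtain ⟨f, hf⟩ := hfix
    have hsq : pureGL ((B ∘ σ) * B) = (1 : GL (Fin t → Fin m) F) := by
      rwa [mul_assoc, ← mul_assoc (pureGL B), pureGL_perm, ← mul_assoc, ← mul_assoc, permGL_mul, hσ, permGL_one,
        one_mul, pureGL_mul] at hww
    have h3 := congrArg Units.val (hsq.trans pureGL_one.symm)
    rw [pureGL_coe, pureGL_coe] at h3
    obtain ⟨c, hc0, hc⟩ := pure_prop h3 (fun k => gl_ne_zero _) (fun k => gl_ne_zero _) f
    simp only [Pi.mul_apply, Function.comp_apply, hf, Units.val_mul, Pi.one_apply, Units.val_one] at hc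
    obtain ⟨s, A', hs, hA', hBA⟩ := exists_involutive h2 hc0 hc
    obtain ⟨u, φ, hφu, hu, hφ, hcom, -⟩ := exists_commuting_root hm h2 hA'
    have hroot : IsRoot (sl f (tv u φ hφu) : GL (Fin t → Fin m) F) := isRoot_sl f hφu hu hφ
    have hcm : permGL σ * pureGL B * sl f (tv u φ hφu) = sl f (tv u φ hφu) * (permGL σ * pureGL B) := by
      refine wreath_comm fun l => ?_
      rcases eq_or_ne l f with rfl | hl
      · rw [hf, Pi.mulSingle_eq_same]
        refine Units.ext ?_
        have h4 := congrArg Units.val hcom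
        rw [Units.val_mul, Units.val_mul] at h4
        rw [Units.val_mul, Units.val_mul, hBA, Matrix.smul_mul, Matrix.mul_smul, h4]
      · have hl' : σ l ≠ f := fun e => hl (σ.injective (e.trans hf.symm))
        rw [Pi.mulSingle_eq_of_ne hl, Pi.mulSingle_eq_of_ne hl', one_mul, mul_one]
    rw [← hw] at hcm
    have hc' : g⁻¹ * sl f (tv u φ hφu) * g * v = v * (g⁻¹ * sl f (tv u φ hφu) * g) := by
      calc g⁻¹ * sl f (tv u φ hφu) * g * v = g⁻¹ * (sl f (tv u φ hφu) * (g * v * g⁻¹)) * g := by group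
        _ = g⁻¹ * (g * v * g⁻¹ * sl f (tv u φ hφu)) * g := by rw [hcm]
        _ = v * (g⁻¹ * sl f (tv u φ hφu) * g) := by group
    have htw := h.vc_centraliser hm h2 ht (M.mul_mem (M.mul_mem (M.inv_mem hgM) (hroot.mem h)) hgM) hc'
    have hgi : g⁻¹ ∈ tensorWreathStandard m t F :=
      h.fusion hroot (M.inv_mem hgM) (h.class_two h2 hroot (M.inv_mem hgM) (by rwa [inv_inv]))
    exact hnH ((Subgroup.inv_mem_iff _).1 hgi)
  · push Not at hfix
    obtain ⟨N, hN, h3, h4, h5⟩ := vc_rank (t := t) hm h2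
    obtain ⟨N', hN', hN'u, hN'l⟩ := perm_rank (F := F) (show 0 < m by omega) (show 0 < t by omega) h2 hσ hfix
    have hrk : (((g * v * g⁻¹ : GL (Fin t → Fin m) F) : Mat) - 1).rank =
        ((v : GL (Fin t → Fin m) F).val - 1).rank := by
      rw [← cj_coe, ← cj_one g, ← cj_sub, rank_cj, cj_one]
    rw [hw, rank_free (by omega) h2 hσ hfix hww] at hrk
    rw [hrk] at hN'
    have hNN : N' = N := by rw [hv] at hN'; omega
    subst hNN
    rcases Nat.lt_or_ge m 5 with hm5 | hm5
    · rcases (show m = 3 ∨ m = 4 by omega) with hm3 | hm4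
      · have := h3 hm3; omega
      · have := h4 hm4 (by omega); omega
    · rw [h5 hm5, ← mul_pow] at hN'u
      have hlt : m < (m - 2) * (m - 2) := by
        obtain ⟨d, rfl⟩ : ∃ d, m = d + 5 := ⟨m - 5, by omega⟩
        rw [show d + 5 - 2 = d + 3 by omega]
        nlinarith
      exact absurd hN'u (not_le.2 (Nat.pow_lt_pow_left hlt (by omega)))

end CfsgLib.Perm.Trans.TensorPower
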