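import Cfsg.Agent.Lib.Perm.Trans.TensorPower.Pattern

/-!
# Pure vectors, ranks and proportional factors
-/

set_option autoImplicit false
set_option linter.all false

namespace CfsgLib.Perm.Trans.TensorPower

open scoped Matrix
open Matrix Cfsg.Geo CfsgLib.Perm.Asch CfsgLib.Perm.Trans

variable {m t : ℕ} {F : Type*} [Field F]

/-- the pure tensor vector -/
def pv (v : Fin t → Fin m → F) : (Fin t → Fin m) → F := fun x => ∏ l, v l (x l)

theorem pv_dot (v w : Fin t → Fin m → F) : pv v ⬝ᵥ pv w = ∏ l, v l ⬝ᵥ w l := by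
  simp only [dotProduct, pv, Fintype.prod_sum, ← Finset.prod_mul_distrib]

theorem pure_pv (A : Fin t → Matrix (Fin m) (Fin m) F) (v : Fin t → Fin m → F) :
    CfsgLib.Perm.Asch.pure A *ᵥ pv v = pv fun l => A l *ᵥ v l := by
  funext x
  simp only [Matrix.mulVec, dotProduct, pv, pure_apply, Fintype.prod_sum, ← Finset.prod_mul_distrib]

theorem perm_pv (σ : Equiv.Perm (Fin t)) (v : Fin t → Fin m → F) :
    (permMat σ : Matrix (Fin t → Fin m) (Fin t → Fin m) F) *ᵥ pv v = pv fun l => v (σ.symm l) := by
  funext x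
  simp only [Matrix.mulVec, dotProduct, permMat, Matrix.of_apply, ite_mul, one_mul, zero_mul, Finset.sum_ite_eq',
    Finset.mem_univ, if_true, pv]
  rw [← Equiv.prod_comp σ (fun l => v (σ.symm l) (x l))]
  simp

/-- a wreath element on a pure vector -/
theorem wreath_pv (σ : Equiv.Perm (Fin t)) (A : Fin t → GL (Fin m) F) (v : Fin t → Fin m → F) :
    ((permGL σ * pureGL A : GL (Fin t → Fin m) F) : Matrix (Fin t → Fin m) (Fin t → Fin m) F) *ᵥ pv v =
      pv fun l => (A (σ.symm l) : Matrix (Fin m) (Fin m) F) *ᵥ v (σ.symm l) := by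
  rw [Units.val_mul, ← Matrix.mulVec_mulVec, pureGL_coe, pure_pv, permGL_coe, perm_pv]

/-- a functional that is one at `x` and zero at `y`, `z` -/
theorem exists_functional {x y z : Fin m → F} (h : x ∉ Submodule.span F ({y, z} : Set (Fin m → F))) :
    ∃ φ : Fin m → F, φ ⬝ᵥ x = 1 ∧ φ ⬝ᵥ y = 0 ∧ φ ⬝ᵥ z = 0 := by
  obtain ⟨φ, h1, h0⟩ := exists_dual _ h
  exact ⟨φ, h1, h0 y (Submodule.subset_span (Set.mem_insert _ _)),
    h0 z (Submodule.subset_span (Set.mem_insert_of_mem _ rfl))⟩

theorem exists_not_mem_pair (hm : 3 ≤ m) (y z : Fin m → F) :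
    ∃ x : Fin m → F, x ∉ Submodule.span F ({y, z} : Set (Fin m → F)) := by
  classical
  by_contra hcon
  push Not at hcon
  have htop : Submodule.span F ({y, z} : Set (Fin m → F)) = ⊤ := eq_top_iff.2 fun x _ => hcon x
  have h1 := finrank_span_finset_le_card (R := F) ({y, z} : Finset (Fin m → F))
  simp only [Finset.coe_insert, Finset.coe_singleton] at h1
  rw [Set.finrank, htop, finrank_top, Module.finrank_fintype_fun_eq_card, Fintype.card_fin] at h1
  have := Finset.card_le_two (a := y) (b := z)
  omega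

/-- equal non-zero pure tensors have proportional factors -/
theorem pure_prop {A B : Fin t → Matrix (Fin m) (Fin m) F}
    (h : CfsgLib.Perm.Asch.pure A = CfsgLib.Perm.Asch.pure B) (hA : ∀ l, A l ≠ 0) (hB : ∀ l, B l ≠ 0) (l : Fin t) :
    ∃ c : F, c ≠ 0 ∧ A l = c • B l := by
  classical
  have hne : ∀ k, ∃ x y, A k x y ≠ 0 := fun k => by
    by_contra hcon
    push Not at hcon
    exact hA k (Matrix.ext hcon)
  choose x y hxy using hne
  have hP : ∏ k, A k (x k) (y k) ≠ 0 := Finset.prod_ne_zero_iff.2 fun k _ => hxy k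
  have hQ : ∏ k, B k (x k) (y k) ≠ 0 := by
    have := congrFun (congrFun h x) y
    simp only [pure_apply] at this
    rwa [← this]
  have hcA : ∏ k ∈ Finset.univ.erase l, A k (x k) (y k) ≠ 0 := Finset.prod_ne_zero_iff.2 fun k _ => hxy k
  have hcB : ∏ k ∈ Finset.univ.erase l, B k (x k) (y k) ≠ 0 := Finset.prod_ne_zero_iff.2 fun k _ =>
    Finset.prod_ne_zero_iff.1 hQ k (Finset.mem_univ k)
  refine ⟨(∏ k ∈ Finset.univ.erase l, B k (x k) (y k)) / ∏ k ∈ Finset.univ.erase l, A k (x k) (y k),
    div_ne_zero hcB hcA, Matrix.ext fun a b => ?_⟩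
  have h1 := congrFun (congrFun h (Function.update x l a)) (Function.update y l b)
  simp only [pure_apply] at h1
  rw [← Finset.mul_prod_erase _ _ (Finset.mem_univ l), ← Finset.mul_prod_erase _ _ (Finset.mem_univ l)] at h1
  simp only [Function.update_self] at h1
  have e : ∀ (C : Fin t → Matrix (Fin m) (Fin m) F), ∏ k ∈ Finset.univ.erase l,
      C k (Function.update x l a k) (Function.update y l b k) = ∏ k ∈ Finset.univ.erase l, C k (x k) (y k) :=
    fun C => Finset.prod_congr rfl fun k hk => by simp [Finset.ne_of_mem_erase hk]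
  rw [e, e] at h1
  rw [Matrix.smul_apply, smul_eq_mul, div_mul_eq_mul_div, eq_div_iff hcA, h1, mul_comm]

theorem slot_ne_zero [NeZero m] (i : Fin t) {X : Matrix (Fin m) (Fin m) F} (h : X ≠ 0) :
    (slot i X : Matrix (Fin t → Fin m) (Fin t → Fin m) F) ≠ 0 := fun e => by
  haveI : Nonempty (Fin m) := ⟨0⟩
  exact h (slot_injective i (e.trans (slotHom i).map_zero.symm))

theorem one_ne_zero_mat [NeZero m] : (1 : Matrix (Fin m) (Fin m) F) ≠ 0 := fun e => by
  have := congrFun (congrFun e 0) 0
  simp at this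

/-! ### ranks -/

theorem rank_cj {ι : Type} [Fintype ι] [DecidableEq ι] (g : GL ι F) (X : Matrix ι ι F) : (cj g X).rank = X.rank := by
  have hu : IsUnit (g : Matrix ι ι F).det := (Matrix.isUnit_iff_isUnit_det _).1 g.isUnit
  have hu' : IsUnit ((g⁻¹ : GL ι F) : Matrix ι ι F).det := (Matrix.isUnit_iff_isUnit_det _).1 (g⁻¹).isUnit
  rw [cj, Matrix.rank_mul_eq_left_of_isUnit_det _ _ hu', Matrix.rank_mul_eq_right_of_isUnit_det _ _ hu]

theorem rank_units_mul {ι : Type} [Fintype ι] [DecidableEq ι] (g h : GL ι F) (X : Matrix ι ι F) :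
    ((g : Matrix ι ι F) * X * (h : Matrix ι ι F)).rank = X.rank := by
  rw [Matrix.rank_mul_eq_left_of_isUnit_det _ _ ((Matrix.isUnit_iff_isUnit_det _).1 h.isUnit),
    Matrix.rank_mul_eq_right_of_isUnit_det _ _ ((Matrix.isUnit_iff_isUnit_det _).1 g.isUnit)]

/-- coordinates on which a matrix is a signed identity bound the rank below -/
theorem card_le_rank {ι : Type} [Fintype ι] [DecidableEq ι] (X : Matrix ι ι F) (S : Finset ι) (c : F) (hc : c ≠ 0)
    (h : ∀ x ∈ S, ∀ y ∈ S, X x y = if x = y then c else 0) : S.card ≤ X.rank := by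
  have h1 : (X.submatrix (fun s : S => (s : ι)) (fun s : S => (s : ι))) = c • (1 : Matrix S S F) := by
    ext x y
    rw [Matrix.submatrix_apply, h x x.2 y y.2, Matrix.smul_apply, Matrix.one_apply, smul_eq_mul]
    by_cases e : x = y
    · simp [e]
    · simp [e, Subtype.coe_injective.ne e]
  have h2 : (c • (1 : Matrix S S F)).rank = S.card := by
    rw [Matrix.rank_of_isUnit, Fintype.card_coe]
    exact (Matrix.isUnit_iff_isUnit_det _).2 (by simp [hc])
  rw [← h2, ← h1]
  exact Matrix.rank_submatrix_le _ _ _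

/-- the vectors `e_x` with `x i = a` -/
theorem rank_sx (i : Fin t) (a b : Fin m) :
    (sx (F := F) i a b).rank = (Finset.univ.filter fun x : Fin t → Fin m => x i = a).card := by
  classical
  set S := Finset.univ.filter fun x : Fin t → Fin m => x i = a
  refine le_antisymm ?_ ?_
  · refine Matrix.rank_le_card_of_support_subset _ S fun x hx => ?_
    by_contra hS
    refine hx (funext fun y => ?_)
    simp only [S, Finset.coe_filter, Finset.mem_univ, true_and, Set.mem_setOf_eq] at hS
    show sx (F := F) i a b x y = 0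
    rw [sx, slot_apply]
    split_ifs <;> simp [Matrix.single_apply, Ne.symm hS]
  · let π : Equiv.Perm (Fin t → Fin m) :=
      { toFun := fun x => Function.update x i (Equiv.swap a b (x i))
        invFun := fun x => Function.update x i (Equiv.swap a b (x i))
        left_inv := fun x => by simp
        right_inv := fun x => by simp }
    have := card_le_rank ((sx (F := F) i a b).submatrix id π) S 1 one_ne_zero fun x hx y hy => by
      simp only [S, Finset.mem_filter, Finset.mem_univ, true_and] at hx hy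
      rw [Matrix.submatrix_apply, sx, slot_apply, id, hx]
      simp only [π, Equiv.coe_fn_mk, Function.update_self, hy, Equiv.swap_apply_left, Matrix.single_apply_same]
      refine if_congr ⟨fun h => funext fun k => ?_, fun h k hk => by simp [hk, h]⟩ rfl rfl
      rcases eq_or_ne k i with rfl | hk
      · rw [hx, hy]
      · simpa [hk] using h k hk
    exact this.trans (Matrix.rank_submatrix_le _ _ _)

end CfsgLib.Perm.Trans.TensorPower
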